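import Cfsg.Agent.Coprime.Basic
import Cfsg.Agent.Invol.ZStar
import Cfsg.Agent.Invol.Isolated

/-!
Consequences of the solvability of groups of odd order, stated with that theorem as a hypothesis
`OddSolvable` so that they can be proved independently of it.
-/

set_option autoImplicit false

open Subgroup
open scoped Pointwise

namespace Cfsg.Agent.FTCons

universe u

/-- Every finite group of odd order in the universe `u` is solvable. -/
def OddSolvable : Prop :=
  ∀ (H : Type u) [Group H] [Finite H], Odd (Nat.card H) → Group.IsSolvable H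

variable {G : Type u} [Group G] [Finite G]

/-- Of two groups of coprime orders one is solvable. -/
theorem solvable_or_of_coprime (hFT : OddSolvable.{u}) {A B : Type u} [Group A] [Finite A] [Group B]
    [Finite B] (h : (Nat.card A).Coprime (Nat.card B)) :
    Group.IsSolvable A ∨ Group.IsSolvable B := by
  rcases Nat.even_or_odd (Nat.card A) with hA | hA
  · rcases Nat.even_or_odd (Nat.card B) with hB | hB
    · exact absurd (Nat.dvd_gcd hA.two_dvd hB.two_dvd) (by rw [h.gcd_eq_one]; decide)
    · exact Or.inr (hFT B hB)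
  · exact Or.inl (hFT A hA)

/-- Schur-Zassenhaus conjugacy without a solvability hypothesis. -/
theorem conj_complement (hFT : OddSolvable.{u}) {N : Subgroup G} [N.Normal]
    (hN : (Nat.card N).Coprime N.index) {H K : Subgroup G} (hH : IsComplement' N H)
    (hK : IsComplement' N K) : ∃ n ∈ N, MulAut.conj n • H = K :=
  Coprime.exists_conj_of_isComplement' hN
    (solvable_or_of_coprime hFT (by rwa [Coprime.card_eq_index_of_isComplement' hH])) hH hK

/-- A solvable simple group is cyclic. -/
theorem isCyclic_of_solvable [IsSimpleGroup G] (h : Group.IsSolvable G) : IsCyclic G := by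
  have hcomm : ∀ a b : G, a * b = b * a := IsSimpleGroup.comm_iff_isSolvable.2 h
  let _ : CommGroup G := { ‹Group G› with mul_comm := hcomm }
  exact inferInstance

/-- A simple group with a nontrivial central element is cyclic. -/
theorem isCyclic_of_central [IsSimpleGroup G] {z : G} (hz : z ∈ center G) (hz1 : z ≠ 1) :
    IsCyclic G := by
  have hc : center G = ⊤ := by
    rcases IsSimpleGroup.eq_bot_or_eq_top_of_normal (center G) inferInstance with h | h
    · exact absurd (Subgroup.mem_bot.1 (h ▸ hz)) hz1
    · exact h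
  let _ : CommGroup G := { ‹Group G› with
    mul_comm := fun a b => (Subgroup.mem_center_iff.1 (hc ▸ Subgroup.mem_top a) b).symm }
  exact inferInstance

theorem even_card_of_simple (hFT : OddSolvable.{u}) [IsSimpleGroup G] (hG : ¬ IsCyclic G) :
    Even (Nat.card G) := by
  by_contra h
  exact hG (isCyclic_of_solvable (hFT G (Nat.not_even_iff_odd.1 h)))

/-- The core of a simple group of even order is trivial. -/
theorem oddCore_eq_bot_of_simple [IsSimpleGroup G] (he : Even (Nat.card G)) :
    Cfsg.oddCore G = ⊥ := by
  rcases IsSimpleGroup.eq_bot_or_eq_top_of_normal (Cfsg.oddCore G) inferInstance with h | h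
  · exact h
  · have h2 := Core.not_dvd_card_pPrimeCore (p := 2) (G := G)
    exfalso
    apply h2
    rw [show Cfsg.pPrimeCore 2 G = ⊤ from h, Subgroup.card_top]
    exact he.two_dvd

/-- An involution of a `2`-group centre. -/
theorem exists_central_involution {p : ℕ} [Fact p.Prime] (P : Subgroup G) (hP : IsPGroup p P)
    (hne : P ≠ ⊥) : ∃ z ∈ P, orderOf z = p ∧ ∀ x ∈ P, x * z = z * x := by
  have : Nontrivial P := (Subgroup.nontrivial_iff_ne_bot P).2 hne
  have := hP.center_nontrivial
  obtain ⟨k, hk0, hk⟩ :=
    (hP.to_subgroup (Subgroup.center P)).nontrivial_iff_card.1 inferInstance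
  obtain ⟨z, hz⟩ := exists_prime_orderOf_dvd_card' (G := Subgroup.center P) p
    (hk ▸ dvd_pow_self p hk0.ne')
  refine ⟨((z : P) : G), (z : P).2, ?_, fun x hx => ?_⟩
  · rw [← hz, Subgroup.orderOf_coe, Subgroup.orderOf_coe]
  · exact congrArg Subtype.val (Subgroup.mem_center_iff.1 z.2 ⟨x, hx⟩)

/-- Two commuting involutions generate a Klein four-group. -/
theorem exists_klein_of_commute {z t : G} (hz : orderOf z = 2) (ht : orderOf t = 2) (hne : z ≠ t)
    (hc : Commute z t) : ∃ E : Subgroup G, IsKleinFour E := by
  classical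
  have hz2 : z * z = 1 := by have := pow_orderOf_eq_one z; rwa [hz, pow_two] at this
  have ht2 : t * t = 1 := by have := pow_orderOf_eq_one t; rwa [ht, pow_two] at this
  have hz1 : z ≠ 1 := fun h => by rw [h, orderOf_one] at hz; omega
  have ht1 : t ≠ 1 := fun h => by rw [h, orderOf_one] at ht; omega
  have hzi : z⁻¹ = z := inv_eq_of_mul_eq_one_right hz2
  have hti : t⁻¹ = t := inv_eq_of_mul_eq_one_right ht2
  have htz : t * z = z * t := hc.eq.symm
  have hztz : z * t * z = t := by rw [mul_assoc, htz, ← mul_assoc, hz2, one_mul]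
  let E : Subgroup G :=
    { carrier := {1, z, t, z * t}
      one_mem' := Or.inl rfl
      mul_mem' := by
        rintro a b (rfl | rfl | rfl | rfl) (rfl | rfl | rfl | rfl) <;>
          simp [hz2, ht2, htz, hztz, ← mul_assoc]
        all_goals simp [mul_assoc, ht2]
      inv_mem' := by
        rintro a (rfl | rfl | rfl | rfl) <;> simp [hzi, hti, htz] }
  have hmem : ∀ x : G, x ∈ E ↔ x = 1 ∨ x = z ∨ x = t ∨ x = z * t := fun x => Iff.rfl
  have hzt1 : z * t ≠ 1 := fun h => hne (by rw [← hti]; exact eq_inv_of_mul_eq_one_left h)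
  refine ⟨E, ⟨?_, ?_⟩⟩
  · have hset : (E : Set G) = ↑({1, z, t, z * t} : Finset G) := by
      ext x
      simp [hmem]
    rw [show Nat.card E = (E : Set G).ncard from Nat.card_coe_set_eq _, hset, Set.ncard_coe_finset]
    rw [Finset.card_insert_of_notMem (by simp [hz1.symm, ht1.symm, hzt1.symm]),
      Finset.card_insert_of_notMem (by simp [hne, ht1]),
      Finset.card_insert_of_notMem (by simp [hz1]), Finset.card_singleton]
  · have : Nontrivial E := ⟨⟨⟨z, (hmem z).2 (Or.inr (Or.inl rfl))⟩, 1,
      fun h => hz1 (congrArg Subtype.val h)⟩⟩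
    refine (Monoid.exponent_eq_prime_iff Nat.prime_two).2 fun x hx => ?_
    refine orderOf_eq_prime ?_ hx
    rcases (hmem x).1 x.2 with h | h | h | h <;> apply Subtype.ext <;>
      simp [h, pow_two, hz2, ht2, ← mul_assoc, hztz]

/-- A noncyclic finite simple group has a Klein four-subgroup. -/
theorem exists_klein (hFT : OddSolvable.{u}) [IsSimpleGroup G] (hG : ¬ IsCyclic G) :
    ∃ E : Subgroup G, IsKleinFour E := by
  have he := even_card_of_simple hFT hG
  obtain ⟨P⟩ : Nonempty (Sylow 2 G) := inferInstance
  obtain ⟨z, hzP, hz, hzc⟩ := exists_central_involution (P : Subgroup G) P.2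
    (P.ne_bot_of_dvd_card he.two_dvd)
  by_cases hu : ∀ t ∈ (P : Subgroup G), orderOf t = 2 → t = z
  · have hiso := Invol.isolated_of_sylow P hz fun g hg => hu _ hg ((Invol.orderOf_conj g z).trans hz)
    exfalso
    refine hG (isCyclic_of_central (z := z) (Subgroup.mem_center_iff.2 fun g => ?_)
      (fun h => by rw [h, orderOf_one] at hz; omega))
    have h := Invol.zstar hiso g
    rw [oddCore_eq_bot_of_simple he, Subgroup.mem_bot, mul_inv_eq_one, mul_inv_eq_iff_eq_mul] at h
    exact h.symm
  · push Not at hu
    obtain ⟨t, htP, ht, htz⟩ := hu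
    exact exists_klein_of_commute hz ht (Ne.symm htz) (hzc t htP).symm

end Cfsg.Agent.FTCons
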