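import Cfsg.Agent.FTCons.AutFixSylow
import Cfsg.Agent.Core.Solvable
import Mathlib.GroupTheory.SemidirectProduct
import Mathlib.GroupTheory.Transfer

/-!
The group of automorphisms fixing a Sylow `2`-subgroup pointwise (Glauberman).
-/

set_option autoImplicit false

open Subgroup
open scoped Pointwise

namespace Cfsg.Agent.FTCons

universe u

variable {G : Type u} [Group G] [Finite G]

/-- The setting of `G ⋊ T` and what weak closure in it gives. -/
theorem exists_fixData (hO : ∀ N : Subgroup G, N.Normal → Odd (Nat.card N) → N = ⊥) (S : Sylow 2 G)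
    {T : Type u} [Group T] [Finite T] (hT : IsPGroup 2 T) (φ : T →* MulAut G)
    (hinj : Function.Injective φ) (hfix : ∀ t : T, ∀ a : G, a ∈ S → φ t a = a) :
    ∃ P : Sylow 2 (G ⋊[φ] T), FixData (G ⋊[φ] T) (SemidirectProduct.inl : G →* G ⋊[φ] T).range
        ((S : Subgroup G).map SemidirectProduct.inl) (SemidirectProduct.inr : T →* G ⋊[φ] T).range P ∧
      ∀ t : T, (∀ g : G ⋊[φ] T, g * SemidirectProduct.inr t * g⁻¹ ∈ (P : Subgroup (G ⋊[φ] T)) →
        g * SemidirectProduct.inr t * g⁻¹ = SemidirectProduct.inr t) → t = 1 := by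
  classical
  let M := G ⋊[φ] T
  have : Finite M := Finite.of_equiv (G × T) SemidirectProduct.equivProd.symm
  set il : G →* M := SemidirectProduct.inl with hil
  set ir : T →* M := SemidirectProduct.inr with hir
  have hN : il.range.Normal := by
    rw [hil, SemidirectProduct.range_inl_eq_ker_rightHom]; infer_instance
  set S' := (S : Subgroup G).map il with hS'
  have hcomm : ∀ a ∈ S', ∀ b ∈ ir.range, Commute a b := by
    rintro _ ⟨a, ha, rfl⟩ _ ⟨b, rfl⟩
    have h := SemidirectProduct.inl_aut (φ := φ) b a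
    rw [hfix b a ha, map_inv] at h
    change il a * ir b = ir b * il a
    calc il a * ir b = ir b * il a * (ir b)⁻¹ * ir b := congrArg (· * ir b) h
      _ = _ := inv_mul_cancel_right _ _
  have hTn : ir.range ≤ normalizer (S' : Set M) := fun b hb => by
    rw [mem_normalizer_iff]
    intro v
    constructor
    · intro hv; rwa [← (hcomm v hv b hb).eq, mul_inv_cancel_right]
    · intro hv
      have h := hcomm _ hv b⁻¹ (ir.range.inv_mem hb)
      have e : b * v * b⁻¹ = v := by
        calc b * v * b⁻¹ = b * v * b⁻¹ * b⁻¹ * b := (inv_mul_cancel_right _ _).symm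
          _ = b⁻¹ * (b * v * b⁻¹) * b := by rw [h.eq]
          _ = v := by rw [mul_assoc b⁻¹, inv_mul_cancel_right, inv_mul_cancel_left]
      rw [← e]
      exact hv
  have hdisj : ir.range ⊓ il.range = ⊥ := by
    rw [eq_bot_iff]
    rintro x ⟨⟨b, rfl⟩, ⟨a, ha⟩⟩
    have h2 : (il a).right = (ir b).right := congrArg (fun x : M => x.right) ha
    change (1 : T) = b at h2
    rw [mem_bot, ← h2, map_one]
  have hS'r : S' ≤ il.range := map_le_range il (S : Subgroup G)
  have hinf : S' ⊓ ir.range = ⊥ := le_bot_iff.1 ((le_inf inf_le_right (inf_le_left.trans hS'r)).trans hdisj.le)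
  have hcard : Nat.card (S' ⊔ ir.range : Subgroup M) = 2 ^ (Nat.card M).factorization 2 := by
    rw [Coprime.card_sup_eq_mul hTn hinf, hS', card_map_of_injective SemidirectProduct.inl_injective,
      ← Nat.card_congr (MonoidHom.ofInjective (f := ir) SemidirectProduct.inr_injective).toEquiv,
      S.card_eq_multiplicity, show Nat.card M = Nat.card G * Nat.card T from
        (Nat.card_congr SemidirectProduct.equivProd).trans (Nat.card_prod G T),
      Nat.factorization_mul Nat.card_pos.ne' Nat.card_pos.ne', Finsupp.add_apply, pow_add]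
    obtain ⟨k, hk⟩ := IsPGroup.iff_card.1 hT
    rw [hk, Nat.prime_two.factorization_pow, Finsupp.single_eq_same]
  let P : Sylow 2 M := Sylow.ofCard (S' ⊔ ir.range) hcard
  have hP : (P : Subgroup M) = S' ⊔ ir.range := rfl
  refine ⟨P, ⟨hN, hS'r, hP ▸ le_sup_left, hP ▸ le_sup_right, hdisj, hcomm, ?_, ?_⟩, ?_⟩
  · intro p hp
    rw [hP, Coprime.mem_sup_of_le_normalizer hTn] at hp
    exact hp
  · intro g
    exact ⟨il g.left, ⟨g.left, rfl⟩, ir g.right, ⟨g.right, rfl⟩, SemidirectProduct.inl_left_mul_inr_right g⟩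
  · intro t ht
    have htP : ir t ∈ (P : Subgroup M) := hP ▸ mem_sup_right ⟨t, rfl⟩
    have hz := zstar_elt (Nat.card M) M rfl P (ir t) htP ht
    set V := (Cfsg.oddCore M).comap il with hV
    have hVn : V.Normal := Normal.comap inferInstance il
    have hVo : Odd (Nat.card V) := by
      rw [← Nat.not_even_iff_odd, even_iff_two_dvd]
      intro h2
      apply Core.not_dvd_card_pPrimeCore (p := 2) (G := M)
      refine h2.trans ?_
      rw [← card_map_of_injective (f := il) SemidirectProduct.inl_injective]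
      exact card_dvd_of_le (map_comap_le il _)
    have hV1 := hO V hVn hVo
    refine hinj (MulEquiv.ext fun g => ?_)
    have hg := hz (il g)
    rw [show ir t * il g * (ir t)⁻¹ * (il g)⁻¹ = il (φ t g * g⁻¹) by
      rw [hil, hir, map_mul, map_inv, SemidirectProduct.inl_aut, map_inv]] at hg
    have : φ t g * g⁻¹ ∈ V := hg
    rw [hV1, mem_bot, mul_inv_eq_one] at this
    rw [this, map_one]
    rfl

/-- The group of automorphisms fixing `S` pointwise. -/
theorem fix_sylow_structure (hFT : OddSolvable.{u})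
    (hO : ∀ N : Subgroup G, N.Normal → Odd (Nat.card N) → N = ⊥) (S : Sylow 2 G)
    (C : Subgroup (MulAut G)) (hC : ∀ φ : MulAut G, φ ∈ C ↔ ∀ s : G, s ∈ S → φ s = s) :
    (∀ T : Sylow 2 ↥C, (∀ a b : ↥T, a * b = b * a) ∧
      ∃ N : Subgroup ↥C, N.Normal ∧ Subgroup.IsComplement' N (T : Subgroup ↥C)) ∧
      Group.IsSolvable ↥C := by
  classical
  have : Finite (MulAut G) := Finite.of_injective (fun e : MulAut G => (e : G → G)) DFunLike.coe_injective
  have main : ∀ T : Sylow 2 ↥C, (∀ a b : ↥T, a * b = b * a) ∧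
      normalizer ((T : Subgroup ↥C) : Set ↥C) ≤ centralizer ((T : Subgroup ↥C) : Set ↥C) := by
    intro T
    let φ : ↥T →* MulAut G := C.subtype.comp (T : Subgroup ↥C).subtype
    have hinj : Function.Injective φ := C.subtype_injective.comp (T : Subgroup ↥C).subtype_injective
    have hfix : ∀ (t : ↥T) (a : G), a ∈ S → φ t a = a := fun t a ha =>
      (hC _).1 (t : ↥C).2 a ha
    obtain ⟨P, hd, hkill⟩ := exists_fixData hO S T.2 φ hinj hfix
    have : Finite (G ⋊[φ] ↥T) := Finite.of_equiv (G × ↥T) SemidirectProduct.equivProd.symm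
    have hab : ∀ a b : ↥T, a * b = b * a := by
      by_contra hne
      push Not at hne
      obtain ⟨a, b, hab⟩ := hne
      have : Group.IsNilpotent ↥T := T.2.isNilpotent
      have hK : commutator ↥T ≠ ⊥ := fun h => hab (by
        have h1 : a * b * a⁻¹ * b⁻¹ ∈ commutator ↥T :=
          Subgroup.commutator_mem_commutator (mem_top a) (mem_top b)
        rw [h, mem_bot, mul_inv_eq_one, mul_inv_eq_iff_eq_mul] at h1
        exact h1)
      obtain ⟨t, ht, ht1⟩ := (commutator ↥T ⊓ center ↥T).bot_or_exists_ne_one.resolve_left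
        (Core.inf_center_ne_bot hK)
      refine ht1 (hkill t fun g => hd.weakly_closed_of_commutator ⟨t, rfl⟩ ?_ ?_ g)
      · rintro _ ⟨b', rfl⟩
        change _ = _
        rw [← map_mul, ← map_mul, mem_center_iff.1 (mem_inf.1 ht).2 b']
      · have := mem_map_of_mem (SemidirectProduct.inr : ↥T →* G ⋊[φ] ↥T) (mem_inf.1 ht).1
        rwa [commutator_def, map_commutator, ← MonoidHom.range_eq_map] at this
    refine ⟨hab, ?_⟩
    intro y hy
    -- it suffices to treat elements of odd order
    suffices hodd : ∀ y ∈ normalizer ((T : Subgroup ↥C) : Set ↥C), Odd (orderOf y) →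
        y ∈ centralizer ((T : Subgroup ↥C) : Set ↥C) by
      obtain ⟨c, o, ho, hord⟩ := Nat.exists_eq_pow_mul_and_not_dvd (orderOf_pos y).ne' 2 (by decide)
      have hoddn : Odd o := Nat.odd_iff.2 (by omega)
      have h1 : y ^ o ∈ centralizer ((T : Subgroup ↥C) : Set ↥C) := by
        have hwp : IsPGroup 2 (zpowers (y ^ o)) := IsPGroup.of_card (n := c) (by
          rw [Nat.card_zpowers, orderOf_pow_of_dvd (by omega) ⟨2 ^ c, by rw [hord]; ring⟩, hord,
            Nat.mul_div_cancel _ (by omega)])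
        have hyT : y ^ o ∈ (T : Subgroup ↥C) :=
          (T.3 (hwp.to_sup_of_normal_right' T.2 (zpowers_le.2 (pow_mem hy o))) le_sup_right) ▸
            mem_sup_left (mem_zpowers _)
        exact mem_centralizer_iff.2 fun v hv => congrArg Subtype.val (hab ⟨v, hv⟩ ⟨_, hyT⟩)
      have h2 : y ^ (2 ^ c) ∈ centralizer ((T : Subgroup ↥C) : Set ↥C) := hodd _ (pow_mem hy _) (by
        rw [orderOf_pow_of_dvd (by positivity) ⟨o, hord⟩, hord, Nat.mul_div_cancel_left _ (by positivity)]
        exact hoddn)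
      have hcop : IsCoprime ((o : ℕ) : ℤ) ((2 ^ c : ℕ) : ℤ) :=
        Nat.isCoprime_iff_coprime.2 ((Nat.coprime_two_right.2 hoddn).pow_right c)
      obtain ⟨x, z, hxz⟩ := hcop
      rw [← zpow_one y, ← hxz, zpow_add, mul_comm x, mul_comm z, zpow_mul, zpow_mul, zpow_natCast,
        zpow_natCast]
      exact mul_mem (zpow_mem h1 x) (zpow_mem h2 z)
    clear y hy
    intro y hy hyodd
    have hyT : ∀ v : ↥T, y * (v : ↥C) * y⁻¹ ∈ (T : Subgroup ↥C) := fun v =>
      (mem_normalizer_iff.1 hy v).1 v.2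
    let c : ↥T ≃* ↥T :=
      { toFun := fun v => ⟨y * v * y⁻¹, hyT v⟩
        invFun := fun v => ⟨y⁻¹ * v * y, by
          have := (mem_normalizer_iff.1 (inv_mem hy) v).1 v.2
          rwa [inv_inv] at this⟩
        left_inv := fun v => Subtype.ext (by simp [mul_assoc])
        right_inv := fun v => Subtype.ext (by simp [mul_assoc])
        map_mul' := fun a b => Subtype.ext (by simp [mul_assoc]) }
    let α : MulAut (G ⋊[φ] ↥T) := SemidirectProduct.congr (φ₁ := φ) (φ₂ := φ) (y : MulAut G) c
      (fun v => MulEquiv.ext fun g => by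
        change ((y : MulAut G)) (((v : ↥C) : MulAut G) g) =
          ((y * (v : ↥C) * y⁻¹ : ↥C) : MulAut G) ((y : MulAut G) g)
        simp)
    let ψ : ↥T →* ↥T :=
      { toFun := fun v => c v * v⁻¹
        map_one' := by simp
        map_mul' := fun a b => by
          rw [map_mul, mul_inv_rev, mul_assoc (c a), ← mul_assoc (c b), hab (c b * b⁻¹), mul_assoc] }
    -- a fixed point in the image is trivial
    have hker : ∀ w ∈ ψ.range, ψ w = 1 → w = 1 := by
      rintro _ ⟨v, rfl⟩ hw
      set w := ψ v with hwdef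
      have hcw : c w = w := mul_inv_eq_one.1 hw
      have hcv : c v = w * v := by
        rw [hwdef]; exact (inv_mul_cancel_right (c v) v).symm
      have hstep : ∀ i : ℕ, (y ^ i : ↥C) * (v : ↥C) * (y ^ i)⁻¹ = ((w : ↥C)) ^ i * (v : ↥C) := by
        intro i
        induction i with
        | zero => simp
        | succ i ih =>
          have e1 : y * (w : ↥C) * y⁻¹ = (w : ↥C) := congrArg Subtype.val hcw
          have e2 : y * (v : ↥C) * y⁻¹ = (w : ↥C) * (v : ↥C) := congrArg Subtype.val hcv
          calc (y ^ (i + 1) : ↥C) * (v : ↥C) * (y ^ (i + 1))⁻¹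
              = y * (y ^ i * (v : ↥C) * (y ^ i)⁻¹) * y⁻¹ := by rw [pow_succ']; group
            _ = (y * (w : ↥C) * y⁻¹) ^ i * (y * (v : ↥C) * y⁻¹) := by rw [ih, conj_pow]; group
            _ = (w : ↥C) ^ (i + 1) * (v : ↥C) := by rw [e1, e2, pow_succ, mul_assoc]
      have h := hstep (orderOf y)
      rw [pow_orderOf_eq_one, one_mul, inv_one, mul_one, right_eq_mul] at h
      obtain ⟨j, hj⟩ := orderOf_two_pow T.2 w.2
      have := mem_of_odd_zpow (A := ⊥) hj (i := (orderOf y : ℤ)) (by exact_mod_cast hyodd)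
        (by rw [zpow_natCast, h]; exact one_mem _)
      exact Subtype.ext (mem_bot.1 this)
    have hsurj : ∀ w ∈ ψ.range, ∃ v ∈ ψ.range, ψ v = w := by
      have hmap : ψ.range.map ψ = ψ.range := by
        refine eq_of_le_of_card_ge (map_le_range ψ _) (le_of_eq ?_)
        refine Nat.card_congr (Equiv.ofBijective
          (fun v : ψ.range => (⟨ψ v, mem_map_of_mem ψ v.2⟩ : ψ.range.map ψ)) ⟨?_, ?_⟩)
        · intro a b hab'
          have h := congrArg Subtype.val hab'
          simp only at h
          have := hker _ (mul_mem a.2 (inv_mem b.2)) (by rw [map_mul, map_inv, h, mul_inv_cancel])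
          exact Subtype.ext (mul_inv_eq_one.1 this)
        · rintro ⟨_, x, hx, rfl⟩
          exact ⟨⟨x, hx⟩, rfl⟩
      intro w hw
      rw [← hmap] at hw
      exact hw
    have hα : ∀ v : ↥T, α (SemidirectProduct.inr v) = SemidirectProduct.inr (c v) := fun v =>
      SemidirectProduct.ext (map_one (y : MulAut G)) rfl
    have hone : ∀ w ∈ ψ.range, w = 1 := fun w hw => hkill w fun g hg =>
      hd.weakly_closed_of_aut (by
          rintro _ ⟨a, rfl⟩ _ ⟨b, rfl⟩
          change _ = _
          rw [← map_mul, ← map_mul, hab]) α (by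
          rintro _ ⟨a, ha, rfl⟩
          refine SemidirectProduct.ext ((hC _).1 y.2 a ha) (map_one c))
        (A := ψ.range.map SemidirectProduct.inr) (map_le_range _ _) (by
          rintro _ ⟨v, ⟨u, hu⟩, rfl⟩
          rw [hα]
          refine mem_map_of_mem _ ⟨c u, ?_⟩
          rw [← hu]
          simp [ψ])
        (by
          rintro _ ⟨w', hw', rfl⟩
          obtain ⟨v, hv, hvw⟩ := hsurj w' hw'
          exact ⟨_, mem_map_of_mem _ hv, by rw [hα, ← map_inv, ← map_mul]; exact congrArg _ hvw⟩)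
        (mem_map_of_mem _ hw) g hg
    refine mem_centralizer_iff.2 fun v hv => ?_
    have h := mul_inv_eq_one.1 (hone (ψ ⟨v, hv⟩) ⟨⟨v, hv⟩, rfl⟩)
    have h' : y * v * y⁻¹ = v := congrArg Subtype.val h
    exact (mul_inv_eq_iff_eq_mul.1 h').symm
  refine ⟨fun T => ⟨(main T).1, _, inferInstance,
    MonoidHom.ker_transferSylow_isComplement' T (main T).2⟩, ?_⟩
  obtain ⟨T⟩ : Nonempty (Sylow 2 ↥C) := inferInstance
  set K := (MonoidHom.transferSylow T (main T).2).ker
  have hcpl : IsComplement' K (T : Subgroup ↥C) :=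
    MonoidHom.ker_transferSylow_isComplement' T (main T).2
  have hTc : ∀ a b : ↥T, a * b = b * a := (main T).1
  have hodd : Odd (Nat.card K) := by
    rw [← Nat.not_even_iff_odd, even_iff_two_dvd, ← hcpl.index_eq_card]
    exact T.not_dvd_index
  refine isSolvable_ext K (hFT _ hodd) ?_
  refine Group.isSolvable_of_comm fun p q => ?_
  obtain ⟨p, rfl⟩ := QuotientGroup.mk_surjective p
  obtain ⟨q, rfl⟩ := QuotientGroup.mk_surjective q
  have hmk : ∀ x : ↥C, ∃ t : ↥T, ((t : ↥C) : ↥C ⧸ K) = (x : ↥C ⧸ K) := fun x => by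
    have := hcpl.sup_eq_top ▸ mem_top x
    rw [← SetLike.mem_coe, normal_mul] at this
    obtain ⟨k, hk, t, ht, rfl⟩ := this
    exact ⟨⟨t, ht⟩, by rw [QuotientGroup.mk_mul, (QuotientGroup.eq_one_iff k).2 hk, one_mul]⟩
  obtain ⟨a, ha⟩ := hmk p
  obtain ⟨b, hb⟩ := hmk q
  rw [← ha, ← hb, ← QuotientGroup.mk_mul, ← QuotientGroup.mk_mul]
  exact congrArg _ (congrArg Subtype.val (hTc a b))

end Cfsg.Agent.FTCons
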