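import Cfsg.Agent.FTCons.ZStarTwo

/-!
Automorphisms fixing a Sylow `2`-subgroup pointwise: their group has abelian Sylow `2`-subgroups and
a normal `2`-complement (Glauberman).
-/

set_option autoImplicit false

open Subgroup
open scoped Pointwise

namespace Cfsg.Agent.FTCons

universe u

/-- `P = S × T` a Sylow `2`-subgroup of `N T` with `S = P ∩ N`. -/
structure FixData (M : Type u) [Group M] (N S T : Subgroup M) (P : Sylow 2 M) : Prop where
  normal : N.Normal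
  hSN : S ≤ N
  hSP : S ≤ (P : Subgroup M)
  hTP : T ≤ (P : Subgroup M)
  disj : T ⊓ N = ⊥
  comm : ∀ a ∈ S, ∀ b ∈ T, Commute a b
  cover : ∀ p ∈ (P : Subgroup M), ∃ a ∈ S, ∃ b ∈ T, a * b = p
  total : ∀ g : M, ∃ n ∈ N, ∃ b ∈ T, n * b = g

namespace FixData

variable {M : Type u} [Group M] [Finite M] {N S T : Subgroup M} {P : Sylow 2 M}
  (d : FixData M N S T P)
include d

theorem mem_S {p : M} (hp : p ∈ (P : Subgroup M)) (hpN : p ∈ N) : p ∈ S := by
  obtain ⟨a, ha, b, hb, rfl⟩ := d.cover p hp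
  have hb1 : b = 1 := by
    rw [← mem_bot, ← d.disj]
    exact mem_inf.2 ⟨hb, by simpa using mul_mem (N.inv_mem (d.hSN ha)) hpN⟩
  rwa [hb1, mul_one]

/-- `n u n⁻¹ u⁻¹` is a nontrivial element of `S`. -/
def Bad (_d : FixData M N S T P) (n u : M) : Prop :=
  n ∈ N ∧ n * u * n⁻¹ * u⁻¹ ∈ S ∧ n * u * n⁻¹ * u⁻¹ ≠ 1

/-- The centraliser in `S` of a twist. -/
def cS (S : Subgroup M) (n u : M) : Subgroup M :=
  S ⊓ centralizer ({n * u * n⁻¹ * u⁻¹} : Set M)

/-- The twisting map of a maximal bad pair takes values in the centraliser. -/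
theorem exists_twist {A : Subgroup M} (hA : A ≤ T) {u : M} (hu : u ∈ A)
    (huc : ∀ b ∈ T, Commute b u) {n₀ : M} (hbad : d.Bad n₀ u)
    (hmax : ∀ n, d.Bad n u → Nat.card (cS S n u) ≤ Nat.card (cS S n₀ u)) :
    ∃ n ∈ N, n * u * n⁻¹ = n₀ * u * n₀⁻¹ * u⁻¹ * u ∧
      (∀ w ∈ cS S n₀ u, n⁻¹ * w * n ∈ S) ∧
      ∀ v ∈ A, (n * v * n⁻¹)⁻¹ * v ∈ cS S n₀ u := by
  have := d.normal
  obtain ⟨hn₀, hsS, hs1⟩ := hbad
  set W := cS S n₀ u with hWdef
  set s := n₀ * u * n₀⁻¹ * u⁻¹ with hs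
  have hWs : ∀ w ∈ W, Commute w s := fun w hw => mem_centralizer_singleton_iff.1 (mem_inf.1 hw).2
  have hWS : W ≤ S := inf_le_left
  have hsu : Commute s u := d.comm s hsS u (hA hu)
  have hK : IsPGroup 2 ↥(W ⊔ A) := P.2.to_le (sup_le (hWS.trans d.hSP) (hA.trans d.hTP))
  have hKx : ∀ k ∈ W ⊔ A, k * (s * u) = s * u * k := by
    have hle : W ⊔ A ≤ centralizer ({s * u} : Set M) := sup_le
      (fun w hw => mem_centralizer_singleton_iff.2 ((hWs w hw).mul_right (d.comm w (hWS hw) u (hA hu))).eq)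
      (fun v hv => mem_centralizer_singleton_iff.2
        (((d.comm s hsS v (hA hv)).symm).mul_right (huc v (hA hv))).eq)
    exact fun k hk => mem_centralizer_singleton_iff.1 (hle hk)
  obtain ⟨h, hh, hKh⟩ := exists_conj_le P (fun p hp => by
      obtain ⟨a, ha, b, hb, rfl⟩ := d.cover p hp
      exact ((d.comm a ha u (hA hu)).mul_left (huc b hb)).eq)
    (isConj_iff.2 ⟨n₀, by rw [hs]; group⟩ : IsConj u (s * u)) hK hKx
  obtain ⟨n, hn, b, hb, rfl⟩ := d.total h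
  have hbP : b ∈ (P : Subgroup M) := d.hTP hb
  have hnu : n * u * n⁻¹ = s * u := by
    rw [← hh]
    calc n * u * n⁻¹ = n * (u * b) * b⁻¹ * n⁻¹ := by group
      _ = n * (b * u) * b⁻¹ * n⁻¹ := by rw [(huc b hb).eq]
      _ = _ := by group
  have hmem : ∀ k ∈ W ⊔ A, n⁻¹ * k * n ∈ (P : Subgroup M) := fun k hk => by
    have := Coprime.mem_conj_smul.1 (hKh hk)
    simpa [mul_assoc] using mul_mem (mul_mem hbP this) ((P : Subgroup M).inv_mem hbP)
  have hnW : ∀ w ∈ W, n⁻¹ * w * n ∈ S := fun w hw => by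
    refine d.mem_S (hmem w (mem_sup_left hw)) ?_
    simpa using (inferInstance : N.Normal).conj_mem w (d.hSN (hWS hw)) n⁻¹
  refine ⟨n, hn, hnu, hnW, ?_⟩
  set f := fun v => (n * v * n⁻¹)⁻¹ * v with hf
  have hfS : ∀ v ∈ A, n⁻¹ * f v * n ∈ S := fun v hv => by
    refine d.mem_S ?_ ?_
    · rw [show n⁻¹ * f v * n = v⁻¹ * (n⁻¹ * v * n) by simp only [hf]; group]
      exact mul_mem ((P : Subgroup M).inv_mem (d.hTP (hA hv))) (hmem v (mem_sup_right hv))
    · rw [show n⁻¹ * f v * n = (v⁻¹ * n⁻¹ * v⁻¹⁻¹) * n by simp only [hf]; group]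
      exact mul_mem ((inferInstance : N.Normal).conj_mem _ (N.inv_mem hn) v⁻¹) hn
  have hfu : f u = s⁻¹ := by
    simp only [hf]
    rw [hnu, hsu.eq]
    group
  have hcr : ∀ p ∈ A, ∀ q ∈ A, Commute (n * p * n⁻¹) (f q) := fun p hp q hq => by
    change n * p * n⁻¹ * f q = f q * (n * p * n⁻¹)
    calc n * p * n⁻¹ * f q = n * (p * (n⁻¹ * f q * n)) * n⁻¹ := by group
      _ = n * (n⁻¹ * f q * n * p) * n⁻¹ := by rw [(d.comm _ (hfS q hq) p (hA hp)).eq]
      _ = _ := by group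
  intro v hv
  change f v ∈ W
  -- the subgroup `n S n⁻¹ ∩ C(s)` is no larger than `W`
  set V := (MulAut.conj n • S) ⊓ centralizer ({s} : Set M) with hVdef
  have hWV : W ≤ V := fun w hw => mem_inf.2
    ⟨Coprime.mem_conj_smul.2 (hnW w hw), mem_centralizer_singleton_iff.2 (hWs w hw).eq⟩
  have hcard : Nat.card V ≤ Nat.card W := by
    have he : n⁻¹ * u * n⁻¹⁻¹ * u⁻¹ = n⁻¹ * s⁻¹ * n := by
      rw [inv_inv, show s = n * u * n⁻¹ * u⁻¹ by rw [hnu]; group]
      have := hnu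
      have hc : s⁻¹ = u * (s * u)⁻¹ := by group
      calc n⁻¹ * u * n * u⁻¹ = n⁻¹ * (u * (n * u * n⁻¹)⁻¹) * n := by group
        _ = n⁻¹ * s⁻¹ * n := by rw [hnu, ← hc]
        _ = _ := by rw [show n * u * n⁻¹ * u⁻¹ = s by rw [hnu]; group]
    have hb' : d.Bad n⁻¹ u := by
      refine ⟨N.inv_mem hn, ?_, ?_⟩
      · rw [he]
        exact hnW s⁻¹ (mem_inf.2 ⟨S.inv_mem hsS, mem_centralizer_singleton_iff.2
          (Commute.refl s).inv_left.eq⟩)
      · rw [he]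
        intro h1
        apply hs1
        calc s = (n * (n⁻¹ * s⁻¹ * n) * n⁻¹)⁻¹ := by group
          _ = 1 := by rw [h1, mul_one, mul_inv_cancel, inv_one]
    have hVe : V = MulAut.conj n • cS S n⁻¹ u := by
      ext x
      simp only [hVdef, cS, mem_inf, Coprime.mem_conj_smul, mem_centralizer_singleton_iff, he]
      refine and_congr_right fun _ => ⟨fun hx => ?_, fun hx => ?_⟩
      · calc n⁻¹ * x * n * (n⁻¹ * s⁻¹ * n) = n⁻¹ * (x * s⁻¹) * n := by group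
          _ = n⁻¹ * (s⁻¹ * x) * n := by rw [(show Commute x s from hx).inv_right.eq]
          _ = _ := by group
      · have h1 : Commute x s⁻¹ := by
          change x * s⁻¹ = s⁻¹ * x
          calc x * s⁻¹ = n * (n⁻¹ * x * n * (n⁻¹ * s⁻¹ * n)) * n⁻¹ := by group
            _ = n * (n⁻¹ * s⁻¹ * n * (n⁻¹ * x * n)) * n⁻¹ := by rw [hx]
            _ = _ := by group
        simpa using h1.inv_right.eq
    rw [hVe, Coprime.card_conj_smul]
    exact hmax _ hb'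
  rw [eq_of_le_of_card_ge hWV hcard]
  refine mem_inf.2 ⟨Coprime.mem_conj_smul.2 (hfS v hv), mem_centralizer_singleton_iff.2 ?_⟩
  -- `f` is multiplicative, so its values commute as their arguments do
  have hmul : ∀ a ∈ A, ∀ c ∈ A, f (a * c) = f a * f c := fun a ha c hc => by
    calc f (a * c) = (n * c * n⁻¹)⁻¹ * f a * c := by simp only [hf]; group
      _ = f a * (n * c * n⁻¹)⁻¹ * c := by rw [((hcr c hc a ha).inv_left).eq]
      _ = _ := by simp only [hf]; group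
  have h1 : Commute (f v) (f u) := by
    change f v * f u = f u * f v
    rw [← hmul v hv u hu, ← hmul u hu v hv, (huc v (hA hv)).eq]
  rw [hfu] at h1
  simpa using h1.inv_right.eq

/-- A derived central element of `T` is weakly closed. -/
theorem weakly_closed_of_commutator {t : M} (htT : t ∈ T) (htc : ∀ b ∈ T, Commute b t)
    (ht : t ∈ ⁅T, T⁆) (g : M) (hg : g * t * g⁻¹ ∈ (P : Subgroup M)) : g * t * g⁻¹ = t := by
  classical
  have := d.normal
  obtain ⟨n₁, hn₁, b, hb, rfl⟩ := d.total g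
  have he : n₁ * b * t * (n₁ * b)⁻¹ = n₁ * t * n₁⁻¹ := by
    calc n₁ * b * t * (n₁ * b)⁻¹ = n₁ * (b * t) * b⁻¹ * n₁⁻¹ := by group
      _ = n₁ * (t * b) * b⁻¹ * n₁⁻¹ := by rw [(htc b hb).eq]
      _ = _ := by group
  rw [he] at hg ⊢
  by_contra hne
  have hex : ∃ n, d.Bad n t := ⟨n₁, hn₁, d.mem_S (mul_mem hg ((P : Subgroup M).inv_mem (d.hTP htT)))
    (by
      rw [show n₁ * t * n₁⁻¹ * t⁻¹ = n₁ * (t * n₁⁻¹ * t⁻¹) by group]
      exact mul_mem hn₁ ((inferInstance : N.Normal).conj_mem _ (N.inv_mem hn₁) t)),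
    fun h => hne (mul_inv_eq_one.1 h)⟩
  obtain ⟨n₀, hn₀, hmax⟩ := Set.exists_max_image {n : M | d.Bad n t}
    (fun n => Nat.card (cS S n t)) (Set.toFinite _) hex
  obtain ⟨n, hn, hnt, hnW, hfW⟩ := d.exists_twist le_rfl htT htc hn₀ hmax
  set f := fun v => (n * v * n⁻¹)⁻¹ * v with hf
  have hfS : ∀ v ∈ T, f v ∈ S := fun v hv => (mem_inf.1 (hfW v hv)).1
  have hfn : ∀ v ∈ T, n⁻¹ * f v * n ∈ S := fun v hv => hnW _ (hfW v hv)
  have hcr : ∀ p ∈ T, ∀ q ∈ T, Commute (n * p * n⁻¹) (f q) := fun p hp q hq => by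
    change n * p * n⁻¹ * f q = f q * (n * p * n⁻¹)
    calc n * p * n⁻¹ * f q = n * (p * (n⁻¹ * f q * n)) * n⁻¹ := by group
      _ = n * (n⁻¹ * f q * n * p) * n⁻¹ := by rw [(d.comm _ (hfn q hq) p hp).eq]
      _ = _ := by group
  have hcm : ∀ a ∈ T, ∀ c ∈ T, Commute (f a) (f c) := fun a ha c hc =>
    ((hcr a ha c hc).inv_left).mul_left (d.comm _ (hfS c hc) a ha).symm
  have hkill := eq_one_of_mem_commutator (Q := T) (f := f) (fun a ha c hc => by
      calc f (a * c) = (n * c * n⁻¹)⁻¹ * f a * c := by simp only [hf]; group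
        _ = f a * (n * c * n⁻¹)⁻¹ * c := by rw [((hcr c hc a ha).inv_left).eq]
        _ = f a * f c := by simp only [hf]; group
        _ = f c * f a := (hcm a ha c hc).eq)
    (fun a ha c hc => (hcm a ha c hc).eq) ht
  apply hn₀.2.2
  change (n * t * n⁻¹)⁻¹ * t = 1 at hkill
  rw [inv_mul_eq_one, hnt, mul_eq_right] at hkill
  exact hkill

/-- Elements of the commutator of `T` with an automorphism fixing `S` are weakly closed. -/
theorem weakly_closed_of_aut (hTab : ∀ a ∈ T, ∀ b ∈ T, Commute a b) (α : MulAut M)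
    (hαS : ∀ a ∈ S, α a = a)
    {A : Subgroup M} (hA : A ≤ T) (hαA : ∀ v ∈ A, α v ∈ A)
    (hsurj : ∀ w ∈ A, ∃ v ∈ A, α v * v⁻¹ = w)
    {t : M} (ht : t ∈ A) (g : M) (hg : g * t * g⁻¹ ∈ (P : Subgroup M)) : g * t * g⁻¹ = t := by
  classical
  have := d.normal
  obtain ⟨n₁, hn₁, b, hb, rfl⟩ := d.total g
  have he : n₁ * b * t * (n₁ * b)⁻¹ = n₁ * t * n₁⁻¹ := by
    calc n₁ * b * t * (n₁ * b)⁻¹ = n₁ * (b * t) * b⁻¹ * n₁⁻¹ := by group
      _ = n₁ * (t * b) * b⁻¹ * n₁⁻¹ := by rw [(hTab b hb t (hA ht)).eq]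
      _ = _ := by group
  rw [he] at hg ⊢
  by_contra hne
  have hex : ∃ p : M × M, d.Bad p.1 p.2 ∧ p.2 ∈ A := ⟨(n₁, t),
    ⟨hn₁, d.mem_S (mul_mem hg ((P : Subgroup M).inv_mem (d.hTP (hA ht)))) (by
      rw [show n₁ * t * n₁⁻¹ * t⁻¹ = n₁ * (t * n₁⁻¹ * t⁻¹) by group]
      exact mul_mem hn₁ ((inferInstance : N.Normal).conj_mem _ (N.inv_mem hn₁) t)),
      fun h => hne (mul_inv_eq_one.1 h)⟩, ht⟩
  obtain ⟨⟨n₀, u⟩, ⟨hbad, hu⟩, hmax⟩ := Set.exists_max_image
    {p : M × M | d.Bad p.1 p.2 ∧ p.2 ∈ A} (fun p => Nat.card (cS S p.1 p.2)) (Set.toFinite _) hex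
  simp only at hbad hu hmax
  obtain ⟨n, hn, hnu, hnW, hfW⟩ := d.exists_twist hA hu (fun b hb => hTab b hb u (hA hu)) hbad
    fun m hm => hmax (m, u) ⟨hm, hu⟩
  set W := cS S n₀ u with hWdef
  have hWS : W ≤ S := inf_le_left
  set f := fun v => (n * v * n⁻¹)⁻¹ * v with hf
  set W' := MulAut.conj n⁻¹ • W with hW'
  have hW'S : W' ≤ S := fun x hx => by
    have := hnW _ (Coprime.mem_conj_smul.1 hx)
    simpa [mul_assoc] using this
  -- `α n` and `n` agree on `W'`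
  set k := n⁻¹ * α n with hk
  have hkW : ∀ x ∈ W', Commute k x := fun x hx => by
    have hx' : n * x * n⁻¹ ∈ W := by simpa using Coprime.mem_conj_smul.1 hx
    have h1 : α n * x * (α n)⁻¹ = n * x * n⁻¹ := by
      conv_rhs => rw [← hαS _ (hWS hx'), map_mul, map_mul, map_inv, hαS x (hW'S hx)]
    change k * x = x * k
    rw [hk]
    calc n⁻¹ * α n * x = n⁻¹ * (α n * x * (α n)⁻¹) * α n := by group
      _ = _ := by rw [h1]; group
  have hcr : ∀ p ∈ A, ∀ q ∈ A, Commute (n * p * n⁻¹) (f q) := fun p hp q hq => by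
    change n * p * n⁻¹ * f q = f q * (n * p * n⁻¹)
    calc n * p * n⁻¹ * f q = n * (p * (n⁻¹ * f q * n)) * n⁻¹ := by group
      _ = n * (n⁻¹ * f q * n * p) * n⁻¹ := by rw [(d.comm _ (hnW _ (hfW q hq)) p (hA hp)).eq]
      _ = _ := by group
  have hmul : ∀ a ∈ A, ∀ c ∈ A, f (a * c) = f a * f c := fun a ha c hc => by
    calc f (a * c) = (n * c * n⁻¹)⁻¹ * f a * c := by simp only [hf]; group
      _ = f a * (n * c * n⁻¹)⁻¹ * c := by rw [((hcr c hc a ha).inv_left).eq]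
      _ = _ := by simp only [hf]; group
  -- on `A` it moves elements inside `W'`
  have hkA : ∀ v ∈ A, k * α v * k⁻¹ * (α v)⁻¹ = n⁻¹ * f (α v * v⁻¹) * n ∧
      n⁻¹ * f (α v * v⁻¹) * n ∈ W' := by
    intro v hv
    have hfv : f v ∈ W := hfW v hv
    have hav : α v * v⁻¹ ∈ A := mul_mem (hαA v hv) (A.inv_mem hv)
    have hdiv : f (α v * v⁻¹) = f (α v) * (f v)⁻¹ := by
      rw [eq_mul_inv_iff_mul_eq, ← hmul _ hav v hv, inv_mul_cancel_right]
    refine ⟨?_, ?_⟩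
    · have h1 : n * v * n⁻¹ = v * (f v)⁻¹ := by simp only [hf]; group
      have h2 : α n * α v * (α n)⁻¹ = α v * (f v)⁻¹ := by
        rw [← map_inv, ← map_mul, ← map_mul, h1, map_mul, map_inv, hαS _ (hWS hfv)]
      have h3 : α v = n * α v * n⁻¹ * f (α v) := by simp only [hf]; group
      have h4 : Commute (n * α v * n⁻¹) (f (α v * v⁻¹)) := hcr _ (hαA v hv) _ hav
      calc k * α v * k⁻¹ * (α v)⁻¹ = n⁻¹ * (α n * α v * (α n)⁻¹) * n * (α v)⁻¹ := by rw [hk]; group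
        _ = n⁻¹ * (α v * (f v)⁻¹) * n * (α v)⁻¹ := by rw [h2]
        _ = n⁻¹ * (n * α v * n⁻¹ * f (α v) * (f v)⁻¹) * n * (α v)⁻¹ := by rw [← h3]
        _ = n⁻¹ * (f (α v * v⁻¹) * (n * α v * n⁻¹)) * n * (α v)⁻¹ := by
          rw [mul_assoc (n * α v * n⁻¹), ← hdiv, h4.eq]
        _ = _ := by group
    · rw [hW', Coprime.mem_conj_smul, inv_inv,
        show n * (n⁻¹ * f (α v * v⁻¹) * n) * n⁻¹ = f (α v * v⁻¹) by group]
      exact hfW _ hav
  -- an element centralising `W'` and `A / W'` centralises `A`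
  have hW'A : ∀ x ∈ W', ∀ a ∈ A, Commute x a := fun x hx a ha => d.comm x (hW'S hx) a (hA ha)
  have hW'card : Nat.card W' = Nat.card W := Coprime.card_conj_smul _ _
  have two : ∀ q : M, (∃ i, orderOf q = 2 ^ i) → (∀ x ∈ W', Commute q x) →
      (∀ a ∈ A, q * a * q⁻¹ * a⁻¹ ∈ W') → ∀ a ∈ A, Commute q a := by
    intro q hq2 hqW hqA
    obtain ⟨i, hi⟩ := hq2
    have hU : W' ⊔ A ≤ (P : Subgroup M) := sup_le (hW'S.trans d.hSP) (hA.trans d.hTP)
    have hqn : q ∈ normalizer ((W' ⊔ A : Subgroup M) : Set M) := by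
      refine Coprime.mem_normalizer_of_conj_smul_eq (eq_of_le_of_card_ge ?_
        (Coprime.card_conj_smul _ _).ge)
      rw [Coprime.conj_smul_eq_map, map_le_iff_le_comap]
      refine sup_le (fun x hx => ?_) (fun a ha => ?_)
      · rw [mem_comap]
        change q * x * q⁻¹ ∈ W' ⊔ A
        rw [(hqW x hx).eq, mul_inv_cancel_right]
        exact mem_sup_left hx
      · rw [mem_comap]
        change q * a * q⁻¹ ∈ W' ⊔ A
        rw [show q * a * q⁻¹ = q * a * q⁻¹ * a⁻¹ * a by group]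
        exact mul_mem (mem_sup_left (hqA a ha)) (mem_sup_right ha)
    have hp : IsPGroup 2 ↥(zpowers q ⊔ (W' ⊔ A)) :=
      (IsPGroup.of_card (n := i) (G := zpowers q) (by rw [Nat.card_zpowers, hi])).to_sup_of_normal_right'
        (P.2.to_le hU) (zpowers_le.2 hqn)
    obtain ⟨Q, hQ⟩ := hp.exists_le_sylow
    obtain ⟨g, rfl⟩ := MulAction.exists_smul_eq M P Q
    obtain ⟨m, hm, b, hb, rfl⟩ := d.total g
    have hconj : ∀ x ∈ zpowers q ⊔ (W' ⊔ A), m⁻¹ * x * m ∈ (P : Subgroup M) := fun x hx => by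
      have := hQ hx
      rw [Sylow.coe_subgroup_smul, Coprime.mem_conj_smul] at this
      simpa [mul_assoc] using mul_mem (mul_mem (d.hTP hb) this) ((P : Subgroup M).inv_mem (d.hTP hb))
    set W'' := MulAut.conj m⁻¹ • W' with hW''
    have hW''S : W'' ≤ S := fun x hx => by
      have hx' := Coprime.mem_conj_smul.1 hx
      rw [inv_inv] at hx'
      have h1 := hconj _ (mem_sup_right (mem_sup_left hx'))
      have h2 := (inferInstance : N.Normal).conj_mem _ (d.hSN (hW'S hx')) m⁻¹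
      refine d.mem_S (by simpa [mul_assoc] using h1) (by simpa [mul_assoc] using h2)
    obtain ⟨a₀, ha₀, b₀, hb₀, hq₀⟩ := d.cover _ (hconj q (mem_sup_left (mem_zpowers q)))
    have hqW'' : ∀ x ∈ W'', Commute (m⁻¹ * q * m) x := fun x hx => by
      have h := hqW _ (Coprime.mem_conj_smul.1 hx)
      change m⁻¹ * q * m * x = x * (m⁻¹ * q * m)
      calc m⁻¹ * q * m * x = m⁻¹ * (q * (m⁻¹⁻¹ * x * m⁻¹)) * m := by group
        _ = m⁻¹ * (m⁻¹⁻¹ * x * m⁻¹ * q) * m := by rw [h.eq]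
        _ = _ := by group
    intro a ha
    set e := m⁻¹ * a * m * a⁻¹ with he
    have heS : e ∈ S := by
      refine d.mem_S (mul_mem (hconj a (mem_sup_right (mem_sup_right ha)))
        ((P : Subgroup M).inv_mem (d.hTP (hA ha)))) ?_
      rw [he, show m⁻¹ * a * m * a⁻¹ = m⁻¹ * (a * m * a⁻¹) by group]
      exact mul_mem (N.inv_mem hm) ((inferInstance : N.Normal).conj_mem m hm a)
    have heW : e ∈ W'' := by
      rcases eq_or_ne e 1 with h1 | h1
      · rw [h1]; exact one_mem _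
      have hb' : d.Bad m⁻¹ a := ⟨N.inv_mem hm, by rw [inv_inv]; exact heS, by rw [inv_inv]; exact h1⟩
      have hle : W'' ≤ cS S m⁻¹ a := fun x hx => by
        refine mem_inf.2 ⟨hW''S hx, mem_centralizer_singleton_iff.2 ?_⟩
        rw [inv_inv]
        have h2 : Commute x (m⁻¹ * a * m) := by
          have h := hW'A _ (Coprime.mem_conj_smul.1 hx) a ha
          change x * (m⁻¹ * a * m) = m⁻¹ * a * m * x
          calc x * (m⁻¹ * a * m) = m⁻¹ * (m⁻¹⁻¹ * x * m⁻¹ * a) * m := by group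
            _ = m⁻¹ * (a * (m⁻¹⁻¹ * x * m⁻¹)) * m := by rw [h.eq]
            _ = _ := by group
        exact (h2.mul_right (d.comm x (hW''S hx) a (hA ha)).inv_right).eq
      rw [eq_of_le_of_card_ge hle (by
        rw [hW'', Coprime.card_conj_smul, hW'card]; exact hmax (m⁻¹, a) ⟨hb', ha⟩)]
      exact mem_inf.2 ⟨heS, mem_centralizer_singleton_iff.2 (by rw [inv_inv])⟩
    have h5 : Commute (m⁻¹ * q * m) (m⁻¹ * a * m) := by
      rw [show m⁻¹ * a * m = e * a by rw [he]; group]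
      refine (hqW'' e heW).mul_right ?_
      rw [← hq₀]
      exact (d.comm a₀ ha₀ a (hA ha)).mul_left (hTab b₀ hb₀ a (hA ha))
    change q * a = a * q
    calc q * a = m * (m⁻¹ * q * m * (m⁻¹ * a * m)) * m⁻¹ := by group
      _ = m * (m⁻¹ * a * m * (m⁻¹ * q * m)) * m⁻¹ := by rw [h5.eq]
      _ = _ := by group
  apply hbad.2.2
  obtain ⟨v, hv, hvu⟩ := hsurj u hu
  obtain ⟨he1, he2⟩ := hkA v hv
  have hpow : ∀ (i : ℕ), ∀ a ∈ A, k * a * k⁻¹ * a⁻¹ ∈ W' →
      k ^ i * a * (k ^ i)⁻¹ * a⁻¹ = (k * a * k⁻¹ * a⁻¹) ^ i := by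
    intro i a _ hδ
    induction i with
    | zero => simp
    | succ i ih =>
      rw [pow_succ' k, pow_succ' (k * a * k⁻¹ * a⁻¹), ← ih]
      have hc : Commute k (k ^ i * a * (k ^ i)⁻¹ * a⁻¹) := hkW _ (by rw [ih]; exact pow_mem hδ i)
      calc k * k ^ i * a * (k * k ^ i)⁻¹ * a⁻¹
          = k * (k ^ i * a * (k ^ i)⁻¹ * a⁻¹) * k⁻¹ * (k * a * k⁻¹ * a⁻¹) := by group
        _ = (k ^ i * a * (k ^ i)⁻¹ * a⁻¹) * (k * a * k⁻¹ * a⁻¹) := by
          rw [hc.eq, mul_inv_cancel_right]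
        _ = _ := by rw [ih, ← pow_succ, ← pow_succ']
  obtain ⟨c, o, ho, hord⟩ := Nat.exists_eq_pow_mul_and_not_dvd (orderOf_pos k).ne' 2 (by decide)
  have hallA : ∀ a ∈ A, ∃ a' ∈ A, α a' = a := fun a ha => by
    have hmap : A.map α.toMonoidHom = A := eq_of_le_of_card_ge
      (by rintro _ ⟨x, hx, rfl⟩; exact hαA x hx) (card_map_of_injective α.injective).ge
    rw [← hmap] at ha
    exact ha
  have hko : ∀ a ∈ A, k ^ o * a * (k ^ o)⁻¹ * a⁻¹ ∈ W' := by
    intro a ha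
    obtain ⟨a', ha', rfl⟩ := hallA a ha
    have h := (hkA a' ha').1.symm ▸ (hkA a' ha').2
    rw [hpow o _ (hαA a' ha') h]
    exact pow_mem h o
  have h6 : Commute (k ^ o) (α v) := two (k ^ o) ⟨c, by
      rw [orderOf_pow_of_dvd (by omega) ⟨2 ^ c, by rw [hord]; ring⟩, hord,
        Nat.mul_div_cancel _ (by omega)]⟩
    (fun x hx => (hkW x hx).pow_left o) hko (α v) (hαA v hv)
  have h7 : (k * α v * k⁻¹ * (α v)⁻¹) ^ o = 1 := by
    rw [← hpow o _ (hαA v hv) (he1 ▸ he2), h6.eq, mul_inv_cancel_right, mul_inv_cancel]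
  obtain ⟨j, hj⟩ := orderOf_two_pow P.2 (d.hSP (hW'S (he1 ▸ he2 : k * α v * k⁻¹ * (α v)⁻¹ ∈ W')))
  have h8 := mem_of_odd_zpow (A := ⊥) hj (i := (o : ℤ))
    (by exact_mod_cast Nat.odd_iff.2 (by omega)) (by rw [zpow_natCast, h7]; exact one_mem _)
  rw [mem_bot, he1, hvu] at h8
  have h9 : f u = 1 := by
    calc f u = n * (n⁻¹ * f u * n) * n⁻¹ := by group
      _ = 1 := by rw [h8, mul_one, mul_inv_cancel]
  simp only [hf] at h9
  rw [inv_mul_eq_one, hnu, mul_eq_right] at h9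
  exact h9

end FixData

end Cfsg.Agent.FTCons
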