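import Cfsg.Agent.FTCons.Basic
import Cfsg.Agent.Core.Basics
import Cfsg.Prelude.Def_HallClasses

/-!
Hall subgroups of extensions, given that groups of odd order are solvable: the class of groups with
one conjugacy class of Hall `π`-subgroups is closed under extensions, and the theorem of Hall and
Chunikhin for `π`-separable groups.
-/

set_option autoImplicit false

open Subgroup
open scoped Pointwise

namespace Cfsg.Agent.FTCons

universe u

variable {G : Type u} [Group G] [Finite G] {π : Set ℕ}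

/-- A number all whose primes are in `π` is coprime to one having none in `π`. -/
theorem coprime_pi {a b : ℕ} (ha : ∀ p : ℕ, p.Prime → p ∣ a → p ∈ π)
    (hb : ∀ p : ℕ, p.Prime → p ∈ π → ¬ p ∣ b) : a.Coprime b :=
  Nat.coprime_of_dvd fun p hp hpa hpb => hb p hp (ha p hp hpa) hpb

theorem relIndex_inf_left_mul (H : Subgroup G) (A : Subgroup G) [A.Normal] :
    (H ⊓ A).relIndex A = H.relIndex (H ⊔ A) := by
  have h1 := relIndex_mul_relIndex ⊥ (H ⊓ A) A bot_le inf_le_right
  have h2 := relIndex_mul_relIndex ⊥ H (H ⊔ A) bot_le le_sup_left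
  rw [relIndex_bot_left, relIndex_bot_left] at h1 h2
  have h3 := Core.card_sup_mul_card_inf H A
  rw [← h1, ← h2, mul_assoc, mul_comm (H.relIndex (H ⊔ A))] at h3
  exact (Nat.eq_of_mul_eq_mul_left (show 0 < Nat.card H * Nat.card (H ⊓ A : Subgroup G) from
    Nat.mul_pos Nat.card_pos Nat.card_pos) (by linarith)).symm

/-- A Hall subgroup meets a normal subgroup in a Hall subgroup of it. -/
theorem isPiHall_inf {H : Subgroup G} (hH : Cfsg.IsPiHall π H) (A : Subgroup G) [A.Normal] :
    Cfsg.IsPiHall π (H.subgroupOf A) := by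
  refine ⟨fun p hp hd => hH.1 p hp (hd.trans ?_), fun p hp hpi hd => hH.2 p hp hpi (hd.trans ?_)⟩
  · rw [← inf_subgroupOf_right, Nat.card_congr (subgroupOfEquivOfLe inf_le_right).toEquiv]
    exact card_dvd_of_le inf_le_left
  · rw [show (H.subgroupOf A).index = H.relIndex A from rfl, ← inf_relIndex_right,
      relIndex_inf_left_mul]
    exact ⟨_, (relIndex_mul_index le_sup_left).symm⟩

theorem isPiHall_map {H : Subgroup G} (hH : Cfsg.IsPiHall π H) {G' : Type*} [Group G'] [Finite G']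
    (f : G →* G') (hf : Function.Surjective f) : Cfsg.IsPiHall π (H.map f) :=
  ⟨fun p hp hd => hH.1 p hp (hd.trans (card_map_dvd _ _)),
    fun p hp hpi hd => hH.2 p hp hpi (hd.trans (index_map_dvd _ hf))⟩

theorem isPiHall_conj {H : Subgroup G} (hH : Cfsg.IsPiHall π H) (g : G) :
    Cfsg.IsPiHall π (H.map (MulAut.conj g).toMonoidHom) := by
  refine ⟨fun p hp hd => hH.1 p hp (hd.trans ?_), fun p hp hpi hd => hH.2 p hp hpi (hd.trans ?_)⟩
  · exact card_map_dvd _ _
  · exact index_map_dvd _ (MulAut.conj g).surjective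

theorem map_conj_conj (H : Subgroup G) (g h : G) :
    (H.map (MulAut.conj g).toMonoidHom).map (MulAut.conj h).toMonoidHom
      = H.map (MulAut.conj (h * g)).toMonoidHom := by
  rw [Subgroup.map_map]
  congr 1
  ext x
  simp

/-- Two subgroups that are complements of a normal `π'`-section above a common normal subgroup. -/
theorem conj_over (hFT : OddSolvable.{u}) {X B H K : Subgroup G} [X.Normal] [B.Normal] (hXB : X ≤ B)
    (hXH : X ≤ H) (hXK : X ≤ K) (hBH : B ⊓ H ≤ X) (hBK : B ⊓ K ≤ X) (hsup : B ⊔ H = B ⊔ K)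
    (hcop : (X.relIndex B).Coprime (X.relIndex H)) :
    ∃ g : G, K = H.map (MulAut.conj g).toMonoidHom := by
  set f := QuotientGroup.mk' X with hf
  have hsurj : Function.Surjective f := QuotientGroup.mk'_surjective X
  have : (B.map f).Normal := Normal.map inferInstance _ hsurj
  have hinf : ∀ S : Subgroup G, B ⊓ S ≤ X → X ≤ S → B.map f ⊓ S.map f = ⊥ := by
    intro S hS hXS
    rw [eq_bot_iff]
    rintro x ⟨⟨b, hb, rfl⟩, ⟨s, hs, hsb⟩⟩
    have hm : b⁻¹ * s ∈ X := QuotientGroup.eq.1 hsb.symm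
    have hsB : s ∈ B := by simpa using mul_mem hb (hXB hm)
    rw [mem_bot, ← hsb]
    exact (QuotientGroup.eq_one_iff s).2 (hS ⟨hsB, hs⟩)
  have hcard : ∀ S : Subgroup G, X ≤ S → Nat.card (S.map f) = X.relIndex S := by
    intro S hS
    rw [← relIndex_bot_left, ← Subgroup.map_bot f, relIndex_map_map, QuotientGroup.ker_mk',
      bot_sup_eq, sup_eq_left.2 hS]
  have hco : (Nat.card (B.map f)).Coprime (Nat.card (H.map f)) := by
    rwa [hcard B hXB, hcard H hXH]
  obtain ⟨n, -, hn⟩ := Coprime.exists_conj_of_sup_eq (N := B.map f) (H := H.map f) (K := K.map f)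
    (by rw [normalizer_eq_top_iff.2 inferInstance]; exact le_top) (hinf H hBH hXH) (hinf K hBK hXK)
    (by rw [← Subgroup.map_sup, ← Subgroup.map_sup, hsup]) hco (solvable_or_of_coprime hFT hco)
  obtain ⟨g, rfl⟩ := hsurj n
  refine ⟨g, ?_⟩
  have hcm : ∀ S : Subgroup G, X ≤ S → (S.map f).comap f = S := fun S hS => by
    rw [comap_map_eq, QuotientGroup.ker_mk', sup_eq_left.2 hS]
  have h1 : (H.map (MulAut.conj g).toMonoidHom).map f = K.map f := by
    rw [← hn, Coprime.conj_smul_eq_map, Subgroup.map_map, Subgroup.map_map]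
    congr 1
  have hXg : X ≤ H.map (MulAut.conj g).toMonoidHom := fun x hx =>
    ⟨g⁻¹ * x * g, hXH (by simpa using (inferInstance : X.Normal).conj_mem x hx g⁻¹), by
      simp [mul_assoc]⟩
  rw [← hcm K hXK, ← h1, hcm _ hXg]

/-- Conjugacy of Hall subgroups in an extension. -/
theorem conj_hall (hFT : OddSolvable.{u}) (A : Subgroup G) [A.Normal]
    (hA : ∀ X Y : Subgroup A, Cfsg.IsPiHall π X → Cfsg.IsPiHall π Y →
      ∃ g : A, Y = X.map (MulAut.conj g).toMonoidHom)
    (hQ : ∀ X Y : Subgroup (G ⧸ A), Cfsg.IsPiHall π X → Cfsg.IsPiHall π Y →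
      ∃ g : G ⧸ A, Y = X.map (MulAut.conj g).toMonoidHom)
    {H K : Subgroup G} (hH : Cfsg.IsPiHall π H) (hK : Cfsg.IsPiHall π K) :
    ∃ g : G, K = H.map (MulAut.conj g).toMonoidHom := by
  have hsurj : Function.Surjective (QuotientGroup.mk' A) := QuotientGroup.mk'_surjective A
  obtain ⟨q, hq⟩ := hQ _ _ (isPiHall_map hH _ hsurj) (isPiHall_map hK _ hsurj)
  obtain ⟨g, rfl⟩ := hsurj q
  set H₁ := H.map (MulAut.conj g).toMonoidHom with hH₁
  have h1 : H₁ ⊔ A = K ⊔ A := by
    have : H₁.map (QuotientGroup.mk' A) = K.map (QuotientGroup.mk' A) := by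
      rw [hq, hH₁, Subgroup.map_map, Subgroup.map_map]
      congr 1
    have := congrArg (Subgroup.comap (QuotientGroup.mk' A)) this
    rwa [comap_map_eq, comap_map_eq, QuotientGroup.ker_mk'] at this
  obtain ⟨a, ha⟩ := hA _ _ (isPiHall_inf (isPiHall_conj hH g) A) (isPiHall_inf hK A)
  set H₂ := H₁.map (MulAut.conj (a : G)).toMonoidHom with hH₂
  have hmem : ∀ y : G, y ∈ H₂ ↔ (a : G)⁻¹ * y * a ∈ H₁ := by
    intro y
    constructor
    · rintro ⟨x, hx, rfl⟩
      simpa [mul_assoc] using hx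
    · exact fun hy => ⟨_, hy, by simp [mul_assoc]⟩
  have h2 : H₂ ⊔ A = K ⊔ A := by
    rw [← h1]
    refine le_antisymm (sup_le (fun y hy => ?_) le_sup_right) (sup_le (fun y hy => ?_) le_sup_right)
    · have := (hmem y).1 hy
      have he : y = (a : G) * ((a : G)⁻¹ * y * a) * (a : G)⁻¹ := by group
      rw [he]
      exact mul_mem (mul_mem (mem_sup_right a.2) (mem_sup_left this))
        (inv_mem (mem_sup_right a.2))
    · have : (a : G) * y * (a : G)⁻¹ ∈ H₂ := ⟨y, hy, by simp⟩
      have he : y = (a : G)⁻¹ * ((a : G) * y * (a : G)⁻¹) * a := by group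
      rw [he]
      exact mul_mem (mul_mem (inv_mem (mem_sup_right a.2)) (mem_sup_left this)) (mem_sup_right a.2)
  have hX : H₂ ⊓ A = K ⊓ A := by
    ext y
    simp only [mem_inf]
    refine and_congr_left fun hy => ?_
    rw [hmem y]
    have := (SetLike.ext_iff.1 ha ⟨y, hy⟩)
    simp only [mem_subgroupOf] at this
    rw [this]
    constructor
    · exact fun h => ⟨⟨(a : G)⁻¹ * y * a, mul_mem (mul_mem (inv_mem a.2) hy) a.2⟩, h,
        Subtype.ext (by simp [mul_assoc])⟩
    · rintro ⟨x, hx, hxy⟩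
      have : (a : G) * x * (a : G)⁻¹ = y := congrArg Subtype.val hxy
      have hx' : (x : G) ∈ H₁ := hx
      simpa [← this, mul_assoc] using hx'
  set X := K ⊓ A with hXdef
  set N := normalizer (X : Set G) with hN
  have hle : ∀ S : Subgroup G, S ⊓ A = X → S ≤ N := by
    intro S hS s hs
    rw [hN, mem_normalizer_iff]
    intro x
    rw [← hS, mem_inf, mem_inf]
    exact and_congr ⟨fun h => mul_mem (mul_mem hs h) (inv_mem hs), fun h => by
        simpa [mul_assoc] using mul_mem (mul_mem (inv_mem hs) h) hs⟩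
      ⟨fun h => (inferInstance : A.Normal).conj_mem x h s, fun h => by
        simpa [mul_assoc] using (inferInstance : A.Normal).conj_mem _ h s⁻¹⟩
  have hHN := hle H₂ hX
  have hKN := hle K hXdef.symm
  have hXN : X ≤ N := inf_le_left.trans hKN
  have : (X.subgroupOf N).Normal := normal_in_normalizer
  have hsub : ∀ S T : Subgroup G, S ≤ N → (∀ y ∈ S, y ∈ T ⊔ A) → T ≤ N →
      S.subgroupOf N ≤ A.subgroupOf N ⊔ T.subgroupOf N := by
    intro S T _ hST hT y hy
    have := hST y hy
    rw [sup_comm, ← SetLike.mem_coe, normal_mul] at this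
    obtain ⟨b, hb, t, ht, hbt⟩ := this
    have hbN : b ∈ N := by
      rw [show b = (y : G) * t⁻¹ from by rw [← hbt]; group]
      exact mul_mem y.2 (inv_mem (hT ht))
    rw [show y = (⟨b, hbN⟩ : N) * ⟨t, hT ht⟩ from Subtype.ext hbt.symm]
    exact mul_mem (mem_sup_left hb) (mem_sup_right ht)
  have hH₂hall : Cfsg.IsPiHall π H₂ := isPiHall_conj (isPiHall_conj hH g) _
  obtain ⟨n, hn⟩ := conj_over hFT (X := X.subgroupOf N) (B := A.subgroupOf N) (H := H₂.subgroupOf N)
    (K := K.subgroupOf N) (fun y hy => (mem_inf.1 hy).2)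
    (fun y hy => (mem_inf.1 ((SetLike.ext_iff.1 hX (y : G)).2 hy)).1) (fun y hy => (mem_inf.1 hy).1)
    (fun y hy => (SetLike.ext_iff.1 hX (y : G)).1 ⟨(mem_inf.1 hy).2, (mem_inf.1 hy).1⟩)
    (fun y hy => ⟨(mem_inf.1 hy).2, (mem_inf.1 hy).1⟩)
    (le_antisymm (sup_le le_sup_left (hsub _ _ hHN (fun y hy => h2 ▸ mem_sup_left hy) hKN))
      (sup_le le_sup_left (hsub _ _ hKN (fun y hy => h2 ▸ mem_sup_left hy) hHN)))
    (by
      refine (coprime_pi (π := π) ?_ ?_).symm
      · intro p hp hd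
        rw [relIndex_subgroupOf hHN] at hd
        exact hH₂hall.1 p hp (hd.trans (relIndex_dvd_card _ _))
      · intro p hp hpi hd
        refine (isPiHall_inf hK A).2 p hp hpi ?_
        rw [show (K.subgroupOf A).index = K.relIndex A from rfl, ← inf_relIndex_right,
          ← hXdef]
        refine hd.trans ?_
        rw [show (X.subgroupOf N).relIndex (A.subgroupOf N)
            = X.relIndex ((A.subgroupOf N).map N.subtype) from relIndex_comap _ _ _,
          subgroupOf_map_subtype]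
        exact ⟨_, (relIndex_mul_relIndex X (A ⊓ N) A (le_inf inf_le_right hXN) inf_le_left).symm⟩)
  refine ⟨(n : G) * ((a : G) * g), ?_⟩
  rw [← map_conj_conj, ← map_conj_conj, ← hH₁, ← hH₂]
  ext y
  constructor
  · intro hy
    obtain ⟨x, hx, hxy⟩ := (SetLike.ext_iff.1 hn ⟨y, hKN hy⟩).1 hy
    exact ⟨x, hx, congrArg Subtype.val hxy⟩
  · rintro ⟨x, hx, rfl⟩
    exact (SetLike.ext_iff.1 hn (n * ⟨x, hHN hx⟩ * n⁻¹)).2 ⟨⟨x, hHN hx⟩, hx, rfl⟩

end Cfsg.Agent.FTCons
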