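import Cfsg.Agent.FTCons.MetaSol
import Cfsg.Agent.FTCons.Hall

/-!
A group in which no class size is divisible by four is solvable.
-/

set_option autoImplicit false

open Subgroup
open scoped Pointwise

namespace Cfsg.Agent.FTCons

universe u

variable {G : Type u} [Group G] [Finite G]

/-- The conjugates of a proper subgroup do not cover the group. -/
theorem exists_not_conj_mem {H : Subgroup G} (hH : H ≠ ⊤) : ∃ g : G, ∀ c : G, c⁻¹ * g * c ∉ H := by
  classical
  by_contra hno
  push Not at hno
  have : Fintype G := Fintype.ofFinite G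
  have : Fintype (G ⧸ H) := Fintype.ofFinite _
  have := Fintype.ofFinite (Quotient (MulAction.orbitRel G (G ⧸ H)))
  have hone : Fintype.card (Quotient (MulAction.orbitRel G (G ⧸ H))) = 1 := by
    have := MulAction.pretransitive_iff_subsingleton_quotient G (G ⧸ H)
    have hs : Subsingleton (Quotient (MulAction.orbitRel G (G ⧸ H))) := this.1 inferInstance
    have hne : Nonempty (Quotient (MulAction.orbitRel G (G ⧸ H))) := ⟨⟦((1 : G) : G ⧸ H)⟧⟩
    exact Fintype.card_eq_one_iff.2 ⟨hne.some, fun x => Subsingleton.elim _ _⟩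
  have hsum := MulAction.sum_card_fixedBy_eq_card_orbits_mul_card_group G (G ⧸ H)
  rw [hone, one_mul] at hsum
  have hlt : ∑ _g : G, 1 < ∑ g : G, Fintype.card (MulAction.fixedBy (G ⧸ H) g) := by
    refine Finset.sum_lt_sum (fun g _ => ?_) ⟨1, Finset.mem_univ _, ?_⟩
    · obtain ⟨c, hc⟩ := hno g
      refine Fintype.card_pos_iff.2 ⟨⟨(c : G ⧸ H), ?_⟩⟩
      rw [MulAction.mem_fixedBy, MulAction.Quotient.smul_coe, QuotientGroup.eq, smul_eq_mul]
      have := inv_mem hc
      simpa [mul_assoc] using this
    · have h2 : 1 < Fintype.card (G ⧸ H) := by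
        rw [← Nat.card_eq_fintype_card, ← Subgroup.index_eq_card]
        refine Nat.lt_of_le_of_ne (Nat.one_le_iff_ne_zero.2 Subgroup.index_ne_zero_of_finite)
          (fun h => hH (index_eq_one.1 h.symm))
      refine h2.trans_le (Fintype.card_le_of_injective
        (fun x => ⟨x, one_smul G x⟩) fun x y hxy => congrArg Subtype.val hxy)
  simp only [Finset.sum_const, smul_eq_mul, mul_one, Finset.card_univ] at hlt
  omega

/-- A simple group where no class size is a multiple of four is not of even order, unless cyclic. -/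
theorem cyclic_of_no_four [IsSimpleGroup G]
    (h : ∀ x : G, ¬ 4 ∣ (centralizer ({x} : Set G)).index) (he : Even (Nat.card G)) :
    IsCyclic G := by
  classical
  have : Fintype G := Fintype.ofFinite G
  by_contra hnc
  obtain ⟨u, hu⟩ := exists_prime_orderOf_dvd_card' (G := G) 2 he.two_dvd
  have hu1 : u ≠ 1 := fun h => by rw [h, orderOf_one] at hu; omega
  have hC : centralizer ({u} : Set G) ≠ ⊤ := fun hC => hnc (isCyclic_of_central (z := u)
    (mem_center_iff.2 fun g => mem_centralizer_singleton_iff.1 (hC ▸ mem_top g)) hu1)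
  obtain ⟨g, hg⟩ := exists_not_conj_mem hC
  -- the conjugates of `g` avoid the centralizer of `u`
  let X := ConjAct G
  let Ω := MulAction.orbit X g
  have hΩ : Nat.card Ω = (centralizer ({g} : Set G)).index := by
    rw [Nat.card_coe_set_eq, ← MulAction.index_stabilizer, ConjAct.stabilizer_eq_centralizer]
    rfl
  rcases Nat.even_or_odd (Nat.card Ω) with hev | hodd
  · let φ : X →* Equiv.Perm Ω := MulAction.toPermHom X Ω
    set σ := φ (ConjAct.toConjAct u) with hσ
    have hfix : ∀ w : Ω, σ w ≠ w := by
      rintro ⟨w, hw⟩ hwf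
      obtain ⟨c, rfl⟩ := MulAction.mem_orbit_iff.1 hw
      have hwf' : u * (ConjAct.ofConjAct c * g * (ConjAct.ofConjAct c)⁻¹) * u⁻¹
          = ConjAct.ofConjAct c * g * (ConjAct.ofConjAct c)⁻¹ := by
        have := congrArg Subtype.val hwf
        change ConjAct.toConjAct u • (c • g) = c • g at this
        rw [show c • g = ConjAct.ofConjAct c * g * (ConjAct.ofConjAct c)⁻¹ from ConjAct.smul_def c g,
          ConjAct.smul_def, ConjAct.ofConjAct_toConjAct] at this
        exact this
      refine hg (ConjAct.ofConjAct c)⁻¹ (mem_centralizer_singleton_iff.2 ?_)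
      rw [inv_inv]
      exact (mul_inv_eq_iff_eq_mul.1 hwf').symm
    have hσ1 : σ ≠ 1 := fun h1 => hfix ⟨g, MulAction.mem_orbit_self g⟩ (by rw [h1]; rfl)
    have hσ2 : σ * σ = 1 := by
      rw [hσ, ← map_mul, ← map_mul, ← pow_two, ← hu, pow_orderOf_eq_one, map_one, map_one]
    have hord : orderOf σ = 2 := orderOf_eq_prime (by rw [pow_two, hσ2]) hσ1
    obtain ⟨k, hk⟩ := Equiv.Perm.cycleType_prime_order (σ := σ) (by rw [hord]; exact Nat.prime_two)
    rw [hord] at hk
    have hsupp : σ.support.card = Nat.card Ω := by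
      rw [Nat.card_eq_fintype_card, ← Finset.card_univ]
      exact congrArg Finset.card (Finset.eq_univ_iff_forall.2 fun w => Equiv.Perm.mem_support.2 (hfix w))
    have hsum : 2 * (k + 1) = Nat.card Ω := by
      rw [← hsupp, ← Equiv.Perm.sum_cycleType, hk]
      simp only [Multiset.sum_replicate, smul_eq_mul]
      ring
    have hkeven : Odd (k + 1) := by
      rw [← Nat.not_even_iff_odd]
      rintro ⟨t, ht⟩
      exact h g ⟨t, by rw [← hΩ, ← hsum, ht]; ring⟩
    have hsign : Equiv.Perm.sign σ = -1 := by
      rw [Equiv.Perm.sign_of_cycleType, hk, Multiset.sum_replicate, Multiset.card_replicate,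
        smul_eq_mul, Odd.neg_one_pow]
      obtain ⟨t, ht⟩ := hkeven
      exact ⟨3 * t + 1, by omega⟩
    let ψ : G →* ℤˣ := (Equiv.Perm.sign.comp φ).comp ConjAct.toConjAct.toMonoidHom
    rcases IsSimpleGroup.eq_bot_or_eq_top_of_normal ψ.ker inferInstance with hk' | hk'
    · have hinj : Function.Injective ψ := (MonoidHom.ker_eq_bot_iff ψ).1 hk'
      refine hnc (isCyclic_of_solvable ?_)
      exact solvable_of_solvable_injective hinj
    · have : ψ u = 1 := MonoidHom.mem_ker.1 (hk' ▸ mem_top u)
      have h' : Equiv.Perm.sign σ = 1 := this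
      rw [hsign] at h'
      exact absurd h' (by decide)
  · -- an odd class: the centralizer of `g` contains a Sylow subgroup
    rw [hΩ] at hodd
    obtain ⟨R⟩ : Nonempty (Sylow 2 ↥(centralizer ({g} : Set G))) := inferInstance
    obtain ⟨T, hT⟩ := (R.2.map (centralizer ({g} : Set G)).subtype).exists_le_sylow
    have hcard : Nat.card T ≤ Nat.card ((R : Subgroup ↥(centralizer ({g} : Set G))).map
        (centralizer ({g} : Set G)).subtype) := by
      rw [card_map_of_injective (centralizer ({g} : Set G)).subtype_injective,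
        R.card_eq_multiplicity, T.card_eq_multiplicity]
      refine Nat.pow_le_pow_right (by norm_num) (le_of_eq ?_)
      have hz : (centralizer ({g} : Set G)).index.factorization 2 = 0 :=
        Nat.factorization_eq_zero_of_not_dvd (fun h2 => by obtain ⟨t, ht⟩ := hodd; omega)
      rw [← card_mul_index (centralizer ({g} : Set G)), Nat.factorization_mul Nat.card_pos.ne'
        Subgroup.index_ne_zero_of_finite, Finsupp.add_apply, hz, add_zero]
    have hTC : (T : Subgroup G) ≤ centralizer ({g} : Set G) := by
      rw [← eq_of_le_of_card_ge hT hcard]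
      exact map_subtype_le _
    obtain ⟨U, hU⟩ := (IsPGroup.of_card (n := 1) (G := zpowers u)
      (by rw [Nat.card_zpowers, hu, pow_one])).exists_le_sylow
    obtain ⟨c, rfl⟩ := MulAction.exists_smul_eq G T U
    have hcu := hU (mem_zpowers u)
    rw [Sylow.coe_subgroup_smul, Coprime.mem_conj_smul] at hcu
    have := mem_centralizer_singleton_iff.1 (hTC hcu)
    refine hg c⁻¹ (mem_centralizer_singleton_iff.2 ?_)
    rw [inv_inv]
    calc c * g * c⁻¹ * u = c * (g * (c⁻¹ * u * c)) * c⁻¹ := by group
      _ = c * (c⁻¹ * u * c * g) * c⁻¹ := by rw [← this]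
      _ = u * (c * g * c⁻¹) := by group

/-- Class sizes of a normal subgroup and of a quotient divide class sizes. -/
theorem solvable_of_no_four (hFT : OddSolvable.{u}) :
    ∀ (n : ℕ) (G : Type u) [Group G] [Finite G], Nat.card G = n →
      (∀ x : G, ¬ 4 ∣ (centralizer ({x} : Set G)).index) → Group.IsSolvable G := by
  intro n
  induction n using Nat.strong_induction_on with
  | _ n ih =>
    intro G _ _ hn h
    rcases subsingleton_or_nontrivial G with hs | hnt
    · exact Group.isSolvable_of_comm fun p q => Subsingleton.elim _ _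
    rcases Nat.even_or_odd (Nat.card G) with he | ho
    swap
    · exact hFT G ho
    by_cases hsimple : IsSimpleGroup G
    · have := cyclic_of_no_four h he
      let := IsCyclic.commGroup (α := G)
      exact Group.isSolvable_of_comm fun p q => mul_comm p q
    obtain ⟨N, hN, hNb, hNt⟩ : ∃ N : Subgroup G, N.Normal ∧ N ≠ ⊥ ∧ N ≠ ⊤ := by
      by_contra hno
      push Not at hno
      exact hsimple ⟨fun N hN => or_iff_not_imp_left.2 (hno N hN)⟩
    have := hN
    refine isSolvable_ext N (ih (Nat.card N) ?_ N rfl fun x hx => h x (hx.trans ?_))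
      (ih (Nat.card (G ⧸ N)) ?_ (G ⧸ N) rfl fun q hq => ?_)
    · rw [← hn]
      exact lt_of_le_of_ne (card_le_card_group N) fun e => hNt (eq_top_of_card_eq N e)
    · have e : centralizer ({x} : Set N) = (centralizer ({(x : G)} : Set G)).subgroupOf N := by
        ext v
        simp [mem_subgroupOf, mem_centralizer_singleton_iff, Subtype.ext_iff]
      rw [e]
      change (centralizer ({(x : G)} : Set G)).relIndex N ∣ _
      rw [← inf_relIndex_right, relIndex_inf_left_mul]
      exact ⟨_, (relIndex_mul_index le_sup_left).symm⟩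
    · rw [← hn, ← Subgroup.index_eq_card, ← N.index_mul_card]
      exact lt_mul_of_one_lt_right (Nat.pos_of_ne_zero Subgroup.index_ne_zero_of_finite)
        (N.one_lt_card_iff_ne_bot.2 hNb)
    · obtain ⟨x, rfl⟩ := QuotientGroup.mk'_surjective N q
      refine h x (hq.trans (dvd_trans ?_ (index_map_dvd _ (QuotientGroup.mk'_surjective N))))
      exact index_dvd_of_le (by
        rintro _ ⟨v, hv, rfl⟩
        refine mem_centralizer_singleton_iff.2 ?_
        rw [← map_mul, ← map_mul, mem_centralizer_singleton_iff.1 hv])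

end Cfsg.Agent.FTCons
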