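import Cfsg.Agent.FTCons.Basic
import Cfsg.Agent.Invol.BaerSuzuki
import Cfsg.Agent.Core.PCore

/-!
A finite group in whose subgroups no two non-central classes have coprime sizes is solvable,
given that groups of odd order are solvable.
-/

set_option autoImplicit false

open Subgroup

namespace Cfsg.Agent.FTCons

universe u

section Dihedral

variable {G : Type u} [Group G]

/-- An element inverting an element of odd prime order gives a subgroup with coprime class
sizes `2` and `p`. -/
theorem coprime_classes_of_inverts {p : ℕ} (hp : p.Prime) (hp2 : p ≠ 2) {x u : G}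
    (hx : orderOf x = p) (hu : u * x * u⁻¹ = x⁻¹) :
    ∃ (H : Subgroup G) (a b : H), (Subgroup.centralizer ({a} : Set H)).index = 2 ∧
      (Subgroup.centralizer ({b} : Set H)).index = p := by
  set H : Subgroup G := closure {x, u} with hH
  have hxH : x ∈ H := subset_closure (Set.mem_insert _ _)
  have huH : u ∈ H := subset_closure (Set.mem_insert_of_mem _ rfl)
  have hx1 : x ≠ 1 := fun h => hp.one_lt.ne' (hx ▸ orderOf_eq_one_iff.2 h)
  -- squares equal to one in `⟨x⟩` are trivial
  have hsq : ∀ i : ℤ, x ^ i = (x ^ i)⁻¹ → x ^ i = 1 := by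
    intro i hi
    rw [eq_inv_iff_mul_eq_one, ← zpow_add, ← orderOf_dvd_iff_zpow_eq_one, hx] at hi
    rw [← orderOf_dvd_iff_zpow_eq_one, hx]
    have hp' : Prime (p : ℤ) := Nat.prime_iff_prime_int.1 hp
    rcases hp'.dvd_or_dvd (show (p : ℤ) ∣ 2 * i by simpa [two_mul] using hi) with h | h
    · exact absurd ((Nat.prime_dvd_prime_iff_eq hp Nat.prime_two).1 (by exact_mod_cast h)) hp2
    · exact h
  have hconj : ∀ i : ℤ, u * x ^ i * u⁻¹ = (x ^ i)⁻¹ := by
    intro i
    rw [← conj_zpow, hu, inv_zpow]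
  -- every element of `H` is `x ^ i * u ^ j`
  have hform : ∀ g ∈ H, ∃ i j : ℤ, g = x ^ i * u ^ j := by
    intro g hg
    have hpar : ∀ (j : ℤ) (i : ℤ), ∃ k : ℤ, u ^ j * x ^ i = x ^ k * u ^ j := by
      intro j
      induction j using Int.induction_on with
      | zero => intro i; exact ⟨i, by simp⟩
      | succ n ih =>
        intro i
        obtain ⟨k, hk⟩ := ih (-i)
        refine ⟨k, ?_⟩
        have h1 : u * x ^ i = x ^ (-i) * u := by
          rw [zpow_neg, ← hconj i]; group
        rw [zpow_add_one, mul_assoc, h1, ← mul_assoc, hk, mul_assoc]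
      | pred n ih =>
        intro i
        obtain ⟨k, hk⟩ := ih (-i)
        refine ⟨k, ?_⟩
        have h1 : u⁻¹ * x ^ i = x ^ (-i) * u⁻¹ := by
          have := hconj (-i)
          rw [← zpow_neg, neg_neg] at this
          rw [← this]; group
        rw [zpow_sub_one, mul_assoc, h1, ← mul_assoc, hk, mul_assoc]
    induction hg using Subgroup.closure_induction with
    | mem y hy =>
      rcases hy with rfl | hy
      · exact ⟨1, 0, by simp⟩
      · exact ⟨0, 1, by simp [Set.mem_singleton_iff.1 hy]⟩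
    | one => exact ⟨0, 0, by simp⟩
    | mul a b _ _ iha ihb =>
      obtain ⟨i, j, rfl⟩ := iha
      obtain ⟨i', j', rfl⟩ := ihb
      obtain ⟨k, hk⟩ := hpar j i'
      exact ⟨i + k, j + j', by
        rw [zpow_add, zpow_add]; simp only [mul_assoc]; rw [← mul_assoc (u ^ j), hk]
        simp only [mul_assoc]⟩
    | inv a _ iha =>
      obtain ⟨i, j, rfl⟩ := iha
      obtain ⟨k, hk⟩ := hpar (-j) (-i)
      exact ⟨k, -j, by rw [mul_inv_rev, ← zpow_neg, ← zpow_neg, hk]⟩
  refine ⟨H, ⟨x, hxH⟩, ⟨u, huH⟩, ?_, ?_⟩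
  · -- the class of `x` is `{x, x⁻¹}`
    rw [index_eq_two_iff_exists_notMem_and]
    have hbi : ∀ b ∈ H, b * x * b⁻¹ = x ∨ b * x * b⁻¹ = x⁻¹ := by
      intro b hb
      induction hb using Subgroup.closure_induction with
      | mem y hy =>
        rcases hy with rfl | hy
        · exact Or.inl (mul_inv_cancel_right _ _)
        · rw [Set.mem_singleton_iff.1 hy]; exact Or.inr hu
      | one => simp
      | mul a b _ _ iha ihb =>
        have e : a * b * x * (a * b)⁻¹ = a * (b * x * b⁻¹) * a⁻¹ := by group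
        rcases ihb with hb' | hb' <;> rw [e, hb']
        · exact iha
        · rw [← conj_inv]
          rcases iha with ha' | ha'
          · exact Or.inr (by rw [ha'])
          · exact Or.inl (by rw [ha', inv_inv])
      | inv a _ iha =>
        rcases iha with ha' | ha'
        · refine Or.inl ?_
          calc a⁻¹ * x * a⁻¹⁻¹ = a⁻¹ * (a * x * a⁻¹) * a⁻¹⁻¹ := by rw [ha']
            _ = x := by group
        · refine Or.inr ?_
          calc a⁻¹ * x * a⁻¹⁻¹ = a⁻¹ * (a * x * a⁻¹)⁻¹ * a⁻¹⁻¹ := by rw [ha', inv_inv x]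
            _ = x⁻¹ := by group
    have hmem : ∀ b : H, b ∈ centralizer ({⟨x, hxH⟩} : Set H) ↔ (b : G) * x * (b : G)⁻¹ = x := by
      intro b
      rw [mem_centralizer_singleton_iff, mul_inv_eq_iff_eq_mul, Subtype.ext_iff]
      simp only [Subgroup.coe_mul]
    refine ⟨⟨u, huH⟩, fun h => ?_, fun b => ?_⟩
    · rw [hmem, hu] at h
      exact hx1 (by simpa using hsq 1 (by simpa using h.symm))
    · rw [hmem, hmem]
      rcases hbi b b.2 with hb | hb
      · exact Or.inr hb
      · refine Or.inl ?_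
        calc ((b * ⟨u, huH⟩ : H) : G) * x * ((b * ⟨u, huH⟩ : H) : G)⁻¹
            = (b : G) * (u * x * u⁻¹) * (b : G)⁻¹ := by push_cast; group
          _ = ((b : G) * x * (b : G)⁻¹)⁻¹ := by rw [hu, conj_inv]
          _ = x := by rw [hb, inv_inv]
  · -- the cosets of the centralizer of `u` are represented by the powers of `x`
    set C := centralizer ({⟨u, huH⟩} : Set H)
    rw [index, ← Nat.card_fin p]
    symm
    refine Nat.card_congr (Equiv.ofBijective
      (fun i : Fin p => ((⟨x, hxH⟩ ^ (i : ℕ) : H) : H ⧸ C)) ⟨?_, ?_⟩)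
    · intro i j hij
      have h := QuotientGroup.eq.1 hij
      rw [mem_centralizer_singleton_iff, Subtype.ext_iff] at h
      push_cast at h
      rw [← zpow_natCast, ← zpow_natCast, ← zpow_neg, ← zpow_add] at h
      have h2 := hconj (-(i : ℤ) + (j : ℤ))
      rw [← h, mul_inv_cancel_right] at h2
      have h3 := hsq _ h2
      rw [zpow_add, zpow_neg, zpow_natCast, zpow_natCast, inv_mul_eq_one,
        pow_eq_pow_iff_modEq, hx] at h3
      exact Fin.ext (Nat.ModEq.eq_of_lt_of_lt h3 i.2 j.2)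
    · intro q
      induction q using QuotientGroup.induction_on with
      | H g =>
        obtain ⟨i, j, hg⟩ := hform g g.2
        refine ⟨⟨(i % p).toNat, ?_⟩, QuotientGroup.eq.2 ?_⟩
        · have := Int.emod_lt_of_pos i (show (0 : ℤ) < p by exact_mod_cast hp.pos)
          have := Int.emod_nonneg i (show (p : ℤ) ≠ 0 by exact_mod_cast hp.ne_zero)
          omega
        · have hpow : x ^ (i % p).toNat = x ^ i := by
            rw [← zpow_natCast, Int.toNat_of_nonneg
              (Int.emod_nonneg i (by exact_mod_cast hp.ne_zero)), ← hx, zpow_mod_orderOf]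
          rw [mem_centralizer_singleton_iff, Subtype.ext_iff]
          push_cast
          rw [hg, hpow, inv_mul_cancel_left]
          exact ((Commute.refl u).zpow_left j).eq

end Dihedral

/-- No two non-central classes of coprime size in any subgroup forces solvability. -/
theorem isSolvable_of_classSizes_not_coprime (hFT : OddSolvable.{u}) {G : Type u} [Group G]
    [Finite G]
    (h : ∀ (H : Subgroup G) (x y : H), 1 < (Subgroup.centralizer ({x} : Set H)).index →
      1 < (Subgroup.centralizer ({y} : Set H)).index →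
      ¬ ((Subgroup.centralizer ({x} : Set H)).index).Coprime
        (Subgroup.centralizer ({y} : Set H)).index) :
    Group.IsSolvable G := by
  by_contra hns
  set R : Subgroup G := Cfsg.pCore 2 G with hR
  have hR2 : IsPGroup 2 R := Core.pCore_isPGroup
  have : Fact (Nat.Prime 2) := ⟨Nat.prime_two⟩
  have hRsol : Group.IsSolvable R :=
    have := hR2.isNilpotent
    inferInstance
  have heven : ¬ Odd (Nat.card (G ⧸ R)) := fun ho =>
    hns (Group.isSolvable_of_ker_le_range R.subtype (QuotientGroup.mk' R)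
      (hG' := hRsol) (hG'' := hFT _ ho) (by simp))
  obtain ⟨t, ht⟩ := exists_prime_orderOf_dvd_card' (G := G ⧸ R) 2
    (even_iff_two_dvd.1 (Nat.not_odd_iff_even.1 heven))
  have hO : ∀ N : Subgroup (G ⧸ R), N.Normal → IsPGroup 2 N → t ∉ N := by
    intro N hN hN2 htN
    have := Core.le_pCore (hN := hN) hN2 htN
    rw [Core.pCore_quotient_eq_bot, Subgroup.mem_bot] at this
    rw [this, orderOf_one] at ht
    exact absurd ht (by norm_num)
  obtain ⟨_, k, hk1, hkodd, hkinv, -⟩ := Invol.exists_inverted_odd ht hO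
  set p := (orderOf k).minFac with hpdef
  have hp : p.Prime := Nat.minFac_prime (fun h1 => hk1 (orderOf_eq_one_iff.1 h1))
  have hp2 : p ≠ 2 := fun h2 =>
    absurd (hkodd.of_dvd_nat (show p ∣ orderOf k from Nat.minFac_dvd _)) (by rw [h2]; decide)
  set y := k ^ (orderOf k / p) with hy
  have hyord : orderOf y = p := by
    rw [hy, orderOf_pow_orderOf_div (orderOf_pos k).ne' (Nat.minFac_dvd _)]
  have hyinv : t * y * t⁻¹ = y⁻¹ := by rw [hy, ← conj_pow, hkinv, inv_pow]
  obtain ⟨x0, hx0⟩ := QuotientGroup.mk'_surjective R y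
  have hx0p : x0 ^ p ∈ R := by
    rw [← QuotientGroup.eq_one_iff, ← QuotientGroup.mk'_apply, map_pow, hx0, ← hyord,
      pow_orderOf_eq_one]
  obtain ⟨e, he⟩ := hR2 ⟨_, hx0p⟩
  set x := x0 ^ (2 ^ e) with hx
  have hxp : x ^ p = 1 := by
    have := congrArg Subtype.val he
    rw [hx, ← pow_mul, mul_comm, pow_mul]
    simpa using this
  have hcop : (orderOf y).Coprime (2 ^ e) := by
    rw [hyord]; exact ((Nat.coprime_primes hp Nat.prime_two).2 hp2).pow_right e
  have hfx : QuotientGroup.mk' R x = y ^ (2 ^ e) := by rw [hx, map_pow, hx0]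
  have hfxord : orderOf (QuotientGroup.mk' R x) = p := by
    rw [hfx, hcop.orderOf_pow, hyord]
  have hxord : orderOf x = p := by
    refine Nat.dvd_antisymm (orderOf_dvd_of_pow_eq_one hxp) ?_
    rw [← hfxord]
    exact orderOf_map_dvd _ x
  have hfxinv : t * QuotientGroup.mk' R x * t⁻¹ = (QuotientGroup.mk' R x)⁻¹ := by
    rw [hfx, ← conj_pow, hyinv, inv_pow]
  obtain ⟨s, hs⟩ := QuotientGroup.mk'_surjective R t
  -- the preimage of `⟨x⟩` and its Sylow `p`-subgroups
  have hpF : Fact p.Prime := ⟨hp⟩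
  set K : Subgroup G := (zpowers (QuotientGroup.mk' R x)).comap (QuotientGroup.mk' R) with hK
  have hxK : x ∈ K := mem_zpowers _
  have hsK : s * x * s⁻¹ ∈ K := by
    rw [hK, mem_comap, map_mul, map_mul, map_inv, hs, hfxinv]
    exact inv_mem (mem_zpowers _)
  have hKcard : Nat.card K = p * Nat.card R := by
    have h1 := K.card_mul_index
    rw [hK, index_comap_of_surjective _ (QuotientGroup.mk'_surjective R),
      card_eq_card_quotient_mul_card_subgroup R,
      ← (zpowers (QuotientGroup.mk' R x)).card_mul_index, Nat.card_zpowers, hfxord] at h1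
    refine Nat.eq_of_mul_eq_mul_right (Nat.pos_of_ne_zero
      (zpowers (QuotientGroup.mk' R x)).index_ne_zero_of_finite) ?_
    rw [h1]; ring
  have hnotdvd : ¬ p ∣ Nat.card R := by
    obtain ⟨m, hm⟩ := hR2.exists_card_eq
    rw [hm]
    exact fun hd => hp2 ((Nat.prime_dvd_prime_iff_eq hp Nat.prime_two).1 (hp.dvd_of_dvd_pow hd))
  have hfact : (Nat.card K).factorization p = 1 := by
    rw [hKcard, Nat.factorization_mul hp.ne_zero Nat.card_pos.ne']
    simp [hp.factorization_self, Nat.factorization_eq_zero_of_not_dvd hnotdvd]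
  have hsyl : ∀ z : K, orderOf z = p → ∃ P : Sylow p K, (P : Subgroup K) = zpowers z := by
    intro z hz
    exact ⟨Sylow.ofCard (zpowers z) (by rw [Nat.card_zpowers, hz, hfact, pow_one]), rfl⟩
  obtain ⟨P, hP⟩ := hsyl ⟨x, hxK⟩ (by rw [← Subgroup.orderOf_coe]; exact hxord)
  obtain ⟨Q, hQ⟩ := hsyl ⟨s * x * s⁻¹, hsK⟩ (by
    rw [← Subgroup.orderOf_coe]
    exact (MulEquiv.orderOf_eq (MulAut.conj s) x).trans hxord)
  obtain ⟨n, hn⟩ := MulAction.exists_smul_eq K Q P
  have hmem : (n : G) * (s * x * s⁻¹) * (n : G)⁻¹ ∈ zpowers x := by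
    have h1 : n * ⟨s * x * s⁻¹, hsK⟩ * n⁻¹ ∈ (zpowers (⟨x, hxK⟩ : K)) := by
      rw [← hP, ← hn, Sylow.coe_subgroup_smul, hQ]
      exact Subgroup.smul_mem_pointwise_smul _ (MulAut.conj n) _ (mem_zpowers _)
    obtain ⟨i, hi⟩ := mem_zpowers_iff.1 h1
    exact mem_zpowers_iff.2 ⟨i, by simpa using congrArg Subtype.val hi⟩
  obtain ⟨i, hi⟩ := mem_zpowers_iff.1 hmem
  have hu : ((n : G) * s) * x * ((n : G) * s)⁻¹ = x⁻¹ := by
    have e1 : ((n : G) * s) * x * ((n : G) * s)⁻¹ = x ^ i := by rw [hi]; group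
    rw [e1]
    obtain ⟨j, hj⟩ := mem_zpowers_iff.1 (mem_comap.1 n.2)
    have e2 := congrArg (QuotientGroup.mk' R) e1
    simp only [map_mul, map_inv, map_zpow, hs, ← hj] at e2
    set w := QuotientGroup.mk' R x with hw
    have e3 : w ^ i = w ^ (-1 : ℤ) := by
      rw [← e2, zpow_neg_one]
      calc w ^ j * t * w * (w ^ j * t)⁻¹ = w ^ j * (t * w * t⁻¹) * (w ^ j)⁻¹ := by group
        _ = w⁻¹ := by rw [hfxinv]; group
    rw [zpow_eq_zpow_iff_modEq, hfxord] at e3
    rw [← zpow_neg_one, zpow_eq_zpow_iff_modEq, hxord]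
    exact e3
  obtain ⟨H, a, b, ha, hb⟩ := coprime_classes_of_inverts hp hp2 hxord hu
  refine h H a b (by omega) (by rw [hb]; exact hp.one_lt) ?_
  rw [ha, hb]
  exact (Nat.coprime_primes Nat.prime_two hp).2 (Ne.symm hp2)

end Cfsg.Agent.FTCons
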