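import Cfsg.Agent.FTCons.Basic
import Cfsg.Agent.Layer.LBalanceTwo
import Cfsg.Agent.Layer.SimpleComponents
import Cfsg.Agent.S1754

/-!
A component of the centralizer of an involution inside the layer, and standard subgroups of a group
with trivial odd core, given the solvability of groups of odd order.
-/

set_option autoImplicit false
set_option linter.style.haveILetI false

open Subgroup Cfsg
open scoped commutatorElement

namespace Cfsg.Agent.FTCons

universe u

variable {G : Type u} [Group G] [Finite G]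

/-- A quasisimple subgroup has even order. -/
theorem even_card_of_qs (hFT : OddSolvable.{u}) {L : Subgroup G} (hL : IsQuasisimple ↥L) :
    Even (Nat.card ↥L) := by
  by_contra h
  exact Layer.qs_not_isSolvable hL (hFT ↥L (Nat.not_even_iff_odd.1 h))

theorem not_le_oddCore_of_qs (hFT : OddSolvable.{u}) {L : Subgroup G} (hL : IsQuasisimple ↥L) :
    ¬ L ≤ pPrimeCore 2 G := by
  haveI : Fact (Nat.Prime 2) := ⟨Nat.prime_two⟩
  intro h
  have hodd : Odd (Nat.card ↥(pPrimeCore 2 G)) := Nat.coprime_two_right.mp Core.coprime_card_pPrimeCore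
  exact Nat.not_odd_iff_even.2 (even_card_of_qs hFT hL) (hodd.of_dvd_nat (card_dvd_of_le h))

omit [Finite G] in
theorem comm_central_mul {x y z w : G} (hz : Commute z (y * w)) (hw : Commute w x) :
    ⁅x * z, y * w⁆ = ⁅x, y⁆ := by
  calc ⁅x * z, y * w⁆ = x * (z * (y * w) * z⁻¹) * x⁻¹ * (y * w)⁻¹ := by
        rw [commutatorElement_def]; group
    _ = x * (y * w) * x⁻¹ * (y * w)⁻¹ := by rw [hz.eq, mul_inv_cancel_right]
    _ = x * y * (w * x⁻¹ * w⁻¹) * y⁻¹ := by group
    _ = ⁅x, y⁆ := by rw [hw.inv_right.eq, mul_inv_cancel_right, commutatorElement_def]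

omit [Finite G] in
/-- A product of pairwise commuting elements has the product of the commutators as commutator. -/
theorem comm_mul_mul {A B : Subgroup G} (hAB : A ≤ centralizer (B : Set G)) {a a' b b' : G}
    (ha : a ∈ A) (ha' : a' ∈ A) (hb : b ∈ B) (hb' : b' ∈ B) :
    ⁅a * b, a' * b'⁆ = ⁅a, a'⁆ * ⁅b, b'⁆ := by
  let f : ↥A × ↥B →* G := A.subtype.noncommCoprod B.subtype fun p q =>
    (mem_centralizer_iff.1 (hAB p.2) q q.2).symm
  have h := map_commutatorElement f (⟨a, ha⟩, ⟨b, hb⟩) (⟨a', ha'⟩, ⟨b', hb'⟩)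
  exact h.symm

/-- A subgroup whose elements commute with `t` modulo its centre has derived group centralised
by `t`. -/
theorem commutator_fixed {H : Subgroup G} {t : G}
    (h : ∀ x ∈ H, x⁻¹ * (t * x * t⁻¹) ∈ H ∧ x⁻¹ * (t * x * t⁻¹) ∈ centralizer (H : Set G)) :
    ⁅H, H⁆ ≤ centralizer ({t} : Set G) := by
  refine commutator_le.2 fun x hx y hy => ?_
  obtain ⟨hz, hzc⟩ := h x hx
  obtain ⟨hw, hwc⟩ := h y hy
  have h1 : ⁅t * x * t⁻¹, t * y * t⁻¹⁆ = ⁅x, y⁆ := by
    have h2 := comm_central_mul (x := x) (y := y) (z := x⁻¹ * (t * x * t⁻¹))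
      (w := y⁻¹ * (t * y * t⁻¹)) (mem_centralizer_iff.1 hzc _ (mul_mem hy hw)).symm
      (mem_centralizer_iff.1 hwc x hx).symm
    rwa [mul_inv_cancel_left, mul_inv_cancel_left] at h2
  rw [mem_centralizer_singleton_iff]
  have h3 : t * ⁅x, y⁆ * t⁻¹ = ⁅x, y⁆ := by
    rw [show t * ⁅x, y⁆ * t⁻¹ = MulAut.conj t ⁅x, y⁆ from rfl,
      show MulAut.conj t ⁅x, y⁆ = ⁅MulAut.conj t x, MulAut.conj t y⁆ from map_commutatorElement _ _ _]
    exact h1
  exact (mul_inv_eq_iff_eq_mul.1 h3).symm

omit [Finite G] in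
theorem conj_mem_map {D : Subgroup G} (t : G) {d : G} (hd : d ∈ D) :
    t * d * t⁻¹ ∈ D.map (MulAut.conj t).toMonoidHom := ⟨d, hd, rfl⟩

theorem le_or_commute_inf {C L X : Subgroup G} (hLC : L ≤ C) (hL : IsComponent (L.subgroupOf C))
    (hX : X.IsSubnormal) : L ≤ X ∨ ⁅L, X ⊓ C⁆ = ⊥ := by
  rcases Layer.component_le_or_commute hL hX.subgroupOf with h | h
  · exact Or.inl fun x hx => h (x := ⟨x, hLC hx⟩) hx
  · refine Or.inr ?_
    have h' := congrArg (Subgroup.map C.subtype) h
    rwa [map_commutator, map_subgroupOf_eq_of_le hLC, subgroupOf_map_subtype, Subgroup.map_bot] at h'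

/-- A component of `C(t)` inside a product of components permuted by `t` lies in one orbit. -/
theorem le_pair_of_le_sSup {t : G} (htt : t * t = 1) {L : Subgroup G}
    (hLC : L ≤ centralizer ({t} : Set G))
    (hL : IsComponent (L.subgroupOf (centralizer ({t} : Set G)))) :
    ∀ (n : ℕ) (S : Set (Subgroup G)), S.ncard ≤ n → (∀ M ∈ S, IsComponent M) →
      (∀ M ∈ S, M.map (MulAut.conj t).toMonoidHom ∈ S) → L ≤ sSup S →
      ∃ D ∈ S, L ≤ D ⊔ D.map (MulAut.conj t).toMonoidHom := by
  have hLq : IsQuasisimple ↥L := Layer.isQuasisimple_congr (subgroupOfEquivOfLe hLC) hL.2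
  intro n
  induction n with
  | zero =>
    intro S hn _ _ hle
    exfalso
    rw [Nat.le_zero, Set.ncard_eq_zero (Set.toFinite _)] at hn
    rw [hn, sSup_empty] at hle
    exact Layer.qs_subgroup_ne_bot hLq (le_bot_iff.1 hle)
  | succ n ih =>
    intro S hn hS hinv hle
    rcases S.eq_empty_or_nonempty with rfl | ⟨D, hD⟩
    · exfalso
      rw [sSup_empty] at hle
      exact Layer.qs_subgroup_ne_bot hLq (le_bot_iff.1 hle)
    set D' := D.map (MulAut.conj t).toMonoidHom with hD'
    have hD'S : D' ∈ S := hinv D hD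
    have hDD : D'.map (MulAut.conj t).toMonoidHom = D := by
      rw [hD', Layer.map_conj_map_conj, htt, Layer.map_conj_one]
    set O : Set (Subgroup G) := {D, D'} with hO
    set R := S \ O with hR
    have hOS : O ⊆ S := by
      rintro M (rfl | rfl)
      exacts [hD, hD'S]
    have hOinv : ∀ M ∈ O, M.map (MulAut.conj t).toMonoidHom ∈ O := by
      rintro M (rfl | rfl)
      exacts [Or.inr rfl, Or.inl hDD]
    have hRinv : ∀ M ∈ R, M.map (MulAut.conj t).toMonoidHom ∈ R := by
      intro M hM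
      refine ⟨hinv M hM.1, fun h => hM.2 ?_⟩
      have := hOinv _ h
      rwa [Layer.map_conj_map_conj, htt, Layer.map_conj_one] at this
    have hun : S = O ∪ R := (Set.union_sdiff_cancel hOS).symm
    have hd : Disjoint O R := Set.disjoint_sdiff_right
    have hcen := Layer.sSup_le_centralizer_of_disjoint (fun M h => hS M (hOS h))
      (fun M (h : M ∈ R) => hS M h.1) hd
    have hsub : ∀ T : Set (Subgroup G), T ⊆ S → (sSup T).IsSubnormal := fun T hT =>
      Layer.isSubnormal_sSup fun M hM => (hS M (hT hM)).1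
    have hconj : ∀ T : Set (Subgroup G), (∀ M ∈ T, M.map (MulAut.conj t).toMonoidHom ∈ T) →
        ∀ x ∈ sSup T, t * x * t⁻¹ ∈ sSup T := by
      intro T hT x hx
      refine (sSup_le_sSup ?_ : sSup _ ≤ sSup T) (Layer.conj_mem_sSup_image t hx)
      rintro _ ⟨M, hM, rfl⟩
      exact hT M hM
    have hdec : ∀ l ∈ L, ∃ a ∈ sSup O, ∃ b ∈ sSup R, a * b = l ∧
        a⁻¹ * (t * a * t⁻¹) ∈ sSup O ⊓ sSup R ∧ b⁻¹ * (t * b * t⁻¹) ∈ sSup O ⊓ sSup R := by
      intro l hl
      obtain ⟨a, ha, b, hb, hab⟩ := Layer.exists_mul_sSup_union (fun M h => hS M (hOS h))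
        (fun M (h : M ∈ R) => hS M h.1) hd (show l ∈ sSup (O ∪ R) from hun ▸ hle hl)
      have hfix : t * l * t⁻¹ = l := by
        rw [← (mem_centralizer_singleton_iff.1 (hLC hl)), mul_inv_cancel_right]
      have ha' := hconj O hOinv a ha
      have hb' := hconj R hRinv b hb
      have e : a⁻¹ * (t * a * t⁻¹) = b * (t * b * t⁻¹)⁻¹ := by
        rw [inv_mul_eq_iff_eq_mul, eq_comm, ← mul_assoc, hab, mul_inv_eq_iff_eq_mul]
        calc l = t * l * t⁻¹ := hfix.symm
          _ = t * a * t⁻¹ * (t * b * t⁻¹) := by rw [← hab]; group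
      have hz : a⁻¹ * (t * a * t⁻¹) ∈ sSup O ⊓ sSup R :=
        mem_inf.2 ⟨mul_mem (inv_mem ha) ha', e.symm ▸ mul_mem hb (inv_mem hb')⟩
      refine ⟨a, ha, b, hb, hab, hz, ?_⟩
      have hcomm : Commute (a⁻¹ * (t * a * t⁻¹)) b :=
        (mem_centralizer_iff.1 (hcen (mem_inf.1 hz).1) b hb).symm
      have e2 : b⁻¹ * (t * b * t⁻¹) = (a⁻¹ * (t * a * t⁻¹))⁻¹ := by
        have h5 : t * b * t⁻¹ = (a⁻¹ * (t * a * t⁻¹))⁻¹ * b := by
          rw [e, mul_inv_rev, inv_inv, inv_mul_cancel_right]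
        rw [h5, hcomm.inv_left.eq, inv_mul_cancel_left]
      rw [e2]
      exact inv_mem hz
    have hLfix : L ≤ (sSup O ⊓ centralizer ({t} : Set G)) ⊔ (sSup R ⊓ centralizer ({t} : Set G)) := by
      refine (Layer.qs_subgroup_perfect hLq).symm.le.trans (commutator_le.2 fun l hl l' hl' => ?_)
      obtain ⟨a, ha, b, hb, rfl, hza, hzb⟩ := hdec l hl
      obtain ⟨a', ha', b', hb', rfl, hza', hzb'⟩ := hdec l' hl'
      rw [comm_mul_mul hcen ha ha' hb hb']
      have key : ∀ (H K : Subgroup G), K ≤ centralizer (H : Set G) → ∀ x ∈ H, ∀ y ∈ H,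
          x⁻¹ * (t * x * t⁻¹) ∈ H ⊓ K → y⁻¹ * (t * y * t⁻¹) ∈ H ⊓ K →
          ⁅x, y⁆ ∈ H ⊓ centralizer ({t} : Set G) := by
        intro H K hK x hx y hy hzx hzy
        refine mem_inf.2 ⟨?_, ?_⟩
        · rw [commutatorElement_def]
          exact mul_mem (mul_mem (mul_mem hx hy) (inv_mem hx)) (inv_mem hy)
        · have h1 : ⁅t * x * t⁻¹, t * y * t⁻¹⁆ = ⁅x, y⁆ := by
            have h2 := comm_central_mul (x := x) (y := y) (z := x⁻¹ * (t * x * t⁻¹))
              (w := y⁻¹ * (t * y * t⁻¹))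
              (mem_centralizer_iff.1 (hK (mem_inf.1 hzx).2) _ (mul_mem hy (mem_inf.1 hzy).1)).symm
              (mem_centralizer_iff.1 (hK (mem_inf.1 hzy).2) x hx).symm
            rwa [mul_inv_cancel_left, mul_inv_cancel_left] at h2
          rw [mem_centralizer_singleton_iff]
          have h3 : t * ⁅x, y⁆ * t⁻¹ = ⁅x, y⁆ := by
            rw [show t * ⁅x, y⁆ * t⁻¹ = MulAut.conj t ⁅x, y⁆ from rfl,
              show MulAut.conj t ⁅x, y⁆ = ⁅MulAut.conj t x, MulAut.conj t y⁆ from
                map_commutatorElement _ _ _]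
            exact h1
          exact (mul_inv_eq_iff_eq_mul.1 h3).symm
      refine mul_mem (mem_sup_left (key _ _ (le_centralizer_iff.1 hcen) a ha a' ha' hza hza'))
        (mem_sup_right (key _ _ hcen b hb b' hb' ?_ ?_))
      · rwa [inf_comm]
      · rwa [inf_comm]
    rcases le_or_commute_inf hLC hL (hsub O hOS) with h1 | h1
    · refine ⟨D, hD, h1.trans ?_⟩
      rw [hO, sSup_pair]
    rcases le_or_commute_inf hLC hL (hsub R fun M hM => hM.1) with h2 | h2
    · have hlt : R.ncard ≤ n := by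
        have : R.ncard < S.ncard := Set.ncard_lt_ncard (Set.ssubset_iff_subset_ne.mpr
          ⟨Set.sdiff_subset, fun h => (h.symm ▸ hD : D ∈ R).2 (Or.inl rfl)⟩) (Set.toFinite _)
        omega
      obtain ⟨E, hE, hLE⟩ := ih R hlt (fun M hM => hS M hM.1) hRinv h2
      exact ⟨E, hE.1, hLE⟩
    exfalso
    rw [Subgroup.commutator_eq_bot_iff_le_centralizer] at h1 h2
    refine Layer.qs_subgroup_not_abelian hLq (commutator_eq_bot_iff_le_centralizer.2 ?_)
    have h3 : (sSup O ⊓ centralizer ({t} : Set G)) ⊔ (sSup R ⊓ centralizer ({t} : Set G)) ≤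
        centralizer (L : Set G) := sup_le (le_centralizer_iff.1 h1) (le_centralizer_iff.1 h2)
    exact le_centralizer_iff.1 (hLfix.trans h3)

/-- A component of `C(t)` inside a product of two components swapped by `t`. -/
theorem component_pair {t : G} (htt : t * t = 1) {L : Subgroup G}
    (hLt : L ≤ centralizer ({t} : Set G))
    (hL : IsComponent (L.subgroupOf (centralizer ({t} : Set G)))) {D : Subgroup G}
    (hD : IsComponent D) (hfix : D.map (MulAut.conj t).toMonoidHom ≠ D)
    (hLD : L ≤ D ⊔ D.map (MulAut.conj t).toMonoidHom) :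
    ∃ ψ : ↥D →* G, (∀ d : ↥D, ψ d = (d : G) * (t * d * t⁻¹)) ∧ L = ψ.range ∧
      L = (layer ↥((D ⊔ D.map (MulAut.conj t).toMonoidHom) ⊓ centralizer ({t} : Set G))).map
          ((D ⊔ D.map (MulAut.conj t).toMonoidHom) ⊓ centralizer ({t} : Set G)).subtype := by
  have hLq : IsQuasisimple ↥L := Layer.isQuasisimple_congr (subgroupOfEquivOfLe hLt) hL.2
  set C := centralizer ({t} : Set G) with hC
  set D' := D.map (MulAut.conj t).toMonoidHom with hD'
  have hD'c : IsComponent D' := Layer.isComponent_map_conj hD t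
  have hcomm : ∀ d ∈ D, ∀ e ∈ D', Commute d e := fun d hd e he =>
    Layer.commute_of_commutator_eq_bot (Layer.components_commute hD hD'c (Ne.symm hfix)) hd he
  let ψ : ↥D →* G :=
    { toFun := fun d => (d : G) * (t * d * t⁻¹)
      map_one' := by simp
      map_mul' := fun a b => by
        have h1 : (b : G) * (t * a * t⁻¹) = (t * a * t⁻¹) * b :=
          (hcomm b b.2 _ (conj_mem_map t a.2)).eq
        calc ((a * b : ↥D) : G) * (t * ((a * b : ↥D) : G) * t⁻¹)
            = (a : G) * ((b : G) * (t * a * t⁻¹)) * (t * b * t⁻¹) := by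
              rw [Subgroup.coe_mul]; group
          _ = (a : G) * (t * a * t⁻¹) * ((b : G) * (t * b * t⁻¹)) := by rw [h1]; group }
  set K := (D ⊔ D') ⊓ C with hK
  have hLK : L ≤ K := le_inf hLD hLt
  have hconjconj : ∀ x : G, t * (t * x * t⁻¹) * t⁻¹ = x := fun x => by
    rw [show t * (t * x * t⁻¹) * t⁻¹ = (t * t) * x * (t * t)⁻¹ by group, htt]; simp
  have hrange : ψ.range ≤ K := by
    rintro _ ⟨d, rfl⟩
    change (d : G) * (t * d * t⁻¹) ∈ K
    refine mem_inf.2 ⟨mul_mem (mem_sup_left d.2) (mem_sup_right (conj_mem_map t d.2)),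
      mem_centralizer_singleton_iff.2 ?_⟩
    have h1 : t * ((d : G) * (t * d * t⁻¹)) * t⁻¹ = (d : G) * (t * d * t⁻¹) := by
      rw [show t * ((d : G) * (t * d * t⁻¹)) * t⁻¹ = (t * d * t⁻¹) * (t * (t * d * t⁻¹) * t⁻¹) by group,
        hconjconj, (hcomm _ d.2 _ (conj_mem_map t d.2)).eq]
    exact (mul_inv_eq_iff_eq_mul.1 h1).symm
  have hKdec : ∀ x ∈ K, ∃ d : ↥D, ∃ z ∈ D ⊓ D', x = ψ d * z := by
    intro x hx
    obtain ⟨hxX, hxC⟩ := mem_inf.1 hx
    have hxX' : x ∈ ((D ⊔ D' : Subgroup G) : Set G) := hxX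
    rw [coe_mul_of_left_le_normalizer_right _ _ (Layer.component_le_normalizer_component hD hD'c),
      Set.mem_mul] at hxX'
    obtain ⟨a, ha, b, hb, rfl⟩ := hxX'
    refine ⟨⟨a, ha⟩, (t * a * t⁻¹)⁻¹ * b, mem_inf.2 ⟨?_, mul_mem (inv_mem (conj_mem_map t ha)) hb⟩, ?_⟩
    · have hbt : t * b * t⁻¹ ∈ D := by
        obtain ⟨d, hd, rfl⟩ := Subgroup.mem_map.1 hb
        change t * (t * d * t⁻¹) * t⁻¹ ∈ D
        rw [hconjconj]
        exact hd
      have h1 : (t * a * t⁻¹) * (t * b * t⁻¹) = a * b := by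
        rw [show (t * a * t⁻¹) * (t * b * t⁻¹) = t * (a * b) * t⁻¹ by group,
          ← (mem_centralizer_singleton_iff.1 hxC), mul_inv_cancel_right]
      rw [(hcomm _ hbt _ (conj_mem_map t ha)).symm.eq] at h1
      have h2 : (t * a * t⁻¹)⁻¹ * b = a⁻¹ * (t * b * t⁻¹) := by
        rw [inv_mul_eq_iff_eq_mul, ← mul_assoc,
          ← (hcomm a⁻¹ (inv_mem ha) _ (conj_mem_map t ha)).eq, mul_assoc,
          ← (hcomm _ hbt _ (conj_mem_map t ha)).eq, h1, inv_mul_cancel_left]
      rw [h2]
      exact mul_mem (inv_mem ha) hbt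
    · change a * b = a * (t * a * t⁻¹) * ((t * a * t⁻¹)⁻¹ * b)
      group
  have hperf : ∀ P : Subgroup G, ⁅P, P⁆ = P → P ≤ K → P ≤ ψ.range := by
    intro P hP hPK
    refine hP.symm.le.trans (commutator_le.2 fun x hx y hy => ?_)
    obtain ⟨d, z, hz, rfl⟩ := hKdec x (hPK hx)
    obtain ⟨e, w, hw, rfl⟩ := hKdec y (hPK hy)
    have hcz : ∀ z ∈ D ⊓ D', ∀ c ∈ D ⊔ D', Commute z c := fun z hz c hc => by
      have : D ⊔ D' ≤ centralizer ({z} : Set G) := sup_le
        (fun d hd => mem_centralizer_singleton_iff.2 (hcomm d hd z (mem_inf.1 hz).2).eq)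
        (fun d hd => mem_centralizer_singleton_iff.2 (hcomm z (mem_inf.1 hz).1 d hd).eq.symm)
      exact (mem_centralizer_singleton_iff.1 (this hc)).symm
    rw [comm_central_mul (hcz z hz _ (mem_inf.1 (hPK hy)).1)
      (hcz w hw _ (mem_inf.1 (hrange ⟨d, rfl⟩)).1), ← map_commutatorElement]
    exact ⟨_, rfl⟩
  have hLr : L ≤ ψ.range := hperf L (Layer.qs_subgroup_perfect hLq) hLK
  haveI : Nontrivial ↥ψ.range := by
    rw [nontrivial_iff_ne_bot]
    exact fun h => Layer.qs_subgroup_ne_bot hLq (le_bot_iff.1 (h ▸ hLr))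
  have hrq : IsQuasisimple ↥ψ.range := Layer.qs_of_surjective hD.2 _ ψ.rangeRestrict_surjective
  have hsn : ∀ U : Subgroup G, U ≤ C → L ≤ U → (L.subgroupOf U).IsSubnormal := fun U hU _ =>
    hL.1.comap (inclusion hU)
  have hLeq : L = ψ.range := (Layer.qs_sub_subnormal_cases hrq hLr
      (hsn _ (hrange.trans inf_le_right) hLr)).resolve_right fun h =>
    Layer.qs_subgroup_not_abelian hLq (le_bot_iff.1 ((commutator_mono le_rfl hLr).trans h.le))
  refine ⟨ψ, fun d => rfl, hLeq, le_antisymm ?_ ?_⟩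
  · rw [← map_subgroupOf_eq_of_le hLK]
    exact map_mono (Layer.component_le_layer ⟨hsn _ inf_le_right hLK,
      Layer.isQuasisimple_congr (subgroupOfEquivOfLe hLK).symm hLq⟩)
  · rw [Layer.map_layer_subtype_eq_sSup, sSup_le_iff]
    rintro _ ⟨M, hM, rfl⟩
    rw [hLeq]
    refine hperf _ ?_ (map_subtype_le M)
    rw [← map_commutator, Layer.qs_subgroup_perfect hM.2]

/-- The three positions of a component of `C(t)` when `L_{2'}(G) = E(G)`. -/
theorem component_cases (hFT : OddSolvable.{u}) (hL2 : pLayer 2 G ≤ layer G) {t : G}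
    (ht : orderOf t = 2) {L : Subgroup G} (hLt : L ≤ centralizer ({t} : Set G))
    (hL : IsComponent (L.subgroupOf (centralizer ({t} : Set G)))) :
    ∃ D : Subgroup G, IsComponent D ∧ (L = D ∨ (L < D ∧ D = ⁅D, zpowers t⁆) ∨
      (D.map (MulAut.conj t).toMonoidHom ≠ D ∧
        L = (layer ↥((D ⊔ D.map (MulAut.conj t).toMonoidHom) ⊓ centralizer ({t} : Set G))).map
          ((D ⊔ D.map (MulAut.conj t).toMonoidHom) ⊓ centralizer ({t} : Set G)).subtype)) := by
  haveI : Fact (Nat.Prime 2) := ⟨Nat.prime_two⟩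
  have htt : t * t = 1 := by rw [← pow_two, ← ht, pow_orderOf_eq_one]
  have hti : t⁻¹ = t := inv_eq_of_mul_eq_one_right htt
  have hLq : IsQuasisimple ↥L := Layer.isQuasisimple_congr (subgroupOfEquivOfLe hLt) hL.2
  set C := centralizer ({t} : Set G) with hC
  have hLE : L ≤ layer G := by
    refine le_trans ?_ hL2
    have hcl : centralizer ((zpowers t : Subgroup G) : Set G) = C := by
      rw [zpowers_eq_closure, centralizer_closure]
    have hT : IsPGroup 2 (zpowers t) := IsPGroup.of_card (n := 1) (by rw [Nat.card_zpowers, ht, pow_one])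
    refine le_trans ?_ (Layer.pLayer_centralizer_le_two hT)
    rw [hcl]
    have hpc := Layer.isPComponent_component (p := 2) hL
      (not_le_oddCore_of_qs hFT hL.2)
    have := map_mono (f := C.subtype) (Layer.pComponent_le_pLayer hpc)
    rwa [map_subgroupOf_eq_of_le hLt] at this
  obtain ⟨D, hD, hLD⟩ := le_pair_of_le_sSup htt hLt hL _ {K : Subgroup G | IsComponent K} le_rfl
    (fun M hM => hM) (fun M hM => Layer.isComponent_map_conj hM t) hLE
  replace hD : IsComponent D := hD
  refine ⟨D, hD, ?_⟩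
  set D' := D.map (MulAut.conj t).toMonoidHom with hD'
  have hD'c : IsComponent D' := Layer.isComponent_map_conj hD t
  have hDp : ⁅D, D⁆ = D := Layer.qs_subgroup_perfect hD.2
  by_cases hfix : D' = D
  · rw [hfix, sup_idem] at hLD
    by_cases hLeq : L = D
    · exact Or.inl hLeq
    refine Or.inr (Or.inl ⟨lt_of_le_of_ne hLD hLeq, ?_⟩)
    have hinv : ∀ d ∈ D, t * d * t⁻¹ ∈ D := fun d hd => hfix ▸ conj_mem_map t hd
    have htN : zpowers t ≤ normalizer (D : Set G) := by
      rw [zpowers_le]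
      exact Layer.mem_normalizer_of_conj_mem hinv
    have hle : ⁅D, zpowers t⁆ ≤ D := le_normalizer_iff_commutator_le_left.mp htN
    rcases Layer.qs_sub_normalized_cases hD.2 hle (normalizer_commutator_ge_left D (zpowers t))
      with h | h
    · exact h.symm
    exfalso
    rw [commutator_eq_bot_iff_le_centralizer] at h
    have hDC : D ≤ C := by
      refine hDp.symm.le.trans (commutator_fixed fun x hx => ?_)
      refine ⟨mul_mem (inv_mem hx) (hinv x hx), h ?_⟩
      have := commutator_mem_commutator (inv_mem hx) (mem_zpowers t) (H₁ := D) (H₂ := zpowers t)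
      rwa [commutatorElement_def, inv_inv, show x⁻¹ * t * x * t⁻¹ = x⁻¹ * (t * x * t⁻¹) by group]
        at this
    have hDcomp : IsComponent (D.subgroupOf C) := Layer.isComponent_subgroupOf hD hDC
    have := Layer.component_eq_of_le hL hDcomp (fun x hx => hLD hx)
    exact hLeq (by rw [← map_subgroupOf_eq_of_le hLt, this, map_subgroupOf_eq_of_le hDC])
  obtain ⟨ψ, -, -, hlayer⟩ := component_pair htt hLt hL hD hfix hLD
  exact Or.inr (Or.inr ⟨hfix, hlayer⟩)

/-- A standard subgroup of a group with trivial odd core. -/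
theorem standard_cases (hFT : OddSolvable.{u}) {A : Subgroup G} (hA : IsStandardSubgroup A)
    (hO : oddCore G = ⊥) {t : G} (ht : orderOf t = 2) (htA : t ∈ centralizer (A : Set G)) :
    A.Normal ∨ (∃ X : Subgroup G, IsSimpleGroup ↥X ∧ ¬ IsMulCommutative ↥X ∧
        Nonempty (↥X ≃* ↥A) ∧
        (∀ a ∈ X, ∀ b ∈ X.map (MulAut.conj t).toMonoidHom, a * b = b * a) ∧
        X ⊓ X.map (MulAut.conj t).toMonoidHom = ⊥ ∧
        X ⊔ X.map (MulAut.conj t).toMonoidHom = layer G ∧
        centralizer (A : Set G) = zpowers t) ∨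
      (A ≤ layer G ∧ IsSimpleGroup ↥(layer G) ∧ ¬ IsMulCommutative ↥(layer G)) := by
  haveI : Fact (Nat.Prime 2) := ⟨Nat.prime_two⟩
  by_cases hAn : A.Normal
  · exact Or.inl hAn
  refine Or.inr ?_
  obtain ⟨-, hcomp⟩ := S1754.result A hA t ht htA
  obtain ⟨hq, ⟨-, hte⟩, hnc, hnorm⟩ := hA
  have hAt : A ≤ centralizer ({t} : Set G) := fun a ha =>
    mem_centralizer_singleton_iff.2 (mem_centralizer_iff.1 htA a ha)
  have htt : t * t = 1 := by rw [← pow_two, ← ht, pow_orderOf_eq_one]
  have hO' : pPrimeCore 2 G = ⊥ := hO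
  have hinj : Function.Injective (QuotientGroup.mk' (pPrimeCore 2 G)) := by
    rw [← MonoidHom.ker_eq_bot_iff, QuotientGroup.ker_mk', hO']
  have hL2 : pLayer 2 G ≤ layer G := sSup_le fun K hK =>
    Layer.component_le_layer ⟨hK.1,
      Layer.isQuasisimple_congr (Subgroup.equivMapOfInjective K _ hinj).symm hK.2.1.2⟩
  have hodd : ∀ g : G, g ∉ normalizer (A : Set G) → ∀ U : Subgroup G,
      U ≤ centralizer (A : Set G) → (∀ u ∈ U, Commute g u) → Odd (Nat.card ↥U) := by
    intro g hg U hU hgu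
    rw [hnorm] at hg
    refine (hte g hg).of_dvd_nat (card_dvd_of_le (le_inf hU fun u hu => ⟨u, hU hu, ?_⟩))
    change g * u * g⁻¹ = u
    rw [(hgu u hu).eq, mul_inv_cancel_right]
  obtain ⟨D, hD, hcases⟩ := component_cases hFT hL2 ht hAt hcomp
  set D' := D.map (MulAut.conj t).toMonoidHom with hD'
  have hD'c : IsComponent D' := Layer.isComponent_map_conj hD t
  have hneD : A ≠ D := by
    rintro rfl
    refine hAn (normalizer_eq_top_iff.1 (eq_top_iff.2 fun g _ => ?_))
    rw [mem_normalizer_iff_map_conj_eq]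
    by_contra hne
    exact hnc g hne (Layer.components_commute hD (Layer.isComponent_map_conj hD g) (Ne.symm hne))
  have hAX : A ≤ D ⊔ D' := by
    rcases hcases with h | ⟨h, -⟩ | ⟨-, h⟩
    · exact absurd h hneD
    · exact h.le.trans le_sup_left
    · exact h.le.trans ((map_subtype_le _).trans inf_le_left)
  have hDD' : D' ≠ D → D ≤ centralizer (D' : Set G) := fun h =>
    commutator_eq_bot_iff_le_centralizer.1 (Layer.components_commute hD hD'c (Ne.symm h))
  obtain ⟨g, hgD, hgN⟩ : ∃ g ∈ D, g ∉ normalizer (A : Set G) := by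
    refine Set.not_subset.1 fun hle => ?_
    replace hle : D ≤ normalizer (A : Set G) := hle
    rcases hcases with h | ⟨h, -⟩ | ⟨hne, -⟩
    · exact hneD h
    · rcases Layer.qs_sub_normalized_cases hD.2 h.le hle with e | e
      · exact hneD e
      · exact Layer.qs_subgroup_not_abelian hq (le_bot_iff.1 ((commutator_mono le_rfl h.le).trans e.le))
    · rcases Layer.qs_sub_normalized_cases hD.2 (inf_le_right : A ⊓ D ≤ D)
        (Layer.le_normalizer_inf hle le_normalizer) with e | e
      · refine hne ?_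
        have hDt : D ≤ centralizer ({t} : Set G) := e.symm.le.trans (inf_le_left.trans hAt)
        exact mem_normalizer_iff_map_conj_eq.1 (centralizer_le_normalizer _
          (mem_centralizer_iff.2 fun d hd => mem_centralizer_singleton_iff.1 (hDt hd)))
      · have hAN : A ≤ normalizer (D : Set G) := hAX.trans (sup_le le_normalizer
          (Layer.component_le_normalizer_component hD'c hD))
        have h1 : ⁅A, D⁆ ≤ A ⊓ D := le_inf (le_normalizer_iff_commutator_le_left.mp hle)
          (le_normalizer_iff_commutator_le_right.mp hAN)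
        have h2 : ⁅⁅A, D⁆, D⁆ = ⊥ := le_bot_iff.1 ((commutator_mono h1 le_rfl).trans e.le)
        have h3 : ⁅⁅D, D⁆, A⁆ = ⊥ :=
          commutator_commutator_eq_bot_of_rotate (by rwa [Subgroup.commutator_comm D A]) h2
        rw [Layer.qs_subgroup_perfect hD.2, commutator_eq_bot_iff_le_centralizer] at h3
        refine Layer.qs_subgroup_not_abelian hq (commutator_eq_bot_iff_le_centralizer.2 ?_)
        refine hAX.trans (sup_le h3 ?_)
        rintro _ ⟨d, hd, rfl⟩
        refine mem_centralizer_iff.2 fun a ha => ?_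
        have hat : Commute a t := mem_centralizer_singleton_iff.1 (hAt ha)
        exact ((hat.mul_right (mem_centralizer_iff.1 (h3 hd) a ha)).mul_right hat.inv_right).eq
  have hXc : ∀ M : Subgroup G, M ≤ centralizer ((D ⊔ D' : Subgroup G) : Set G) →
      Odd (Nat.card ↥M) := fun M hM => hodd g hgN M (hM.trans (centralizer_le hAX))
        fun u hu => mem_centralizer_iff.1 (hM hu) g (mem_sup_left hgD)
  have hZ : center ↥D = ⊥ := by
    rw [← Subgroup.map_eq_bot_iff_of_injective _ D.subtype_injective]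
    have hZd : (center ↥D).map D.subtype ≤ centralizer (D : Set G) := fun x hx =>
      ((Layer.mem_map_center_iff D).1 hx).2
    have hZd' : (center ↥D).map D.subtype ≤ centralizer (D' : Set G) := by
      by_cases h : D' = D
      · rw [h]; exact hZd
      · exact (map_subtype_le _).trans (hDD' h)
    have hcen : (center ↥D).map D.subtype ≤ centralizer ((D ⊔ D' : Subgroup G) : Set G) :=
      le_centralizer_iff.1 (sup_le (le_centralizer_iff.1 hZd) (le_centralizer_iff.1 hZd'))
    rw [← le_bot_iff, ← hO']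
    exact Layer.subnormal_le_pPrimeCore ((Subgroup.Normal.isSubnormal inferInstance).trans' hD.1)
      (Nat.coprime_two_right.mpr (hXc _ hcen))
  have hDs : IsSimpleGroup ↥D := by
    haveI := hD.2.2
    exact (((QuotientGroup.quotientMulEquivOfEq hZ).trans
      (QuotientGroup.quotientBot (G := ↥D))).isSimpleGroup_congr).1 inferInstance
  have hDnc : ¬ IsMulCommutative ↥D := fun h =>
    Layer.qs_subgroup_not_abelian hD.2 (commutator_eq_bot_iff_le_centralizer.2 fun x hx =>
      mem_centralizer_iff.2 fun y hy =>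
        congrArg Subtype.val (h.is_comm.comm (⟨y, hy⟩ : ↥D) ⟨x, hx⟩))
  have honly : ∀ M : Subgroup G, IsComponent M → M = D ∨ M = D' := by
    intro M hM
    by_contra h
    push Not at h
    refine Nat.not_odd_iff_even.2 (even_card_of_qs hFT hM.2) (hXc M (le_centralizer_iff.1 (sup_le
      (commutator_eq_bot_iff_le_centralizer.1 (Layer.components_commute hD hM h.1.symm))
      (commutator_eq_bot_iff_le_centralizer.1 (Layer.components_commute hD'c hM h.2.symm)))))
  have hE : D ⊔ D' = layer G :=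
    le_antisymm (sup_le (Layer.component_le_layer hD) (Layer.component_le_layer hD'c))
      (sSup_le fun M hM => (honly M hM).elim (fun h => h.le.trans le_sup_left)
        fun h => h.le.trans le_sup_right)
  by_cases hfix : D' = D
  · rw [hfix, sup_idem] at hE
    rw [← hE]
    exact Or.inr ⟨(by rwa [hfix, sup_idem] at hAX), hDs, hDnc⟩
  refine Or.inl ⟨D, hDs, hDnc, ?_⟩
  obtain ⟨ψ, hψ, hAψ, -⟩ := component_pair htt hAt hcomp hD hfix hAX
  have hcomm : ∀ d ∈ D, ∀ e ∈ D', Commute d e := fun d hd e he =>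
    (mem_centralizer_iff.1 (hDD' hfix hd) e he).symm
  have hinf : D ⊓ D' = ⊥ := by
    refine (eq_bot_iff_forall _).2 fun x hx => ?_
    have hc : (⟨x, (mem_inf.1 hx).1⟩ : ↥D) ∈ center ↥D := mem_center_iff.2 fun y =>
      Subtype.ext (hcomm y y.2 x (mem_inf.1 hx).2).eq
    rw [hZ, mem_bot] at hc
    exact congrArg Subtype.val hc
  have hψinj : Function.Injective ψ := by
    refine (injective_iff_map_eq_one ψ).2 fun d hd => Subtype.ext ?_
    rw [hψ] at hd
    have : (d : G) ∈ D ⊓ D' := mem_inf.2 ⟨d.2, by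
      rw [eq_inv_of_mul_eq_one_left hd]
      exact inv_mem (conj_mem_map t d.2)⟩
    rwa [hinf, mem_bot] at this
  refine ⟨⟨(MonoidHom.ofInjective hψinj).trans (MulEquiv.subgroupCongr hAψ.symm)⟩,
    fun a ha b hb => (hcomm a ha b hb).eq, hinf, hE, le_antisymm ?_ (zpowers_le.2 htA)⟩
  have hCE : centralizer (layer G : Set G) = ⊥ := by
    haveI : (layer G).Normal := Layer.normal_sSup_of_conj fun L hL g => Layer.isComponent_map_conj hL g
    rw [← le_bot_iff, ← hO']
    exact Core.le_pPrimeCore (Nat.coprime_two_right.mpr (hXc _ (by rw [hE])))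
  have key : ∀ c ∈ centralizer (A : Set G), D.map (MulAut.conj c).toMonoidHom = D → c = 1 := by
    intro c hc hcD
    have hcD' : D'.map (MulAut.conj c).toMonoidHom = D' :=
      (honly _ (Layer.isComponent_map_conj hD'c c)).resolve_left fun h =>
        hfix (map_injective (MulAut.conj c).injective (h.trans hcD.symm))
    have hd : ∀ d ∈ D, Commute c d ∧ Commute c (t * d * t⁻¹) := by
      intro d hd
      have h1 : Commute c (d * (t * d * t⁻¹)) :=
        (mem_centralizer_iff.1 hc _ (hAψ ▸ ⟨⟨d, hd⟩, hψ _⟩)).symm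
      have he1 : c * d * c⁻¹ ∈ D := hcD ▸ conj_mem_map c hd
      have he2 : c * (t * d * t⁻¹) * c⁻¹ ∈ D' := hcD' ▸ conj_mem_map c (conj_mem_map t hd)
      have h2 : d⁻¹ * (c * d * c⁻¹) = t * d * t⁻¹ * (c * (t * d * t⁻¹) * c⁻¹)⁻¹ := by
        rw [inv_mul_eq_iff_eq_mul, ← mul_assoc, eq_mul_inv_iff_mul_eq,
          show c * d * c⁻¹ * (c * (t * d * t⁻¹) * c⁻¹) = c * (d * (t * d * t⁻¹)) * c⁻¹ by group,
          h1.eq, mul_inv_cancel_right]
      have h3 : d⁻¹ * (c * d * c⁻¹) ∈ D ⊓ D' := mem_inf.2 ⟨mul_mem (inv_mem hd) he1,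
        h2.symm ▸ mul_mem (conj_mem_map t hd) (inv_mem he2)⟩
      rw [hinf, mem_bot] at h3
      have h4 : Commute c d := by
        rw [inv_mul_eq_one] at h3
        exact mul_inv_eq_iff_eq_mul.1 h3.symm
      exact ⟨h4, by simpa using h4.inv_right.mul_right h1⟩
    rw [← mem_bot, ← hCE, ← hE]
    refine mem_centralizer_iff.2 fun x hx => ?_
    have hle : D ⊔ D' ≤ centralizer ({c} : Set G) := sup_le
      (fun d hd' => mem_centralizer_singleton_iff.2 (hd d hd').1.eq.symm) (by
        rintro _ ⟨d, hd', rfl⟩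
        exact mem_centralizer_singleton_iff.2 (hd d hd').2.eq.symm)
    exact mem_centralizer_singleton_iff.1 (hle hx)
  intro c hc
  rcases honly _ (Layer.isComponent_map_conj hD c) with h | h
  · rw [key c hc h]
    exact one_mem _
  · have h1 := key (t * c) (mul_mem htA hc) (by
      rw [← Layer.map_conj_map_conj, h, hD', Layer.map_conj_map_conj, htt, Layer.map_conj_one])
    rw [eq_inv_of_mul_eq_one_right h1]
    exact inv_mem (mem_zpowers t)

end Cfsg.Agent.FTCons
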