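import Cfsg.Agent.FTCons.Hall

/-!
Existence of Hall subgroups in extensions and the theorem of Hall and Chunikhin for `π`-separable
groups, given that groups of odd order are solvable.
-/

set_option autoImplicit false

open Subgroup
open scoped Pointwise

namespace Cfsg.Agent.FTCons

universe u

variable {G : Type u} [Group G] [Finite G] {π : Set ℕ}

/-- A complement above `X` inside `M` of a normal section `B / X` of coprime index. -/
theorem exists_over {X B : Subgroup G} [X.Normal] [B.Normal] (hXB : X ≤ B)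
    (hcop : (X.relIndex B).Coprime B.index) :
    ∃ H : Subgroup G, X ≤ H ∧ B ⊓ H ≤ X ∧ B ⊔ H = ⊤ ∧
      Nat.card H = Nat.card X * B.index ∧ H.index = X.relIndex B := by
  set f := QuotientGroup.mk' X
  have hsurj : Function.Surjective f := QuotientGroup.mk'_surjective X
  have : (B.map f).Normal := Normal.map inferInstance _ hsurj
  have hker : f.ker = X := QuotientGroup.ker_mk' X
  have hidx : (B.map f).index = B.index := B.index_map_eq hsurj (hker.le.trans hXB)
  have hcard : Nat.card (B.map f) = X.relIndex B := by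
    rw [← relIndex_bot_left, ← Subgroup.map_bot f, relIndex_map_map, hker, bot_sup_eq,
      sup_eq_left.2 hXB]
  obtain ⟨C, hC⟩ := exists_right_complement'_of_coprime (N := B.map f) (by rwa [hcard, hidx])
  refine ⟨C.comap f, hker.ge.trans (f.ker_le_comap C), fun x hx => ?_, ?_, ?_, ?_⟩
  · have : f x ∈ B.map f ⊓ C := ⟨mem_map_of_mem f hx.1, hx.2⟩
    rw [disjoint_iff.1 hC.disjoint, mem_bot] at this
    rwa [← hker]
  · refine eq_top_iff.2 fun x _ => ?_
    have hx : f x ∈ B.map f ⊔ C := by rw [hC.sup_eq_top]; exact mem_top _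
    rw [← SetLike.mem_coe, normal_mul] at hx
    obtain ⟨_, ⟨b, hb, rfl⟩, c, hc, hbc⟩ := hx
    have : b⁻¹ * x ∈ C.comap f := by
      rw [mem_comap, map_mul, map_inv, ← hbc, inv_mul_cancel_left]
      exact hc
    rw [show x = b * (b⁻¹ * x) by group]
    exact mul_mem (mem_sup_left hb) (mem_sup_right this)
  · have h1 : Nat.card (C.comap f) = Nat.card X * Nat.card C := by
      have hXC : X ≤ C.comap f := hker.ge.trans (f.ker_le_comap C)
      rw [← relIndex_bot_left, ← relIndex_mul_relIndex ⊥ X _ bot_le hXC, relIndex_bot_left]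
      congr 1
      conv_rhs => rw [← relIndex_bot_left, ← Subgroup.map_comap_eq_self_of_surjective hsurj C,
        ← Subgroup.map_bot f, relIndex_map_map, hker, bot_sup_eq, sup_eq_left.2 hXC]
    rw [h1, Coprime.card_eq_index_of_isComplement' hC, hidx, mul_comm]
  · rw [index_comap_of_surjective _ hsurj, hC.index_eq_card, hcard]

/-- Existence of Hall subgroups in an extension. -/
theorem exists_hall (A : Subgroup G) [A.Normal] (hA : Cfsg.IsCPiGroup π A)
    (hQ : Cfsg.IsEPiGroup π (G ⧸ A)) : Cfsg.IsEPiGroup π G := by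
  obtain ⟨⟨X₀, hX₀⟩, hconj⟩ := hA
  obtain ⟨Kb, hKb⟩ := hQ
  set X := X₀.map A.subtype with hX
  have hXA : X ≤ A := map_subtype_le X₀
  set N := normalizer (X : Set G) with hN
  have hAN : A ⊔ N = ⊤ := by
    refine eq_top_iff.2 fun g _ => ?_
    let c : MulAut A := MulAut.conjNormal g
    have hc : Cfsg.IsPiHall π (X₀.map c.toMonoidHom) :=
      ⟨fun p hp hd => hX₀.1 p hp (hd.trans (card_map_dvd _ _)),
        fun p hp hpi hd => hX₀.2 p hp hpi (hd.trans (index_map_dvd _ c.surjective))⟩
    obtain ⟨a, ha⟩ := hconj _ _ hX₀ hc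
    have hn : (a : G)⁻¹ * g ∈ N := by
      rw [hN]
      refine Coprime.mem_normalizer_of_conj_smul_eq ?_
      rw [Coprime.conj_smul_eq_map]
      have h1 : X.map (MulAut.conj g).toMonoidHom = X.map (MulAut.conj (a : G)).toMonoidHom := by
        have := congrArg (Subgroup.map A.subtype) ha
        rw [Subgroup.map_map, Subgroup.map_map] at this
        rw [hX, Subgroup.map_map, Subgroup.map_map]
        refine Eq.trans ?_ (this.trans ?_)
        · congr 1
        · congr 1
      rw [← map_conj_conj, h1, map_conj_conj, inv_mul_cancel, map_one]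
      ext x
      simp
    rw [show g = (a : G) * ((a : G)⁻¹ * g) by group]
    exact mul_mem (mem_sup_left a.2) (mem_sup_right hn)
  set M := N ⊓ Kb.comap (QuotientGroup.mk' A) with hM
  have hXN : X ≤ N := le_normalizer
  have hXM : X ≤ M := le_inf hXN fun x hx => by
    rw [mem_comap, QuotientGroup.mk'_apply, (QuotientGroup.eq_one_iff x).2 (hXA hx)]
    exact one_mem _
  have : (X.subgroupOf M).Normal := normal_subgroupOf_of_le_normalizer (inf_le_left (a := N))
  have hindexX : X₀.index = X.relIndex A := by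
    rw [hX, ← relIndex_top_right, ← relIndex_map_map_of_injective _ _ A.subtype_injective,
      ← MonoidHom.range_eq_map, range_subtype]
  have hcardX : Nat.card X = Nat.card X₀ := by
    rw [hX, card_map_of_injective A.subtype_injective]
  have hrel : (X.subgroupOf M).relIndex (A.subgroupOf M) ∣ X₀.index := by
    rw [show (X.subgroupOf M).relIndex (A.subgroupOf M)
        = X.relIndex ((A.subgroupOf M).map M.subtype) from relIndex_comap _ _ _,
      subgroupOf_map_subtype, hindexX]
    exact ⟨_, (relIndex_mul_relIndex X (A ⊓ M) A (le_inf hXA hXM) inf_le_left).symm⟩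
  have hidx : (A.subgroupOf M).index = Nat.card Kb := by
    have hmap : M.map (QuotientGroup.mk' A) = Kb := by
      refine le_antisymm (map_le_iff_le_comap.2 inf_le_right) fun q hq => ?_
      obtain ⟨g, rfl⟩ := QuotientGroup.mk'_surjective A q
      have hg : g ∈ A ⊔ N := by rw [hAN]; exact mem_top g
      rw [← SetLike.mem_coe, normal_mul] at hg
      obtain ⟨b, hb, n, hn, rfl⟩ := hg
      have he : QuotientGroup.mk' A n = QuotientGroup.mk' A (b * n) := by
        rw [map_mul, QuotientGroup.mk'_apply A b, (QuotientGroup.eq_one_iff b).2 hb, one_mul]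
      exact ⟨n, ⟨hn, show QuotientGroup.mk' A n ∈ Kb by rw [he]; exact hq⟩, he⟩
    rw [← hmap, ← relIndex_bot_left (M.map _), ← Subgroup.map_bot (QuotientGroup.mk' A),
      relIndex_map_map, QuotientGroup.ker_mk', bot_sup_eq, relIndex_sup_right]
    rfl
  have hcop : ((X.subgroupOf M).relIndex (A.subgroupOf M)).Coprime (A.subgroupOf M).index := by
    refine (coprime_pi (π := π) ?_ ?_).symm
    · rw [hidx]; exact hKb.1
    · exact fun p hp hpi hd => hX₀.2 p hp hpi (hd.trans hrel)
  obtain ⟨H, hXH, -, -, hcard, -⟩ := exists_over (fun y hy => hXA (mem_subgroupOf.1 hy) :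
    X.subgroupOf M ≤ A.subgroupOf M) hcop
  have hc : Nat.card (H.map M.subtype) = Nat.card X₀ * Nat.card Kb := by
    rw [card_map_of_injective M.subtype_injective, hcard, hidx, ← hcardX,
      Nat.card_congr (subgroupOfEquivOfLe hXM).toEquiv]
  have hi : (H.map M.subtype).index = X₀.index * Kb.index := by
    have h1 := card_mul_index (H.map M.subtype)
    have h2 := card_mul_index X₀
    have h3 := card_mul_index Kb
    have h4 := card_mul_index A
    rw [hc, ← h4, ← h2, index_eq_card A, ← h3] at h1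
    exact Nat.eq_of_mul_eq_mul_left (Nat.mul_pos Nat.card_pos Nat.card_pos)
      (h1.trans (by ring))
  refine ⟨H.map M.subtype, fun p hp hd => ?_, fun p hp hpi hd => ?_⟩
  · rw [hc] at hd
    exact (hp.dvd_mul.1 hd).elim (hX₀.1 p hp) (hKb.1 p hp)
  · rw [hi] at hd
    exact (hp.dvd_mul.1 hd).elim (hX₀.2 p hp hpi) (hKb.2 p hp hpi)

/-- Groups with one class of Hall subgroups are closed under extensions. -/
theorem isCPiGroup_ext (hFT : OddSolvable.{u}) (A : Subgroup G) [A.Normal]
    (hA : Cfsg.IsCPiGroup π A) (hQ : Cfsg.IsCPiGroup π (G ⧸ A)) : Cfsg.IsCPiGroup π G :=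
  ⟨exists_hall A hA hQ.1, fun _ _ hH hK => conj_hall hFT A hA.2 hQ.2 hH hK⟩

/-- The conclusion of the theorem of Hall and Chunikhin. -/
def HallProps (π : Set ℕ) (G : Type u) [Group G] : Prop :=
  Cfsg.IsCPiGroup π G ∧
    ∀ U : Subgroup G, (∀ q : ℕ, q.Prime → q ∣ Nat.card U → q ∈ π) →
      ∃ K : Subgroup G, Cfsg.IsPiHall π K ∧ U ≤ K

theorem isCPiGroup_of_pi (h : ∀ q : ℕ, q.Prime → q ∣ Nat.card G → q ∈ π) :
    Cfsg.IsCPiGroup π G := by
  have hall : ∀ H : Subgroup G, Cfsg.IsPiHall π H → H = ⊤ := fun H hH => by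
    rw [← index_eq_one]
    by_contra hne
    obtain ⟨p, hp, hpd⟩ := Nat.exists_prime_and_dvd hne
    exact hH.2 p hp (h p hp (hpd.trans (index_dvd_card H))) hpd
  refine ⟨⟨⊤, fun p hp hd => h p hp (by rwa [card_top] at hd), fun p hp _ hd => ?_⟩,
    fun H K hH hK => ⟨1, ?_⟩⟩
  · rw [index_top] at hd
    exact hp.ne_one (Nat.dvd_one.1 hd)
  · rw [hall H hH, hall K hK, map_top_of_surjective _ (MulAut.conj (1 : G)).surjective]

theorem isCPiGroup_of_pi' (h : ∀ q : ℕ, q.Prime → q ∣ Nat.card G → q ∉ π) :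
    Cfsg.IsCPiGroup π G := by
  have hall : ∀ H : Subgroup G, Cfsg.IsPiHall π H → H = ⊥ := fun H hH => by
    rw [← card_eq_one]
    by_contra hne
    obtain ⟨p, hp, hpd⟩ := Nat.exists_prime_and_dvd hne
    exact h p hp (hpd.trans (card_subgroup_dvd_card H)) (hH.1 p hp hpd)
  refine ⟨⟨⊥, fun p hp hd => ?_, fun p hp hpi hd => h p hp (hd.trans (index_dvd_card _)) hpi⟩,
    fun H K hH hK => ⟨1, by rw [hall H hH, hall K hK, Subgroup.map_bot]⟩⟩
  rw [card_bot] at hd
  exact absurd (Nat.dvd_one.1 hd) hp.ne_one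

/-- The step of the induction along a `π`-series. -/
theorem hallProps_step (hFT : OddSolvable.{u}) (A : Subgroup G) [A.Normal]
    (hA : (∀ q : ℕ, q.Prime → q ∣ Nat.card A → q ∈ π) ∨ (∀ q : ℕ, q.Prime → q ∣ Nat.card A → q ∉ π))
    (hQ : HallProps π (G ⧸ A)) : HallProps π G := by
  have hC := isCPiGroup_ext hFT A (hA.elim isCPiGroup_of_pi isCPiGroup_of_pi') hQ.1
  refine ⟨hC, fun U hU => ?_⟩
  obtain ⟨Kb, hKb, hUKb⟩ := hQ.2 (U.map (QuotientGroup.mk' A)) fun q hq hd =>
    hU q hq (hd.trans (card_map_dvd _ _))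
  set M := Kb.comap (QuotientGroup.mk' A) with hM
  have hAM : A ≤ M := fun x hx => by
    rw [hM, mem_comap, QuotientGroup.mk'_apply, (QuotientGroup.eq_one_iff x).2 hx]
    exact one_mem _
  have hUM : U ≤ M := map_le_iff_le_comap.1 hUKb
  have hcM : Nat.card M = Nat.card A * Nat.card Kb := by
    rw [← relIndex_bot_left M, ← relIndex_mul_relIndex ⊥ A M bot_le hAM, relIndex_bot_left]
    congr 1
    conv_rhs => rw [← relIndex_bot_left,
      ← Subgroup.map_comap_eq_self_of_surjective (QuotientGroup.mk'_surjective A) Kb,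
      ← Subgroup.map_bot (QuotientGroup.mk' A), relIndex_map_map, QuotientGroup.ker_mk', bot_sup_eq,
      ← hM, sup_eq_left.2 hAM]
  have hiM : M.index = Kb.index := index_comap_of_surjective _ (QuotientGroup.mk'_surjective A)
  rcases hA with hA | hA
  · refine ⟨M, ⟨fun p hp hd => ?_, fun p hp hpi hd => hKb.2 p hp hpi (hiM ▸ hd)⟩, hUM⟩
    rw [hcM] at hd
    exact (hp.dvd_mul.1 hd).elim (hA p hp) (hKb.1 p hp)
  · -- a complement of `A` in `M`, and one of `A` in `A ⊔ U` inside it
    have hidx : (A.subgroupOf M).index = Nat.card Kb := by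
      have h1 := card_mul_index (A.subgroupOf M)
      rw [Nat.card_congr (subgroupOfEquivOfLe hAM).toEquiv, hcM] at h1
      exact Nat.eq_of_mul_eq_mul_left Nat.card_pos h1
    have hcop : (Nat.card (A.subgroupOf M)).Coprime (A.subgroupOf M).index := by
      rw [Nat.card_congr (subgroupOfEquivOfLe hAM).toEquiv, hidx]
      exact (coprime_pi (π := π) hKb.1 fun p hp hpi hd => hA p hp hd hpi).symm
    obtain ⟨C₀, hC₀⟩ := exists_right_complement'_of_coprime hcop
    set C := C₀.map M.subtype with hCdef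
    have hcC : Nat.card C = Nat.card Kb := by
      rw [hCdef, card_map_of_injective M.subtype_injective,
        Coprime.card_eq_index_of_isComplement' hC₀, hidx]
    have hCM : C ≤ M := map_subtype_le C₀
    have hdis : A ⊓ C = ⊥ := by
      rw [eq_bot_iff]
      rintro x ⟨hxA, c, hc, rfl⟩
      have : c ∈ A.subgroupOf M ⊓ C₀ := ⟨hxA, hc⟩
      rw [disjoint_iff.1 hC₀.disjoint, mem_bot] at this
      simp [this]
    have hMC : A ⊔ C = M := by
      refine le_antisymm (sup_le hAM hCM) fun x hx => ?_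
      have h : (⟨x, hx⟩ : M) ∈ A.subgroupOf M ⊔ C₀ := by rw [hC₀.sup_eq_top]; exact mem_top _
      rw [← SetLike.mem_coe, normal_mul] at h
      obtain ⟨b, hb, c, hc, hbc⟩ := h
      rw [show x = (b : G) * (c : G) from (congrArg Subtype.val hbc).symm]
      exact mul_mem (mem_sup_left hb) (mem_sup_right ⟨c, hc, rfl⟩)
    have hHall : Cfsg.IsPiHall π C := by
      refine ⟨fun p hp hd => hKb.1 p hp (hcC ▸ hd), fun p hp hpi hd => ?_⟩
      rw [← relIndex_mul_index hCM, hiM] at hd
      refine (hp.dvd_mul.1 hd).elim (fun h => hA p hp (h.trans (dvd_of_eq ?_)) hpi) (hKb.2 p hp hpi)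
      have h1 := relIndex_mul_relIndex ⊥ C M bot_le hCM
      rw [relIndex_bot_left, relIndex_bot_left, hcM, hcC, mul_comm (Nat.card A)] at h1
      exact Nat.eq_of_mul_eq_mul_left Nat.card_pos h1
    set D := C ⊓ (A ⊔ U) with hD
    have hAD : A ⊔ D = A ⊔ U := by
      refine le_antisymm (sup_le le_sup_left inf_le_right) fun x hx => ?_
      have hxM : x ∈ A ⊔ C := hMC.symm ▸ (sup_le hAM hUM hx)
      rw [← SetLike.mem_coe, normal_mul] at hxM
      obtain ⟨b, hb, c, hc, rfl⟩ := hxM
      have hcU : c ∈ A ⊔ U := by simpa using mul_mem (mem_sup_left (inv_mem hb) : b⁻¹ ∈ A ⊔ U) hx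
      exact mul_mem (mem_sup_left hb) (mem_sup_right ⟨hc, hcU⟩)
    have hco : (Nat.card A).Coprime (Nat.card D) :=
      (coprime_pi (π := π) (fun p hp hd => hHall.1 p hp (hd.trans (card_dvd_of_le inf_le_left)))
        fun p hp hpi hd => hA p hp hd hpi).symm
    have hAU : A ⊓ U = ⊥ := Coprime.inf_eq_bot_of_coprime
      (coprime_pi (π := π) hU fun p hp hpi hd => hA p hp hd hpi).symm
    obtain ⟨n, -, hn⟩ := Coprime.exists_conj_of_sup_eq (N := A) (H := D) (K := U)
      (by rw [normalizer_eq_top_iff.2 inferInstance]; exact le_top)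
      (eq_bot_iff.2 fun x hx => hdis ▸ ⟨hx.1, hx.2.1⟩) hAU hAD hco
      (solvable_or_of_coprime hFT hco)
    refine ⟨C.map (MulAut.conj n).toMonoidHom, isPiHall_conj hHall n, ?_⟩
    rw [← hn, Coprime.conj_smul_eq_map]
    exact Subgroup.map_mono inf_le_left

/-- The theorem of Hall and Chunikhin, by induction on the length of a series. -/
theorem hallProps_of_series (hFT : OddSolvable.{u}) :
    ∀ (n : ℕ) (G : Type u) [Group G] [Finite G] (H : Fin (n + 1) → Subgroup G),
      H 0 = ⊥ → H (Fin.last n) = ⊤ → Monotone H → (∀ i, (H i).Normal) →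
      (∀ i : Fin n, (∀ q : ℕ, q.Prime → q ∣ (H i.castSucc).relIndex (H i.succ) → q ∈ π) ∨
        (∀ q : ℕ, q.Prime → q ∣ (H i.castSucc).relIndex (H i.succ) → q ∉ π)) →
      HallProps π G := by
  intro n
  induction n with
  | zero =>
    intro G _ _ H h0 hl _ _ _
    have hbt : (⊥ : Subgroup G) = ⊤ := by rw [← h0, ← hl]; rfl
    have hc : Nat.card G = 1 := by rw [← card_top (G := G), ← hbt, card_bot]
    refine ⟨isCPiGroup_of_pi fun q hq hd => absurd (Nat.dvd_one.1 (hc ▸ hd)) hq.ne_one,
      fun U _ => ⟨⊤, ⟨fun q hq hd => ?_, fun q hq _ hd => ?_⟩, le_top⟩⟩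
    · rw [card_top, hc] at hd
      exact absurd (Nat.dvd_one.1 hd) hq.ne_one
    · rw [index_top] at hd
      exact hq.ne_one (Nat.dvd_one.1 hd)
  | succ n ih =>
    intro G _ _ H h0 hl hm hn hf
    have := hn 1
    refine hallProps_step hFT (H 1) ?_ ?_
    · have h := hf 0
      have e : (H (Fin.castSucc (0 : Fin (n + 1)))).relIndex (H (Fin.succ 0)) = Nat.card (H 1) := by
        rw [Fin.castSucc_zero, h0, relIndex_bot_left, Fin.succ_zero_eq_one]
      rwa [e] at h
    · set f := QuotientGroup.mk' (H 1)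
      have hsurj : Function.Surjective f := QuotientGroup.mk'_surjective _
      have h1 : ∀ i : Fin (n + 1), H 1 ≤ H i.succ := fun i => hm (by
        rw [← Fin.succ_zero_eq_one]; exact Fin.succ_le_succ_iff.2 (Fin.zero_le i))
      refine ih (G ⧸ H 1) (fun i => (H i.succ).map f) ?_ ?_ ?_ ?_ ?_
      · rw [Subgroup.map_eq_bot_iff, QuotientGroup.ker_mk', Fin.succ_zero_eq_one]
      · rw [Fin.succ_last, hl, map_top_of_surjective f hsurj]
      · exact fun i j hij => map_mono (hm (Fin.succ_le_succ_iff.2 hij))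
      · exact fun i => (hn i.succ).map f hsurj
      · intro i
        have h := hf i.succ
        rw [relIndex_map_map, QuotientGroup.ker_mk', sup_eq_left.2 (h1 _), sup_eq_left.2 (h1 _),
          Fin.succ_castSucc]
        exact h

end Cfsg.Agent.FTCons
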