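import Cfsg.Agent.FTCons.MetaSol
import Cfsg.Agent.Layer.Components

/-!
A group with conjugate cyclic `p`-subgroups of each order has at most one component.
-/

set_option autoImplicit false

open Subgroup

namespace Cfsg.Agent.FTCons

universe u

variable {G : Type u} [Group G] [Finite G]

/-- A quasisimple group has a noncentral `2`-element with central square. -/
theorem exists_two_elt (hFT : OddSolvable.{u}) {K : Type u} [Group K] [Finite K]
    (h : Cfsg.IsQuasisimple K) :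
    ∃ (x : K) (a : ℕ), orderOf x = 2 ^ a ∧ x ∉ center K ∧ x ^ 2 ∈ center K := by
  have hne : ¬ Group.IsSolvable (K ⧸ center K) := fun hs =>
    Layer.qs_not_isSolvable h (isSolvable_ext (center K)
      (Group.isSolvable_of_comm fun p q => Subtype.ext (mem_center_iff.1 q.2 p)) hs)
  have heven : Even (Nat.card (K ⧸ center K)) := by
    by_contra ho
    exact hne (hFT _ (Nat.not_even_iff_odd.1 ho))
  obtain ⟨t, ht⟩ := exists_prime_orderOf_dvd_card' (G := K ⧸ center K) 2 heven.two_dvd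
  obtain ⟨y, rfl⟩ := QuotientGroup.mk_surjective t
  obtain ⟨c, m, hm, hy⟩ := Nat.exists_eq_pow_mul_and_not_dvd (orderOf_pos y).ne' 2 (by decide)
  have hmk : ((y ^ m : K) : K ⧸ center K) = (y : K ⧸ center K) := by
    rw [QuotientGroup.mk_pow, ← pow_mod_orderOf, ht, show m % 2 = 1 by omega, pow_one]
  refine ⟨y ^ m, c, ?_, fun hc => ?_, ?_⟩
  · rw [orderOf_pow_of_dvd (by omega) ⟨2 ^ c, by rw [hy]; ring⟩, hy,
      Nat.mul_div_cancel _ (by omega)]
  · rw [← QuotientGroup.eq_one_iff, hmk] at hc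
    rw [hc, orderOf_one] at ht
    omega
  · rw [← QuotientGroup.eq_one_iff, QuotientGroup.mk_pow, hmk, ← ht, pow_orderOf_eq_one]

/-- Two components cannot occur. -/
theorem component_unique (hFT : OddSolvable.{u})
    (hP : ∀ (p : ℕ), p.Prime → ∀ A B : Subgroup G, IsCyclic ↥A → IsCyclic ↥B → IsPGroup p ↥A →
      Nat.card ↥A = Nat.card ↥B → ∃ g : G, B = A.map (MulAut.conj g).toMonoidHom)
    {L₁ L₂ : Subgroup G} (h₁ : Cfsg.IsComponent L₁) (h₂ : Cfsg.IsComponent L₂) : L₁ = L₂ := by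
  by_contra hne
  obtain ⟨x₁, a₁, ha₁, hc₁, hs₁⟩ := exists_two_elt hFT h₁.2
  obtain ⟨x₂, a₂, ha₂, hc₂, hs₂⟩ := exists_two_elt hFT h₂.2
  wlog hle : a₁ ≤ a₂ generalizing L₁ L₂ a₁ a₂
  · exact this h₂ h₁ (Ne.symm hne) x₂ a₂ ha₂ hc₂ hs₂ x₁ a₁ ha₁ hc₁ hs₁ (le_of_not_ge hle)
  have cc : ∀ {L M : Subgroup G}, Cfsg.IsComponent L → Cfsg.IsComponent M → L ≠ M →
      ∀ {u v : G}, u ∈ L → v ∈ M → u * v = v * u := fun hL hM hn u v hu hv =>
    Layer.commute_of_commutator_eq_bot (Layer.components_commute hL hM hn) hu hv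
  have hcomm : Commute (x₁ : G) x₂ := cc h₁ h₂ hne x₁.2 x₂.2
  set y := (x₁ : G) * x₂ with hy
  -- an element conjugate into a component centralises one of the two components
  have hnot : ∀ (g v : G), v ∈ L₂ → g * v * g⁻¹ ≠ y := by
    intro g v hv he
    set L₃ := L₂.map (MulAut.conj g).toMonoidHom with hL₃
    have h₃ : Cfsg.IsComponent L₃ := Layer.isComponent_map_conj h₂ g
    have hy₃ : y ∈ L₃ := ⟨v, hv, by rw [← he]; rfl⟩
    by_cases h31 : L₃ = L₁
    · refine hc₂ (mem_center_iff.2 fun w => Subtype.ext ?_)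
      have hx : (x₂ : G) = (x₁ : G)⁻¹ * y := by rw [hy]; group
      have h1 : (x₂ : G) ∈ L₁ := by rw [hx]; exact mul_mem (inv_mem x₁.2) (h31 ▸ hy₃)
      exact (cc h₁ h₂ hne h1 w.2).symm
    · refine hc₁ (mem_center_iff.2 fun w => Subtype.ext ?_)
      have hw1 : Commute y (w : G) := cc h₃ h₁ h31 hy₃ w.2
      have hw2 : Commute (x₂ : G) (w : G) := cc h₂ h₁ (Ne.symm hne) x₂.2 w.2
      have hx : (x₁ : G) = y * (x₂ : G)⁻¹ := by rw [hy]; group
      rw [coe_mul, coe_mul, hx]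
      exact (hw1.mul_left hw2.inv_left).eq.symm
  have hpow : y ^ (2 ^ a₂) = 1 := by
    rw [hcomm.mul_pow, ← Subgroup.coe_pow, ← Subgroup.coe_pow]
    have e1 : x₁ ^ (2 ^ a₂) = 1 := orderOf_dvd_iff_pow_eq_one.1 (ha₁ ▸ pow_dvd_pow 2 hle)
    have e2 : x₂ ^ (2 ^ a₂) = 1 := orderOf_dvd_iff_pow_eq_one.1 (dvd_of_eq ha₂)
    rw [e1, e2, OneMemClass.coe_one, OneMemClass.coe_one, one_mul]
  obtain ⟨c, hcle, hoy⟩ := (Nat.dvd_prime_pow Nat.prime_two).1 (orderOf_dvd_of_pow_eq_one hpow)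
  -- a power of `x₂` of the same order
  set v := (x₂ : G) ^ (2 ^ (a₂ - c)) with hv
  have hov : orderOf v = 2 ^ c := by
    rw [hv, orderOf_pow_of_dvd (by positivity) (by
      rw [Subgroup.orderOf_coe, ha₂]; exact pow_dvd_pow 2 (Nat.sub_le _ _)),
      Subgroup.orderOf_coe, ha₂, Nat.pow_div (Nat.sub_le _ _) (by norm_num), Nat.sub_sub_self hcle]
  have hcyc : ∀ (w : G), IsPGroup 2 (zpowers w) ↔ ∃ k, orderOf w = 2 ^ k := fun w => by
    rw [IsPGroup.iff_card, Nat.card_zpowers]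
  obtain ⟨g, hg⟩ := hP 2 Nat.prime_two (zpowers v) (zpowers y) inferInstance inferInstance
    ((hcyc v).2 ⟨c, hov⟩) (by rw [Nat.card_zpowers, Nat.card_zpowers, hov, hoy])
  have hym : y ∈ (zpowers v).map (MulAut.conj g).toMonoidHom := hg ▸ mem_zpowers y
  obtain ⟨w, hw, hwy⟩ := hym
  obtain ⟨i, rfl⟩ := mem_zpowers_iff.1 hw
  exact hnot g (v ^ i) (zpow_mem (pow_mem x₂.2 _) i) hwy

/-- The layer modulo its centre is nonabelian simple. -/
theorem layer_simple (hFT : OddSolvable.{u})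
    (hP : ∀ (p : ℕ), p.Prime → ∀ A B : Subgroup G, IsCyclic ↥A → IsCyclic ↥B → IsPGroup p ↥A →
      Nat.card ↥A = Nat.card ↥B → ∃ g : G, B = A.map (MulAut.conj g).toMonoidHom)
    (hE : Cfsg.layer G ≠ ⊥) :
    IsSimpleGroup (↥(Cfsg.layer G) ⧸ center ↥(Cfsg.layer G)) ∧
      ¬ IsMulCommutative (↥(Cfsg.layer G) ⧸ center ↥(Cfsg.layer G)) := by
  rw [Ne, Layer.layer_eq_bot_iff] at hE
  push Not at hE
  obtain ⟨L, hL⟩ := hE
  have he : Cfsg.layer G = L :=
    le_antisymm (sSup_le fun K hK => (component_unique hFT hP hK hL).le)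
      (Layer.component_le_layer hL)
  rw [he]
  refine ⟨hL.2.2, fun hc => Layer.qs_not_isSolvable hL.2 (isSolvable_ext (center ↥L)
    (Group.isSolvable_of_comm fun p q => Subtype.ext (mem_center_iff.1 q.2 p))
    (Group.isSolvable_of_comm fun p q => hc.is_comm.comm p q))⟩

end Cfsg.Agent.FTCons
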