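import Cfsg.Agent.FTCons.MetaSol
import Cfsg.Agent.Fusion.FixedPointFree
import Cfsg.Agent.Coprime.Action

/-!
A coprime operator group all of whose proper invariant subgroups are nilpotent, given that groups
of odd order are solvable.
-/

set_option autoImplicit false
set_option linter.style.haveILetI false

open Subgroup Cfsg

namespace Cfsg.Agent.FTCons

universe u w

variable {G : Type u} [Group G]

theorem map_eq_of_mem [Finite G] (e : MulAut G) {H : Subgroup G} (h : ∀ x ∈ H, e x ∈ H) :
    H.map e.toMonoidHom = H := by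
  refine eq_of_le_of_card_ge ?_ (card_map_of_injective (f := e.toMonoidHom) e.injective).ge
  rintro _ ⟨x, hx, rfl⟩
  exact h x hx

theorem mem_of_map_eq (e : MulAut G) {H : Subgroup G} (h : H.map e.toMonoidHom = H) {x : G}
    (hx : x ∈ H) : e x ∈ H := h ▸ ⟨x, hx, rfl⟩

theorem map_characteristic (e : MulAut G) (H : Subgroup G) [hH : H.Characteristic] :
    H.map e.toMonoidHom = H := (characteristic_iff_map_eq.1 hH) e

theorem map_centralizer' (e : MulAut G) (H : Subgroup G) :
    (centralizer (H : Set G)).map e.toMonoidHom = centralizer (H.map e.toMonoidHom : Set G) := by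
  ext x
  rw [mem_map_equiv, mem_centralizer_iff, mem_centralizer_iff]
  constructor
  · rintro h _ ⟨y, hy, rfl⟩
    have := congrArg e (h y hy)
    simpa using this
  · intro h y hy
    refine e.injective ?_
    have := h (e y) ⟨y, hy, rfl⟩
    simpa using this

/-- Invariance under a group of operators. -/
def Inv {A : Type w} [Group A] (φ : A →* MulAut G) (H : Subgroup G) : Prop :=
  ∀ a : A, H.map (φ a).toMonoidHom = H

variable [Finite G]

/-- A group is generated by Sylow subgroups for the primes dividing its order. -/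
theorem iSup_sylow_eq_top (P : ∀ r : Nat.Primes, Sylow r G) :
    ⨆ r : Nat.Primes, (P r : Subgroup G) = ⊤ := by
  rw [← index_eq_one]
  by_contra h
  obtain ⟨r, hr, hdvd⟩ := Nat.exists_prime_and_dvd h
  haveI := Fact.mk hr
  exact (P ⟨r, hr⟩).not_dvd_index (hdvd.trans (index_dvd_of_le (le_iSup (fun r : Nat.Primes =>
    (P r : Subgroup G)) ⟨r, hr⟩)))

/-- A coprime operator group with all proper invariant subgroups nilpotent acts on a solvable
group. -/
theorem solvable_of_proper_nilpotent (hFT : OddSolvable.{u}) :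
    ∀ (n : ℕ) (G : Type u) [Group G] [Finite G] (A : Type u) [Group A] [Finite A]
      (φ : A →* MulAut G), Nat.card G ≤ n → (Nat.card A).Coprime (Nat.card G) →
      (∀ H : Subgroup G, H ≠ ⊤ → Inv φ H → Group.IsNilpotent ↥H) → Group.IsSolvable G := by
  intro n
  induction n with
  | zero => intro G _ _ A _ _ φ hn; exact absurd hn (Nat.not_le.2 Nat.card_pos)
  | succ n ih =>
    intro G _ _ A _ _ φ hn hcop hmax
    by_cases hnil : Group.IsNilpotent G
    · exact @IsNilpotent.to_isSolvable G _ hnil
    by_cases hN : ∃ N : Subgroup G, N.Normal ∧ Inv φ N ∧ N ≠ ⊥ ∧ N ≠ ⊤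
    · obtain ⟨N, hNn, hNi, hN1, hNt⟩ := hN
      haveI : Group.IsNilpotent ↥N := hmax N hNt hNi
      refine isSolvable_ext N (@IsNilpotent.to_isSolvable ↥N _ this) ?_
      let ψ : A →* MulAut (G ⧸ N) :=
        { toFun := fun a => QuotientGroup.congr N N (φ a) (hNi a)
          map_one' := MulEquiv.ext fun x => by
            obtain ⟨g, rfl⟩ := QuotientGroup.mk'_surjective N x
            simp
          map_mul' := fun a b => MulEquiv.ext fun x => by
            obtain ⟨g, rfl⟩ := QuotientGroup.mk'_surjective N x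
            change ((φ (a * b) g : G) : G ⧸ N) = ((φ a (φ b g) : G) : G ⧸ N)
            rw [map_mul]
            rfl }
      refine ih (G ⧸ N) A ψ ?_ (hcop.coprime_dvd_right (card_quotient_dvd_card N)) fun H hH hHi => ?_
      · have h1 := N.card_eq_card_quotient_mul_card_subgroup
        have h2 : 2 ≤ Nat.card ↥N := N.one_lt_card_iff_ne_bot.2 hN1
        have h3 : 0 < Nat.card (G ⧸ N) := Nat.card_pos
        nlinarith
      have hKt : H.comap (QuotientGroup.mk' N) ≠ ⊤ := fun e => hH (by
        rw [← map_comap_eq_self_of_surjective (QuotientGroup.mk'_surjective N) H, e,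
          Subgroup.map_top_of_surjective _ (QuotientGroup.mk'_surjective N)])
      haveI := hmax _ hKt fun a => map_eq_of_mem _ fun x hx => by
        have h := mem_of_map_eq (ψ a) (hHi a) hx
        exact h
      exact Group.nilpotent_of_surjective ((QuotientGroup.mk' N).subgroupComap H)
        (MonoidHom.subgroupComap_surjective_of_surjective _ H (QuotientGroup.mk'_surjective N))
    -- no proper nontrivial invariant normal subgroup: contradiction
    exfalso
    push Not at hN
    obtain ⟨p, hp, hp2, hpG⟩ : ∃ p : ℕ, p.Prime ∧ p ≠ 2 ∧ p ∣ Nat.card G := by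
      by_contra h
      push Not at h
      refine hnil (IsPGroup.isNilpotent (p := 2) ?_)
      refine IsPGroup.of_card (n := (Nat.card G).primeFactorsList.length)
        (Nat.eq_prime_pow_of_unique_prime_dvd Nat.card_pos.ne' fun {r} hr hrG => ?_)
      by_contra hr2
      exact h r hr hr2 hrG
    haveI := Fact.mk hp
    obtain ⟨P, hP⟩ := Coprime.exists_invariant_sylow_act φ hcop (solvable_or_of_coprime hFT hcop) p
    have hPi : Inv φ (P : Subgroup G) := fun a => map_eq_of_mem _ (hP a)
    have hP1 : (P : Subgroup G) ≠ ⊥ := P.ne_bot_of_dvd_card hpG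
    have hPt : (P : Subgroup G) ≠ ⊤ := fun e => hnil (IsPGroup.isNilpotent (p := p) fun x => by
      obtain ⟨k, hk⟩ := P.2 ⟨x, e ▸ mem_top x⟩
      exact ⟨k, congrArg Subtype.val hk⟩)
    set J := thompsonSubgroupOf p (P : Subgroup G) with hJ
    have hJi : Inv φ J := fun a => by
      rw [hJ, Fusion.thompsonSubgroupOf_map_of_inf_ker, hPi a]
      rw [(MonoidHom.ker_eq_bot_iff (φ a).toMonoidHom).2 (φ a).injective, inf_bot_eq]
    have hNJ : normalizer (J : Set G) ≠ ⊤ := fun e => by
      have h := hN J (normalizer_eq_top_iff.1 e) hJi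
        (Fusion.thompsonSubgroupOf_ne_bot P.2 hP1)
      exact hPt (top_le_iff.1 (h.symm.le.trans (Thompson.thompsonOf_le p _)))
    set ZP := (P : Subgroup G) ⊓ centralizer ((P : Subgroup G) : Set G) with hZP
    have hZi : Inv φ ZP := fun a => by
      rw [hZP, Subgroup.map_inf _ _ _ (φ a).injective, map_centralizer', hPi a]
    have hCZ : centralizer (ZP : Set G) ≠ ⊤ := fun e => by
      have hcen : ZP ≤ center G := fun x hx => mem_center_iff.2 fun y =>
        (mem_centralizer_iff.1 (e ▸ mem_top y : y ∈ centralizer (ZP : Set G)) x hx).symm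
      have hZ1 : center G ≠ ⊥ := fun h => by
        haveI : Nontrivial ↥(P : Subgroup G) := (Subgroup.nontrivial_iff_ne_bot _).2 hP1
        haveI := P.2.center_nontrivial
        obtain ⟨z, hz, hz1⟩ := (Subgroup.bot_or_exists_ne_one (center ↥(P : Subgroup G))).resolve_left
          ((Subgroup.nontrivial_iff_ne_bot _).1 inferInstance)
        have hz' : (z : G) ∈ ZP := mem_inf.2 ⟨z.2, mem_centralizer_iff.2 fun y hy =>
          congrArg Subtype.val (mem_center_iff.1 hz ⟨y, hy⟩)⟩
        exact hz1 (Subtype.ext (mem_bot.1 (h ▸ hcen hz')))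
      have htop := hN (center G) inferInstance (fun a => map_characteristic _ _) hZ1
      exact hnil (by
        haveI : IsMulCommutative G := Subgroup.center_eq_top_iff.1 htop
        letI : CommGroup G :=
          { ‹Group G› with mul_comm := fun a b => this.is_comm.comm a b }
        exact CommGroup.isNilpotent)
    have hJc : HasNormalPComplement p ↥(normalizer (J : Set G)) :=
      Fusion.hasNormalPComplement_of_isNilpotent (hmax _ hNJ fun a => by
        rw [map_equiv_normalizer_eq, hJi a])
    have hZc : HasNormalPComplement p ↥(centralizer (ZP : Set G)) :=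
      Fusion.hasNormalPComplement_of_isNilpotent (hmax _ hCZ fun a => by
        rw [map_centralizer', hZi a])
    obtain ⟨R, N, hNn, (hNR : IsComplement' N (R : Subgroup G))⟩ :=
      Fusion.hasNormalPComplement_of_thompson hp2 P hJc hZc
    have hNcard : (Nat.card ↥N).Coprime p := by
      rw [Nat.coprime_comm, hp.coprime_iff_not_dvd, ← hNR.index_eq_card]
      exact R.not_dvd_index
    have hle : N ≤ pPrimeCore p G := le_sSup ⟨hNn, hNcard⟩
    have hpc := hN (pPrimeCore p G) inferInstance (fun a => map_characteristic _ _) fun h => by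
      refine hnil (IsPGroup.isNilpotent (p := p) ?_)
      have hN1 : N = ⊥ := le_bot_iff.1 (h ▸ hle)
      have hRt : (R : Subgroup G) = ⊤ := by
        subst hN1
        exact isComplement'_bot_left.1 hNR
      exact fun x => by
        obtain ⟨k, hk⟩ := R.2 ⟨x, hRt ▸ mem_top x⟩
        exact ⟨k, congrArg Subtype.val hk⟩
    have := Core.not_dvd_card_pPrimeCore (p := p) (G := G)
    rw [hpc, card_top] at this
    exact this hpG

/-- The structure of the group. -/
theorem structure_of_proper_nilpotent (hFT : OddSolvable.{u}) {A : Type u} [Group A] [Finite A]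
    (φ : A →* MulAut G) (hcop : (Nat.card A).Coprime (Nat.card G))
    (hmax : ∀ H : Subgroup G, H ≠ ⊤ → Inv φ H → Group.IsNilpotent ↥H)
    (hG : ¬ Group.IsNilpotent G) :
    Group.IsSolvable G ∧
      (∃ p q a b : ℕ, p.Prime ∧ q.Prime ∧ p ≠ q ∧ Nat.card G = p ^ a * q ^ b) ∧
      ∃ (p : ℕ) (P : Sylow p G), p.Prime ∧ p ∣ Nat.card G ∧ (P : Subgroup G).Normal ∧
        Inv φ (P : Subgroup G) := by
  have hsol := solvable_of_proper_nilpotent hFT (Nat.card G) G A φ le_rfl hcop hmax
  refine ⟨hsol, ?_⟩
  have hA := solvable_or_of_coprime hFT hcop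
  choose P hP using fun r : Nat.Primes =>
    (haveI := Fact.mk r.2; Coprime.exists_invariant_sylow_act φ hcop hA (r : ℕ))
  have hPi : ∀ r, Inv φ (P r : Subgroup G) := fun r a => map_eq_of_mem _ (hP r a)
  haveI : Nontrivial G := by
    by_contra h
    rw [not_nontrivial_iff_subsingleton] at h
    exact hG inferInstance
  set D := commutator G with hD
  have hDt : D ≠ ⊤ := (Group.IsSolvable.commutator_lt_top_of_nontrivial G).ne
  have hDi : Inv φ D := fun a => map_characteristic _ _
  have hnotall : ¬ ∀ r, (P r : Subgroup G).Normal := fun hall => hG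
    ((Group.isNilpotent_of_finite_tfae.out 0 3 rfl rfl).mpr fun r hr S => by
      haveI := Fact.mk hr.out
      haveI : (P ⟨r, hr.out⟩ : Subgroup G).Normal := hall _
      haveI := Sylow.unique_of_normal (P ⟨r, hr.out⟩) inferInstance
      rw [Subsingleton.elim S (P ⟨r, hr.out⟩)]
      infer_instance)
  have hsylow : ∀ (r : Nat.Primes) (H : Subgroup G), (P r : Subgroup G) ≤ H → Group.IsNilpotent ↥H →
      H ≤ normalizer ((P r : Subgroup G) : Set G) := by
    intro r H hle hH
    haveI := Fact.mk r.2
    have h := (Group.isNilpotent_of_finite_tfae.out 0 3 rfl rfl).mp hH r inferInstance ((P r).subtype hle)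
    exact (normal_subgroupOf_iff_le_normalizer hle).1 (by simpa using h)
  obtain ⟨q, hq⟩ : ∃ q, D ⊔ (P q : Subgroup G) = ⊤ := by
    by_contra h
    push Not at h
    refine hnotall fun r => normalizer_eq_top_iff.1 (top_le_iff.1 ?_)
    haveI : (D ⊔ (P r : Subgroup G)).Normal := Subgroup.Normal.of_commutator_le G le_sup_left
    have hnil := hmax _ (h r) fun a => by rw [Subgroup.map_sup, hDi a, hPi r a]
    haveI := Fact.mk r.2
    intro g _
    haveI := (Group.isNilpotent_of_finite_tfae.out 0 3 rfl rfl).mp hnil r inferInstance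
      ((P r).subtype le_sup_right)
    haveI := Sylow.characteristic_of_normal ((P r).subtype (N := D ⊔ (P r : Subgroup G)) le_sup_right) inferInstance
    have hn : ((((P r).subtype (N := D ⊔ (P r : Subgroup G)) le_sup_right :
        Sylow r ↥(D ⊔ (P r : Subgroup G))) : Subgroup ↥(D ⊔ (P r : Subgroup G))).map
          (D ⊔ (P r : Subgroup G)).subtype).Normal := inferInstance
    rw [Sylow.coe_subtype, map_subgroupOf_eq_of_le le_sup_right] at hn
    rw [normalizer_eq_top]
    exact mem_top g
  haveI hqf := Fact.mk q.2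
  have hDP : Nat.card G ∣ Nat.card ↥D * Nat.card ↥(P q : Subgroup G) := by
    have h := Core.card_sup_mul_card_inf (P q : Subgroup G) D
    rw [sup_comm, hq, card_top] at h
    rw [mul_comm (Nat.card ↥D), ← h]
    exact dvd_mul_right _ _
  have hDnil := hmax D hDt hDi
  have hnorm : ∀ r, r ≠ q → (P r : Subgroup G).Normal := by
    intro r hr
    haveI := Fact.mk r.2
    have hle : (P r : Subgroup G) ≤ D := by
      refine Core.le_of_coprime_index ?_
      obtain ⟨k, hk⟩ := IsPGroup.iff_card.1 (P r).2
      obtain ⟨m, hm⟩ := IsPGroup.iff_card.1 (P q).2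
      have hidx : D.index ∣ q ^ m := by
        rw [← hm]
        refine Nat.dvd_of_mul_dvd_mul_left (Nat.card_pos (α := ↥D)) ?_
        rw [card_mul_index]
        exact hDP
      rw [hk]
      exact Nat.Coprime.coprime_dvd_right hidx (Nat.Coprime.pow _ _
        ((Nat.coprime_primes r.2 q.2).2 fun e => hr (Subtype.ext e)))
    haveI := (Group.isNilpotent_of_finite_tfae.out 0 3 rfl rfl).mp hDnil r inferInstance
      ((P r).subtype hle)
    haveI := Sylow.characteristic_of_normal ((P r).subtype hle) inferInstance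
    have h : ((((P r).subtype hle : Sylow r ↥D) : Subgroup ↥D).map D.subtype).Normal := inferInstance
    rwa [Sylow.coe_subtype, map_subgroupOf_eq_of_le hle] at h
  have hsup : ∀ r, r ≠ q → (P r : Subgroup G) ⊔ (P q : Subgroup G) ≠ ⊤ →
      (P r : Subgroup G) ≤ normalizer ((P q : Subgroup G) : Set G) := fun r hr ht =>
    le_sup_left.trans (hsylow q _ le_sup_right
      (hmax _ ht fun a => by rw [Subgroup.map_sup, hPi r a, hPi q a]))
  have hqn : ¬ (P q : Subgroup G).Normal := fun h => hnotall fun r => by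
    by_cases hr : r = q
    · exact hr ▸ h
    · exact hnorm r hr
  obtain ⟨r, hr, hrtop⟩ : ∃ r, r ≠ q ∧ (P r : Subgroup G) ⊔ (P q : Subgroup G) = ⊤ := by
    by_contra h
    push Not at h
    refine hqn (normalizer_eq_top_iff.1 (top_le_iff.1 ?_))
    rw [← iSup_sylow_eq_top P]
    refine iSup_le fun r => ?_
    by_cases hr : r = q
    · exact hr ▸ le_normalizer
    · exact hsup r hr (h r hr)
  haveI hrf := Fact.mk r.2
  haveI := hnorm r hr
  have hcard : Nat.card G = Nat.card ↥(P r : Subgroup G) * Nat.card ↥(P q : Subgroup G) := by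
    have h := Core.card_sup_mul_card_inf (P q : Subgroup G) (P r : Subgroup G)
    have hne : (q : ℕ) ≠ r := fun e => hr (Subtype.ext e).symm
    rw [sup_comm, hrtop, card_top,
      (IsPGroup.disjoint_of_ne _ _ hne _ _ (P q).2 (P r).2).eq_bot, card_bot, mul_one] at h
    rw [h, mul_comm]
  obtain ⟨k, hk⟩ := IsPGroup.iff_card.1 (P r).2
  obtain ⟨m, hm⟩ := IsPGroup.iff_card.1 (P q).2
  refine ⟨⟨r, q, k, m, r.2, q.2, fun e => hr (Subtype.ext e), by rw [hcard, hk, hm]⟩,
    r, P r, r.2, ?_, hnorm r hr, hPi r⟩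
  rcases k with - | k
  · exfalso
    have : (P r : Subgroup G) = ⊥ := eq_bot_of_card_eq _ (by rw [hk, pow_zero])
    rw [this, bot_sup_eq] at hrtop
    refine hqn ?_
    rw [hrtop]
    infer_instance
  · rw [hcard, hk]
    exact Dvd.dvd.mul_right (dvd_pow_self _ k.succ_ne_zero) _

/-- The statement for maximal invariant subgroups and an arbitrary operator group. -/
theorem structure_of_max_nilpotent (hFT : OddSolvable.{u}) {A : Type w} [Group A] [Finite A]
    [MulDistribMulAction A G] (hcop : (Nat.card A).Coprime (Nat.card G))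
    (hmax : ∀ H : Subgroup G, H ≠ ⊤ → (∀ a : A, ∀ x ∈ H, a • x ∈ H) →
      (∀ K : Subgroup G, H < K → (∀ a : A, ∀ x ∈ K, a • x ∈ K) → K = ⊤) → Group.IsNilpotent H)
    (hG : ¬ Group.IsNilpotent G) :
    Group.IsSolvable G ∧
      (∃ p q a b : ℕ, p.Prime ∧ q.Prime ∧ p ≠ q ∧ Nat.card G = p ^ a * q ^ b) ∧
      ∃ (p : ℕ) (P : Sylow p G), p.Prime ∧ p ∣ Nat.card G ∧ (P : Subgroup G).Normal ∧
        (∀ a : A, ∀ x ∈ (P : Subgroup G), a • x ∈ (P : Subgroup G)) := by
  set Φ := (MulDistribMulAction.toMulAut A G).range with hΦ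
  have hconv : ∀ H : Subgroup G, Inv Φ.subtype H ↔ ∀ a : A, ∀ x ∈ H, a • x ∈ H := by
    intro H
    constructor
    · intro h a x hx
      exact mem_of_map_eq _ (h ⟨_, ⟨a, rfl⟩⟩) hx
    · rintro h ⟨_, a, rfl⟩
      exact map_eq_of_mem _ (h a)
  have hall : ∀ H : Subgroup G, H ≠ ⊤ → Inv Φ.subtype H → Group.IsNilpotent ↥H := by
    intro H hH hHi
    obtain ⟨M, hHM, ⟨hMt, hMi⟩, hMmax⟩ :=
      Finite.exists_le_maximal (p := fun M : Subgroup G => M ≠ ⊤ ∧ ∀ a : A, ∀ x ∈ M, a • x ∈ M)
        ⟨hH, (hconv H).1 hHi⟩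
    haveI := hmax M hMt hMi fun K hK hKi => by
      by_contra hKt
      exact hK.not_ge (hMmax ⟨hKt, hKi⟩ hK.le)
    exact Core.isNilpotent_mono this hHM
  obtain ⟨h1, h2, p, P, h3, h4, h5, h6⟩ := structure_of_proper_nilpotent hFT Φ.subtype
    (hcop.coprime_dvd_left (card_range_dvd _)) hall hG
  exact ⟨h1, h2, p, P, h3, h4, h5, (hconv _).1 h6⟩

end Cfsg.Agent.FTCons
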