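import Cfsg.Agent.FTCons.Basic

/-!
Metacyclic `2`-groups `S = ⟨s⟩⟨a⟩` with `⟨a⟩` normal and `S / ⟨a⟩` of order at least four.
-/

set_option autoImplicit false

open Subgroup

namespace Cfsg.Agent.FTCons

universe u

variable {G : Type u} [Group G]

/-- `S` is a `2`-group `⟨s⟩⟨a⟩` with `⟨a⟩` normalised by `s`. -/
structure Meta (S : Subgroup G) (a s : G) : Prop where
  isP : IsPGroup 2 S
  ha : a ∈ S
  hs : s ∈ S
  cover : ∀ g ∈ S, ∃ i j : ℤ, g = s ^ i * a ^ j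
  conj : s * a * s⁻¹ ∈ zpowers a

variable [Finite G]

theorem orderOf_two_pow {S : Subgroup G} (hS : IsPGroup 2 S) {g : G} (hg : g ∈ S) :
    ∃ n : ℕ, orderOf g = 2 ^ n := by
  obtain ⟨n, hn⟩ := IsPGroup.iff_orderOf.1 hS ⟨g, hg⟩
  exact ⟨n, by rw [← hn, Subgroup.orderOf_mk]⟩

/-- An odd power generates the same cyclic `2`-group. -/
theorem mem_of_odd_zpow {g : G} {n : ℕ} (hg : orderOf g = 2 ^ n) {A : Subgroup G} {i : ℤ}
    (hi : Odd i) (h : g ^ i ∈ A) : g ∈ A := by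
  have hc : IsCoprime i ((2 : ℤ) ^ n) :=
    IsCoprime.pow_right (Int.isCoprime_iff_gcd_eq_one.2 (by
      obtain ⟨k, rfl⟩ := hi
      rw [show (2 * k + 1 : ℤ) = 1 + k * 2 by ring, Int.gcd_add_mul_right_left, Int.one_gcd]))
  obtain ⟨x, y, hxy⟩ := hc
  have hy : g ^ ((2 : ℤ) ^ n) = 1 := by
    rw [show ((2 : ℤ) ^ n) = ((2 ^ n : ℕ) : ℤ) by push_cast; ring, zpow_natCast, ← hg,
      pow_orderOf_eq_one]
  have : g = (g ^ i) ^ x := by
    calc g = g ^ (x * i + y * 2 ^ n) := by rw [hxy, zpow_one]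
      _ = (g ^ i) ^ x * (g ^ ((2 : ℤ) ^ n)) ^ y := by
        rw [zpow_add, mul_comm x, mul_comm y, zpow_mul, zpow_mul]
      _ = (g ^ i) ^ x := by rw [hy, one_zpow, mul_one]
  rw [this]
  exact zpow_mem h x

namespace Meta

variable {S : Subgroup G} {a s : G} (m : Meta S a s)
include m

theorem le_normalizer : S ≤ normalizer ((zpowers a : Subgroup G) : Set G) := by
  have hsn : s ∈ normalizer ((zpowers a : Subgroup G) : Set G) := by
    refine Coprime.mem_normalizer_of_conj_smul_eq ?_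
    refine eq_of_le_of_card_ge ?_ (Coprime.card_conj_smul s _).ge
    rintro x hx
    rw [Coprime.mem_conj_smul] at hx
    obtain ⟨k, hk⟩ := mem_zpowers_iff.1 hx
    have : x = (s * a * s⁻¹) ^ k := by
      rw [conj_zpow, hk]; group
    rw [this]
    exact zpow_mem m.conj k
  intro g hg
  obtain ⟨i, j, rfl⟩ := m.cover g hg
  exact mul_mem (zpow_mem hsn i) (Subgroup.le_normalizer (zpow_mem (mem_zpowers a) j))

theorem conj_mem {g x : G} (hg : g ∈ S) (hx : x ∈ zpowers a) : g * x * g⁻¹ ∈ zpowers a :=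
  (mem_normalizer_iff.1 (m.le_normalizer hg) x).1 hx

theorem comm_mem {g h : G} (hg : g ∈ S) (hh : h ∈ S) : g * h * g⁻¹ * h⁻¹ ∈ zpowers a := by
  obtain ⟨i, j, rfl⟩ := m.cover g hg
  obtain ⟨k, l, rfl⟩ := m.cover h hh
  have hA : ∀ j : ℤ, a ^ j ∈ zpowers a := fun j => zpow_mem (mem_zpowers a) j
  have e : s ^ i * a ^ j * (s ^ k * a ^ l) * (s ^ i * a ^ j)⁻¹ * (s ^ k * a ^ l)⁻¹
      = (s ^ i * (a ^ j) * (s ^ i)⁻¹) * (s ^ (i + k) * (a ^ (l - j)) * (s ^ (i + k))⁻¹)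
        * (s ^ k * (a ^ l)⁻¹ * (s ^ k)⁻¹) := by group
  rw [e]
  exact mul_mem (mul_mem (m.conj_mem (zpow_mem m.hs _) (hA _)) (m.conj_mem (zpow_mem m.hs _) (hA _)))
    (m.conj_mem (zpow_mem m.hs _) (inv_mem (hA _)))

/-- The least power of `s` inside `⟨a⟩`. -/
theorem exists_exponent : ∃ q : ℕ, ∀ i : ℤ, s ^ i ∈ zpowers a ↔ (2 : ℤ) ^ q ∣ i := by
  classical
  obtain ⟨n, hn⟩ := orderOf_two_pow m.isP m.hs
  have hex : ∃ q : ℕ, s ^ ((2 : ℤ) ^ q) ∈ zpowers a := ⟨n, by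
    rw [show ((2 : ℤ) ^ n) = ((2 ^ n : ℕ) : ℤ) by push_cast; ring, zpow_natCast, ← hn,
      pow_orderOf_eq_one]
    exact one_mem _⟩
  refine ⟨Nat.find hex, fun i => ⟨fun hi => ?_, fun hi => ?_⟩⟩
  · rcases eq_or_ne i 0 with rfl | hi0
    · exact dvd_zero _
    obtain ⟨c, o, ho, rfl⟩ : ∃ (c : ℕ) (o : ℤ), Odd o ∧ i = 2 ^ c * o := by
      obtain ⟨c, o, ho, he⟩ := Nat.exists_eq_pow_mul_and_not_dvd (Int.natAbs_ne_zero.2 hi0) 2 (by decide)
      rcases Int.natAbs_eq i with h | h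
      · exact ⟨c, o, by exact_mod_cast Nat.odd_iff.2 (by omega), by rw [h, he]; push_cast; ring⟩
      · exact ⟨c, -o, by simpa using (show Odd (o : ℤ) by exact_mod_cast Nat.odd_iff.2 (by omega)),
          by rw [h, he]; push_cast; ring⟩
    rw [zpow_mul] at hi
    obtain ⟨n', hn'⟩ := orderOf_two_pow m.isP (zpow_mem m.hs ((2 : ℤ) ^ c))
    exact Dvd.dvd.mul_right (pow_dvd_pow _ (Nat.find_le (mem_of_odd_zpow hn' ho hi))) _
  · obtain ⟨k, rfl⟩ := hi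
    rw [zpow_mul]
    exact zpow_mem (Nat.find_spec hex) k

theorem conj_pow {g x : G} {r : ℤ} (hx : x ∈ zpowers a) (h : g * a * g⁻¹ = a ^ r) :
    g * x * g⁻¹ = x ^ r := by
  obtain ⟨k, rfl⟩ := mem_zpowers_iff.1 hx
  rw [← conj_zpow, h, ← zpow_mul, ← zpow_mul, mul_comm]

/-- An element of `⟨a⟩` inverted by an element lying in `⟨s²⟩⟨a⟩` squares to one. -/
theorem sq_eq_one_of_inverted {k : ℤ} {c x : G} (hc : c ∈ zpowers a) (hx : x ∈ zpowers a)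
    (h : s ^ (2 * k) * c * x * (s ^ (2 * k) * c)⁻¹ = x⁻¹) : x * x = 1 := by
  rcases eq_or_ne a 1 with rfl | ha1
  · rw [zpowers_one_eq_bot, mem_bot] at hx
    rw [hx, mul_one]
  have hcomm : c * x * c⁻¹ = x := by
    obtain ⟨i, rfl⟩ := mem_zpowers_iff.1 hc
    obtain ⟨j, rfl⟩ := mem_zpowers_iff.1 hx
    rw [((Commute.refl a).zpow_zpow i j).eq, mul_inv_cancel_right]
  have h' : s ^ (2 * k) * x * (s ^ (2 * k))⁻¹ = x⁻¹ := by
    rw [← h]
    conv_lhs => rw [← hcomm]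
    group
  obtain ⟨r, hr⟩ := mem_zpowers_iff.1 (m.conj_mem (zpow_mem m.hs k) (mem_zpowers a))
  have hodd : Odd r := by
    rcases Int.even_or_odd r with he | ho
    · exfalso
      obtain ⟨t, rfl⟩ := he
      obtain ⟨n, hn⟩ := orderOf_two_pow m.isP m.ha
      rcases n with _ | n
      · exact ha1 (orderOf_eq_one_iff.1 hn)
      have h1 : (s ^ k * a * (s ^ k)⁻¹) ^ (2 ^ n) = 1 := by
        rw [← hr, ← zpow_natCast, ← zpow_mul]
        push_cast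
        rw [show (t + t) * 2 ^ n = ((2 ^ (n + 1) : ℕ) : ℤ) * t by push_cast; ring, zpow_mul,
          zpow_natCast, ← hn, pow_orderOf_eq_one, one_zpow]
      rw [_root_.conj_pow, mul_inv_eq_one, mul_eq_left] at h1
      have := Nat.le_of_dvd (by positivity) (hn ▸ orderOf_dvd_of_pow_eq_one h1)
      have h2 : 2 ^ n < 2 ^ (n + 1) := Nat.pow_lt_pow_right (by norm_num) (by omega)
      omega
    · exact ho
  have e1 : s ^ k * x * (s ^ k)⁻¹ = x ^ r := m.conj_pow hx hr.symm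
  have e2 : s ^ (2 * k) * x * (s ^ (2 * k))⁻¹ = x ^ (r * r) := by
    rw [zpow_mul x, ← m.conj_pow (zpow_mem hx r) hr.symm, ← e1]
    group
  rw [h'] at e2
  have e3 : x ^ (r * r + 1) = 1 := by rw [zpow_add, ← e2, zpow_one, inv_mul_cancel]
  obtain ⟨t, rfl⟩ := hodd
  rw [show (2 * t + 1) * (2 * t + 1) + 1 = 2 * (2 * (t * t + t) + 1) by ring, zpow_mul] at e3
  obtain ⟨n, hn⟩ := orderOf_two_pow m.isP
    (zpow_mem (zpowers_le.2 m.ha hx) (2 : ℤ))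
  have := mem_of_odd_zpow (A := ⊥) hn ⟨_, rfl⟩ (mem_bot.2 e3)
  rwa [mem_bot, zpow_two] at this

/-- All involutions outside `⟨a⟩` lie in one coset of the involution of `⟨a⟩`. -/
theorem mul_sq_eq_one (h4 : s ^ (2 : ℤ) ∉ zpowers a) {x y : G} (hx : x ∈ S) (hy : y ∈ S)
    (hx2 : x * x = 1) (hy2 : y * y = 1) (hxA : x ∉ zpowers a) (hyA : y ∉ zpowers a) :
    x * y ∈ zpowers a ∧ x * y * (x * y) = 1 := by
  obtain ⟨q, hq⟩ := m.exists_exponent
  have hq2 : 2 ≤ q := by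
    by_contra hlt
    refine h4 ((hq 2).2 ?_)
    have : (2 : ℤ) ^ q ∣ 2 ^ 1 := pow_dvd_pow 2 (by omega)
    simpa using this
  have key : ∀ g ∈ S, g * g = 1 → g ∉ zpowers a →
      ∃ (k : ℤ) (c : G), c ∈ zpowers a ∧ g = s ^ (2 * k) * c ∧ 2 * k + (-(2 : ℤ) ^ (q - 1)) ∈
        {i : ℤ | (2 : ℤ) ^ q ∣ i} := by
    intro g hg hg2 hgA
    obtain ⟨i, j, rfl⟩ := m.cover g hg
    have hj : a ^ j ∈ zpowers a := zpow_mem (mem_zpowers a) j
    have h1 : s ^ (2 * i) ∈ zpowers a := by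
      have hd : ∃ d ∈ zpowers a, s ^ i * a ^ j * (s ^ i * a ^ j) = s ^ (2 * i) * d :=
        ⟨(s ^ i)⁻¹ * a ^ j * s ^ i * a ^ j, mul_mem (by
          simpa using m.conj_mem (zpow_mem m.hs (-i)) hj) hj, by group⟩
      obtain ⟨d, hd, he⟩ := hd
      rw [hg2] at he
      rw [eq_inv_of_mul_eq_one_left he.symm]
      exact inv_mem hd
    have h2 := (hq _).1 h1
    have h3 : ¬ (2 : ℤ) ^ q ∣ i := fun h => hgA (mul_mem ((hq i).2 h) hj)
    obtain ⟨w, hw⟩ := h2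
    have hpow : (2 : ℤ) ^ q = 2 * 2 ^ (q - 1) := by rw [← pow_succ']; congr 1; omega
    have hpow2 : (2 : ℤ) ^ (q - 1) = 2 * 2 ^ (q - 2) := by rw [← pow_succ']; congr 1; omega
    have hiw : i = 2 ^ (q - 1) * w := by rw [hpow] at hw; linarith
    rcases Int.even_or_odd w with ⟨v, rfl⟩ | ⟨v, rfl⟩
    · exact absurd ⟨v, by rw [hiw, hpow]; ring⟩ h3
    · refine ⟨2 ^ (q - 2) * (2 * v + 1), a ^ j, hj, ?_, v, ?_⟩
      · rw [hiw, hpow2]; ring_nf
      · rw [hpow, hpow2]; ring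
  obtain ⟨k, c, hc, rfl, hk⟩ := key x hx hx2 hxA
  obtain ⟨l, d, hd, rfl, hl⟩ := key y hy hy2 hyA
  have hkl : s ^ (2 * k + 2 * l) ∈ zpowers a := (hq _).2 (by
    have h := dvd_add hk hl
    have hpow : (2 : ℤ) ^ q = 2 * 2 ^ (q - 1) := by rw [← pow_succ']; congr 1; omega
    obtain ⟨w, hw⟩ := h
    exact ⟨w + 1, by linarith⟩)
  have hmem : s ^ (2 * k) * c * (s ^ (2 * l) * d) ∈ zpowers a := by
    have e : s ^ (2 * k) * c * (s ^ (2 * l) * d)
        = s ^ (2 * k + 2 * l) * ((s ^ (2 * l))⁻¹ * c * s ^ (2 * l)) * d := by group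
    rw [e]
    exact mul_mem (mul_mem hkl (by simpa using m.conj_mem (zpow_mem m.hs (-(2 * l))) hc)) hd
  refine ⟨hmem, m.sq_eq_one_of_inverted (k := k) hc hmem ?_⟩
  generalize s ^ (2 * k) * c = X at hx2
  generalize s ^ (2 * l) * d = Y at hy2
  rw [mul_inv_rev, inv_eq_of_mul_eq_one_right hx2, inv_eq_of_mul_eq_one_right hy2, ← mul_assoc X X,
    hx2, one_mul]

end Meta

end Cfsg.Agent.FTCons
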