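import Cfsg.Agent.FTCons.Meta
import Cfsg.Agent.BlockThms.HomocyclicMain

/-!
Groups with a metacyclic Sylow `2`-subgroup having a cyclic quotient of order at least four are
solvable, given that groups of odd order are solvable.
-/

set_option autoImplicit false

open Subgroup
open scoped Pointwise

namespace Cfsg.Agent.FTCons

universe u

theorem isSolvable_ext {G : Type u} [Group G] (N : Subgroup G) [N.Normal]
    (hN : Group.IsSolvable N) (hQ : Group.IsSolvable (G ⧸ N)) : Group.IsSolvable G :=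
  Group.isSolvable_of_ker_le_range N.subtype (QuotientGroup.mk' N) (by simp)

variable {G : Type u} [Group G] [Finite G]

theorem involution_eq_of_zpowers {g t v : G} {n : ℕ} (hn : orderOf g = 2 ^ n) (ht : t ∈ zpowers g)
    (hv : v ∈ zpowers g) (ht2 : t * t = 1) (hv2 : v * v = 1) (ht1 : t ≠ 1) (hv1 : v ≠ 1) : t = v := by
  rcases n with _ | n
  · rw [orderOf_eq_one_iff.1 hn, zpowers_one_eq_bot, mem_bot] at ht
    exact absurd ht ht1
  have hw : (g ^ ((2 : ℤ) ^ n)) * g ^ ((2 : ℤ) ^ n) = 1 := by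
    rw [← zpow_add, show (2 : ℤ) ^ n + 2 ^ n = ((2 ^ (n + 1) : ℕ) : ℤ) by push_cast; ring,
      zpow_natCast, ← hn, pow_orderOf_eq_one]
  have key : ∀ u ∈ zpowers g, u * u = 1 → u ≠ 1 → u = g ^ ((2 : ℤ) ^ n) := by
    intro u hu hu2 hu1
    obtain ⟨i, rfl⟩ := mem_zpowers_iff.1 hu
    rw [← zpow_add, ← orderOf_dvd_iff_zpow_eq_one, hn] at hu2
    obtain ⟨w, hw'⟩ := hu2
    push_cast [pow_succ] at hw'
    have hi : i = 2 ^ n * w := by linarith
    have hsq : (g ^ ((2 : ℤ) ^ n)) ^ (2 : ℤ) = 1 := by rw [zpow_two, hw]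
    rcases Int.even_or_odd w with ⟨t, rfl⟩ | ⟨t, rfl⟩
    · exact absurd (by rw [hi, zpow_mul, ← two_mul, zpow_mul, hsq, one_zpow]) hu1
    · rw [hi, zpow_mul, zpow_add, zpow_mul (g ^ ((2 : ℤ) ^ n)), hsq, one_zpow, one_mul, zpow_one]
  rw [key t ht ht2 ht1, key v hv hv2 hv1]

/-- An abelian `2`-subgroup with three involutions on which the normalizer is transitive. -/
theorem exists_homocyclic {S : Subgroup G} (hS : IsPGroup 2 S) {T : Subgroup G} (hTS : T ≤ S)
    (hab : ∀ p ∈ T, ∀ q ∈ T, p * q = q * p) {z x : G} (hz : z ∈ T) (hx : x ∈ T)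
    (hz2 : z * z = 1) (hz1 : z ≠ 1) (hx1 : x ≠ 1) (hzx : z ≠ x)
    (hinv : ∀ g ∈ T, g * g = 1 → g = 1 ∨ g = z ∨ g = x ∨ g = x * z)
    (htr : ∀ v : G, (v = x ∨ v = x * z) → ∃ y ∈ normalizer (T : Set G), y * z * y⁻¹ = v) :
    ∃ (k : ℕ) (tz tx : G), 1 ≤ k ∧ tz ∈ T ∧ tx ∈ T ∧ orderOf tz = 2 ^ k ∧ orderOf tx = 2 ^ k ∧
      (∀ g ∈ T, g ^ (2 ^ k) = 1) ∧ tz ^ (2 ^ (k - 1)) = z ∧ tx ^ (2 ^ (k - 1)) = x ∧
      Nonempty (T ≃* Multiplicative (ZMod (2 ^ k) × ZMod (2 ^ k))) := by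
  classical
  have hx2 : x * x = 1 := by
    obtain ⟨y, -, hy⟩ := htr x (Or.inl rfl)
    rw [← hy]
    calc y * z * y⁻¹ * (y * z * y⁻¹) = y * (z * z) * y⁻¹ := by group
      _ = 1 := by rw [hz2, mul_one, mul_inv_cancel]
  obtain ⟨N, hN⟩ : ∃ N : ℕ, ∀ g ∈ T, g ^ (2 ^ N) = 1 := by
    obtain ⟨N, hN⟩ := IsPGroup.iff_card.1 hS
    exact ⟨N, fun g hg => congrArg Subtype.val
      (show (⟨g, hTS hg⟩ : S) ^ (2 ^ N) = 1 by rw [← hN, pow_card_eq_one'])⟩
  obtain ⟨k, hk, hkmin⟩ : ∃ k, (∀ g ∈ T, g ^ (2 ^ k) = 1) ∧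
      ∀ j < k, ¬ ∀ g ∈ T, g ^ (2 ^ j) = 1 := by
    have hex : ∃ N : ℕ, ∀ g ∈ T, g ^ (2 ^ N) = 1 := ⟨N, hN⟩
    exact ⟨Nat.find hex, Nat.find_spec hex, fun j hj => Nat.find_min hex hj⟩
  have hk1 : 1 ≤ k := by
    by_contra h
    have := hk z hz
    rw [show k = 0 by omega, pow_zero, pow_one] at this
    exact hz1 this
  obtain ⟨t, ht⟩ := not_forall.1 (hkmin (k - 1) (by omega))
  obtain ⟨htT, htk⟩ := Classical.not_imp.1 ht
  have hsq : ∀ g ∈ T, g ^ (2 ^ (k - 1)) * g ^ (2 ^ (k - 1)) = 1 := fun g hg => by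
    rw [← pow_add, ← two_mul, ← pow_succ', Nat.sub_add_cancel hk1, hk g hg]
  have hTconj : ∀ y ∈ normalizer (T : Set G), ∀ g ∈ T, y * g * y⁻¹ ∈ T := fun y hy g hg =>
    (mem_normalizer_iff.1 hy g).1 hg
  -- every involution of `T` is a power
  have hpull : ∀ (v : G) (y : G), y ∈ normalizer (T : Set G) → y * z * y⁻¹ = v →
      (∃ g ∈ T, g ^ (2 ^ (k - 1)) = z) → ∃ g ∈ T, g ^ (2 ^ (k - 1)) = v := by
    rintro v y hy rfl ⟨g, hg, hgz⟩
    exact ⟨y * g * y⁻¹, hTconj y hy g hg, by rw [conj_pow, hgz]⟩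
  have hpush : ∀ (v : G) (y : G), y ∈ normalizer (T : Set G) → y * z * y⁻¹ = v →
      (∃ g ∈ T, g ^ (2 ^ (k - 1)) = v) → ∃ g ∈ T, g ^ (2 ^ (k - 1)) = z := by
    rintro v y hy rfl ⟨g, hg, hgv⟩
    refine ⟨y⁻¹ * g * y, by simpa using hTconj _ (inv_mem hy) g hg, ?_⟩
    have := conj_pow (i := 2 ^ (k - 1)) (a := y⁻¹) (b := g)
    rw [inv_inv] at this
    rw [this, hgv]
    group
  have hzpow : ∃ g ∈ T, g ^ (2 ^ (k - 1)) = z := by
    rcases hinv _ (pow_mem htT _) (hsq t htT) with h | h | h | h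
    · exact absurd h htk
    · exact ⟨t, htT, h⟩
    · obtain ⟨y, hy, hyz⟩ := htr x (Or.inl rfl)
      exact hpush x y hy hyz ⟨t, htT, h⟩
    · obtain ⟨y, hy, hyz⟩ := htr (x * z) (Or.inr rfl)
      exact hpush _ y hy hyz ⟨t, htT, h⟩
  obtain ⟨y, hy, hyz⟩ := htr x (Or.inl rfl)
  obtain ⟨tx, htxT, htx⟩ := hpull x y hy hyz hzpow
  obtain ⟨tz, htzT, htz⟩ := hzpow
  have hord : ∀ g ∈ T, g ^ (2 ^ (k - 1)) ≠ 1 → orderOf g = 2 ^ k := by
    intro g hg hne
    have h := orderOf_eq_prime_pow (p := 2) (n := k - 1) (x := g) hne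
      (by rw [Nat.sub_add_cancel hk1]; exact hk g hg)
    rwa [Nat.sub_add_cancel hk1] at h
  have oz := hord tz htzT (by rw [htz]; exact hz1)
  have ox := hord tx htxT (by rw [htx]; exact hx1)
  let ι : ↥(zpowers tz) × ↥(zpowers tx) →* ↥T :=
    { toFun := fun p => ⟨(p.1 : G) * p.2,
        mul_mem (zpowers_le.2 htzT p.1.2) (zpowers_le.2 htxT p.2.2)⟩
      map_one' := by simp
      map_mul' := fun p q => Subtype.ext (by
        have hc := hab _ (zpowers_le.2 htxT p.2.2) _ (zpowers_le.2 htzT q.1.2)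
        simp only [Prod.fst_mul, Prod.snd_mul, coe_mul, mul_assoc]
        rw [← mul_assoc (p.2 : G) q.1, hc, mul_assoc]) }
  have hinj : Function.Injective ι := by
    refine (injective_iff_map_eq_one ι).2 fun p hp => ?_
    have hp' : (p.1 : G) * p.2 = 1 := congrArg Subtype.val hp
    have hmem : (p.1 : G) ∈ zpowers tx := by
      rw [eq_inv_of_mul_eq_one_left hp']; exact inv_mem p.2.2
    have h1 : (p.1 : G) = 1 := by
      by_contra hne
      obtain ⟨c, hc⟩ := orderOf_two_pow hS (hTS (zpowers_le.2 htzT p.1.2))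
      rcases c with _ | c
      · exact hne (orderOf_eq_one_iff.1 hc)
      set v := (p.1 : G) ^ (2 ^ c) with hv
      have hv2 : v * v = 1 := by
        rw [hv, ← pow_add, ← two_mul, ← pow_succ', ← hc, pow_orderOf_eq_one]
      have hv1 : v ≠ 1 := fun h => by
        have := Nat.le_of_dvd (by positivity) (hc ▸ orderOf_dvd_of_pow_eq_one h)
        have h2 : 2 ^ c < 2 ^ (c + 1) := Nat.pow_lt_pow_right (by norm_num) (by omega)
        omega
      have e1 := involution_eq_of_zpowers oz (pow_mem p.1.2 _) (pow_mem (mem_zpowers tz) (2 ^ (k - 1)))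
        hv2 (hsq tz htzT) hv1 (by rw [htz]; exact hz1)
      have e2 := involution_eq_of_zpowers ox (pow_mem hmem _) (pow_mem (mem_zpowers tx) (2 ^ (k - 1)))
        hv2 (hsq tx htxT) hv1 (by rw [htx]; exact hx1)
      rw [htz] at e1
      rw [htx] at e2
      exact hzx (e1.symm.trans e2)
    refine Prod.ext (Subtype.ext h1) (Subtype.ext ?_)
    rw [h1, one_mul] at hp'
    exact hp'
  have hsurj : ∀ (j : ℕ), j ≤ k → ∀ g : G, ∀ hg : g ∈ T, g ^ (2 ^ j) = 1 → ∃ p, (ι p : G) = g := by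
    intro j
    induction j with
    | zero => intro _ g _ h; rw [pow_zero, pow_one] at h; exact ⟨1, by simp [h]⟩
    | succ j ih =>
      intro hj g hg hgj
      have hv2 : g ^ (2 ^ j) * g ^ (2 ^ j) = 1 := by rw [← pow_add, ← two_mul, ← pow_succ', hgj]
      have hfix : ∃ p : ↥(zpowers tz) × ↥(zpowers tx), (ι p : G) ^ (2 ^ j) = g ^ (2 ^ j) := by
        have hd : 2 ^ (k - 1 - j) * 2 ^ j = 2 ^ (k - 1) := by rw [← pow_add]; congr 1; omega
        rcases hinv _ (pow_mem hg _) hv2 with h | h | h | h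
        · exact ⟨1, by simp [h]⟩
        · refine ⟨(⟨tz ^ (2 ^ (k - 1 - j)), pow_mem (mem_zpowers tz) _⟩, 1), ?_⟩
          change (tz ^ (2 ^ (k - 1 - j)) * 1) ^ (2 ^ j) = _
          rw [mul_one, ← pow_mul, hd, htz, h]
        · refine ⟨(1, ⟨tx ^ (2 ^ (k - 1 - j)), pow_mem (mem_zpowers tx) _⟩), ?_⟩
          change (1 * tx ^ (2 ^ (k - 1 - j))) ^ (2 ^ j) = _
          rw [one_mul, ← pow_mul, hd, htx, h]
        · refine ⟨(⟨tz ^ (2 ^ (k - 1 - j)), pow_mem (mem_zpowers tz) _⟩,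
            ⟨tx ^ (2 ^ (k - 1 - j)), pow_mem (mem_zpowers tx) _⟩), ?_⟩
          change (tz ^ (2 ^ (k - 1 - j)) * tx ^ (2 ^ (k - 1 - j))) ^ (2 ^ j) = _
          have hc : Commute (tz ^ (2 ^ (k - 1 - j))) (tx ^ (2 ^ (k - 1 - j))) :=
            hab _ (pow_mem htzT _) _ (pow_mem htxT _)
          rw [hc.mul_pow, ← pow_mul, ← pow_mul, hd, htz, htx, h]
          exact hab z hz x hx
      obtain ⟨p, hp⟩ := hfix
      have hc : Commute g ((ι p : G))⁻¹ := (hab g hg _ (inv_mem (ι p).2))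
      obtain ⟨p', hp'⟩ := ih (by omega) (g * ((ι p : G))⁻¹) (mul_mem hg (inv_mem (ι p).2))
        (by rw [hc.mul_pow, inv_pow, hp, mul_inv_cancel])
      exact ⟨p' * p, by rw [map_mul, coe_mul, hp', inv_mul_cancel_right]⟩
  have e1 : ↥(zpowers tz) ≃* Multiplicative (ZMod (2 ^ k)) :=
    ((zmodCyclicMulEquiv (G := ↥(zpowers tz)) inferInstance).symm).trans
      (AddEquiv.toMultiplicative (ZMod.ringEquivCongr (by rw [Nat.card_zpowers, oz])).toAddEquiv)
  have e2 : ↥(zpowers tx) ≃* Multiplicative (ZMod (2 ^ k)) :=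
    ((zmodCyclicMulEquiv (G := ↥(zpowers tx)) inferInstance).symm).trans
      (AddEquiv.toMultiplicative (ZMod.ringEquivCongr (by rw [Nat.card_zpowers, ox])).toAddEquiv)
  have hbij : Function.Bijective ι := ⟨hinj, fun g => by
    obtain ⟨p, hp⟩ := hsurj k le_rfl g g.2 (hk g g.2)
    exact ⟨p, Subtype.ext hp⟩⟩
  exact ⟨k, tz, tx, hk1, htzT, htxT, oz, ox, hk, htz, htx,
    ⟨(MulEquiv.ofBijective ι hbij).symm.trans
      ((e1.prodCongr e2).trans (MulEquiv.prodMultiplicative _ _).symm)⟩⟩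

/-- A quotient of the data by a normal subgroup meeting `S` inside `⟨a⟩`. -/
theorem Meta.map {S : Sylow 2 G} {a s : G} (m : Meta (S : Subgroup G) a s) (N : Subgroup G)
    [N.Normal] (hN : a = 1 ∨ (N ⊓ (S : Subgroup G) ≤ zpowers a))
    (h : s ^ (2 : ℤ) ∉ zpowers a ∨ a = 1) :
    ∃ (S' : Sylow 2 (G ⧸ N)) (a' s' : G ⧸ N), Meta (S' : Subgroup (G ⧸ N)) a' s' ∧
      (s' ^ (2 : ℤ) ∉ zpowers a' ∨ a' = 1) := by
  set f := QuotientGroup.mk' N
  have hsurj : Function.Surjective f := QuotientGroup.mk'_surjective N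
  refine ⟨S.mapSurjective hsurj, f a, f s, ⟨(S.mapSurjective hsurj).2, ?_, ?_, ?_, ?_⟩, ?_⟩
  · exact mem_map_of_mem f m.ha
  · exact mem_map_of_mem f m.hs
  · rintro _ ⟨g, hg, rfl⟩
    obtain ⟨i, j, rfl⟩ := m.cover g hg
    exact ⟨i, j, by simp⟩
  · obtain ⟨r, hr⟩ := mem_zpowers_iff.1 m.conj
    exact mem_zpowers_iff.2 ⟨r, by rw [← map_zpow, hr]; simp⟩
  · rcases eq_or_ne a 1 with rfl | ha1
    · exact Or.inr (map_one f)
    refine Or.inl fun hmem => ?_
    obtain ⟨j, hj⟩ := mem_zpowers_iff.1 hmem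
    rw [← map_zpow, ← map_zpow] at hj
    have hd : (a ^ j)⁻¹ * s ^ (2 : ℤ) ∈ N := QuotientGroup.eq.1 hj
    have hdA : (a ^ j)⁻¹ * s ^ (2 : ℤ) ∈ zpowers a :=
      (hN.resolve_left ha1) (mem_inf.2 ⟨hd, mul_mem (inv_mem (zpow_mem m.ha j)) (zpow_mem m.hs 2)⟩)
    refine (h.resolve_right ha1) ?_
    rw [show s ^ (2 : ℤ) = a ^ j * ((a ^ j)⁻¹ * s ^ (2 : ℤ)) by group]
    exact mul_mem (zpow_mem (mem_zpowers a) j) hdA

/-- The configuration with a fused central involution. -/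
theorem solvable_of_fused {S : Sylow 2 G} {a s : G} (m : Meta (S : Subgroup G) a s)
    (h4 : s ^ (2 : ℤ) ∉ zpowers a) (hO : Cfsg.oddCore G = ⊥) {z : G} (hzA : z ∈ zpowers a)
    (hz : orderOf z = 2) (hzc : ∀ p ∈ (S : Subgroup G), p * z = z * p) {g : G}
    (hgS : g * z * g⁻¹ ∈ (S : Subgroup G)) (hgz : g * z * g⁻¹ ≠ z) : Group.IsSolvable G := by
  classical
  obtain ⟨x, hx⟩ : ∃ x, x = g * z * g⁻¹ := ⟨_, rfl⟩
  rw [← hx] at hgS hgz
  obtain ⟨n, hn⟩ := orderOf_two_pow m.isP m.ha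
  have hz2 : z * z = 1 := by rw [← pow_two, ← hz, pow_orderOf_eq_one]
  have hz1 : z ≠ 1 := fun h => by rw [h, orderOf_one] at hz; omega
  have hxo : orderOf x = 2 := by rw [hx, Invol.orderOf_conj, hz]
  have hx2 : x * x = 1 := by rw [← pow_two, ← hxo, pow_orderOf_eq_one]
  have hx1 : x ≠ 1 := fun h => by rw [h, orderOf_one] at hxo; omega
  have hAS : zpowers a ≤ (S : Subgroup G) := zpowers_le.2 m.ha
  have hzS : z ∈ (S : Subgroup G) := hAS hzA
  have huniq : ∀ v ∈ zpowers a, v * v = 1 → v = 1 ∨ v = z := fun v hv hv2 =>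
    or_iff_not_imp_left.2 fun hv1 => involution_eq_of_zpowers hn hv hzA hv2 hz2 hv1 hz1
  have hxA : x ∉ zpowers a := fun h => by
    rcases huniq x h hx2 with h' | h'
    · exact hx1 h'
    · exact hgz h'
  have hinv : ∀ v ∈ (S : Subgroup G), v * v = 1 → v = 1 ∨ v = z ∨ v = x ∨ v = x * z := by
    intro v hv hv2
    by_cases hvA : v ∈ zpowers a
    · rcases huniq v hvA hv2 with h | h
      · exact Or.inl h
      · exact Or.inr (Or.inl h)
    · obtain ⟨hm, hsq⟩ := m.mul_sq_eq_one h4 hgS hv hx2 hv2 hxA hvA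
      have hv' : v = x * (x * v) := by rw [← mul_assoc, hx2, one_mul]
      rcases huniq _ hm hsq with h | h
      · rw [h, mul_one] at hv'; exact Or.inr (Or.inr (Or.inl hv'))
      · rw [h] at hv'; exact Or.inr (Or.inr (Or.inr hv'))
  set T := (S : Subgroup G) ⊓ centralizer ({x} : Set G) with hT
  have hTS : T ≤ (S : Subgroup G) := inf_le_left
  have hTx : ∀ p ∈ T, p * x = x * p := fun p hp =>
    mem_centralizer_singleton_iff.1 hp.2
  have hzT : z ∈ T := ⟨hzS, mem_centralizer_singleton_iff.2 (hzc x hgS).symm⟩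
  have hxT : x ∈ T := ⟨hgS, mem_centralizer_singleton_iff.2 rfl⟩
  -- `x` is central in a Sylow subgroup containing `T`
  obtain ⟨y, hyz, hTy⟩ : ∃ y : G, y * z * y⁻¹ = x ∧ T ≤ MulAut.conj y • (S : Subgroup G) := by
    set C := centralizer ({x} : Set G) with hC
    have hR : MulAut.conj g • (S : Subgroup G) ≤ C := by
      intro p hp
      rw [Coprime.mem_conj_smul] at hp
      refine mem_centralizer_singleton_iff.2 ?_
      have := hzc _ hp
      rw [hx]
      calc p * (g * z * g⁻¹) = g * (g⁻¹ * p * g * z) * g⁻¹ := by group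
        _ = g * (z * (g⁻¹ * p * g)) * g⁻¹ := by rw [this]
        _ = g * z * g⁻¹ * p := by group
    obtain ⟨P, hP⟩ := ((S.2.to_le hTS).comap_subtype (K := C)).exists_le_sylow
    let R : Sylow 2 C := (g • S).subtype (show ((g • S : Sylow 2 G) : Subgroup G) ≤ C by
      rw [Sylow.coe_subgroup_smul]; exact hR)
    obtain ⟨c, hc⟩ := MulAction.exists_smul_eq C R P
    refine ⟨(c : G) * g, ?_, fun p hp => ?_⟩
    · have hcx : (c : G) * x = x * c := mem_centralizer_singleton_iff.1 c.2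
      calc (c : G) * g * z * ((c : G) * g)⁻¹ = (c : G) * (g * z * g⁻¹) * (c : G)⁻¹ := by group
        _ = x := by rw [← hx, hcx, mul_inv_cancel_right]
    · have hpP : (⟨p, hp.2⟩ : C) ∈ (P : Subgroup C) := hP hp
      rw [← hc, Sylow.coe_subgroup_smul, Subgroup.mem_pointwise_smul_iff_inv_smul_mem] at hpP
      change (((MulAut.conj c)⁻¹ (⟨p, hp.2⟩ : C)) : G) ∈
        ((g • S : Sylow 2 G) : Subgroup G) at hpP
      rw [Sylow.coe_subgroup_smul, Coprime.mem_conj_smul] at hpP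
      rw [Coprime.mem_conj_smul]
      have e : ((c : G) * g)⁻¹ * p * ((c : G) * g)
          = g⁻¹ * (((MulAut.conj c)⁻¹ (⟨p, hp.2⟩ : C)) : G) * g := by
        simp [mul_assoc]
      rw [e]
      exact hpP
  have hyu : y⁻¹ * z * y = x ∨ y⁻¹ * z * y = x * z := by
    have hu := Coprime.mem_conj_smul.1 (hTy hzT)
    have hu2 : y⁻¹ * z * y * (y⁻¹ * z * y) = 1 := by
      calc y⁻¹ * z * y * (y⁻¹ * z * y) = y⁻¹ * (z * z) * y := by group
        _ = 1 := by rw [hz2, mul_one, inv_mul_cancel]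
    rcases hinv _ hu hu2 with h | h | h
    · exfalso; apply hz1
      calc z = y * (y⁻¹ * z * y) * y⁻¹ := by group
        _ = 1 := by rw [h, mul_one, mul_inv_cancel]
    · exfalso; apply hgz
      calc x = y * z * y⁻¹ := hyz.symm
        _ = y * (y⁻¹ * z * y) * y⁻¹ := by rw [h]
        _ = z := by group
    · exact h
  have hyN : y ∈ normalizer (T : Set G) := by
    refine Coprime.mem_normalizer_of_conj_smul_eq (eq_of_le_of_card_ge ?_
      (Coprime.card_conj_smul y T).le).symm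
    intro p hp
    rw [Coprime.mem_conj_smul]
    refine ⟨Coprime.mem_conj_smul.1 (hTy hp), mem_centralizer_singleton_iff.2 ?_⟩
    have hpz : p * z = z * p := hzc p (hTS hp)
    have hpu : y⁻¹ * p * y * (y⁻¹ * z * y) = y⁻¹ * z * y * (y⁻¹ * p * y) := by
      calc y⁻¹ * p * y * (y⁻¹ * z * y) = y⁻¹ * (p * z) * y := by group
        _ = y⁻¹ * (z * p) * y := by rw [hpz]
        _ = _ := by group
    have hqz : y⁻¹ * p * y * z = z * (y⁻¹ * p * y) := hzc _ (Coprime.mem_conj_smul.1 (hTy hp))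
    rcases hyu with h | h <;> rw [h] at hpu
    · exact hpu
    · apply mul_right_cancel (b := z)
      rw [mul_assoc, hpu, mul_assoc x, ← hqz, ← mul_assoc]
  have hswap : ∀ p ∈ (S : Subgroup G), p ∉ T → p * x * p⁻¹ = x * z := by
    intro p hp hpT
    have hxz : p * z * p⁻¹ = z := by rw [hzc p hp, mul_inv_cancel_right]
    rcases hinv _ (mul_mem (mul_mem hp hgS) (inv_mem hp)) (by
      calc p * x * p⁻¹ * (p * x * p⁻¹) = p * (x * x) * p⁻¹ := by group
        _ = 1 := by rw [hx2, mul_one, mul_inv_cancel]) with h | h | h | h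
    · rw [mul_inv_eq_one, mul_eq_left] at h
      exact absurd h hx1
    · rw [← hxz] at h
      exact absurd (mul_left_cancel (mul_right_cancel h)) hgz
    · exact absurd ⟨hp, mem_centralizer_singleton_iff.2 (mul_inv_eq_iff_eq_mul.1 h)⟩ hpT
    · exact h
  -- `T` is abelian
  have hab : ∀ p ∈ T, ∀ q ∈ T, p * q = q * p := by
    intro p hp q hq
    by_contra hne
    have hcA : p * q * p⁻¹ * q⁻¹ ∈ zpowers a := m.comm_mem (hTS hp) (hTS hq)
    have hc1 : p * q * p⁻¹ * q⁻¹ ≠ 1 := fun h =>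
      hne (mul_inv_eq_iff_eq_mul.1 (mul_inv_eq_one.1 h))
    obtain ⟨c, hc⟩ := orderOf_two_pow m.isP (hAS hcA)
    rcases c with _ | c
    · exact hc1 (orderOf_eq_one_iff.1 hc)
    have hzc' : (p * q * p⁻¹ * q⁻¹) ^ (2 ^ c) = z := by
      rcases huniq _ (pow_mem hcA _)
        (by rw [← pow_add, ← two_mul, ← pow_succ', ← hc, pow_orderOf_eq_one]) with h | h
      · exfalso
        have := Nat.le_of_dvd (by positivity) (hc ▸ orderOf_dvd_of_pow_eq_one h)
        have h2 : 2 ^ c < 2 ^ (c + 1) := Nat.pow_lt_pow_right (by norm_num) (by omega)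
        omega
      · exact h
    refine hxA ?_
    have hTc : ∀ v ∈ T, y * v * y⁻¹ ∈ (S : Subgroup G) := fun v hv =>
      hTS ((mem_normalizer_iff.1 hyN v).1 hv)
    have : x = (y * p * y⁻¹ * (y * q * y⁻¹) * (y * p * y⁻¹)⁻¹ * (y * q * y⁻¹)⁻¹) ^ (2 ^ c) := by
      rw [← hyz, ← hzc', ← conj_pow]
      congr 1
      group
    rw [this]
    exact pow_mem (m.comm_mem (hTc p hp) (hTc q hq)) _
  have htr : ∀ v : G, (v = x ∨ v = x * z) → ∃ w ∈ normalizer (T : Set G), w * z * w⁻¹ = v := by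
    rintro v (rfl | rfl)
    · exact ⟨y, hyN, hyz⟩
    by_cases hST : (S : Subgroup G) ≤ T
    · have hTe : T = (S : Subgroup G) := le_antisymm hTS hST
      refine ⟨y * y, mul_mem hyN hyN, ?_⟩
      have hyx : y * x * y⁻¹ = x * z := by
        have hyxS : y * x * y⁻¹ ∈ (S : Subgroup G) := hTS ((mem_normalizer_iff.1 hyN x).1 hxT)
        rcases hinv _ hyxS (by
          calc y * x * y⁻¹ * (y * x * y⁻¹) = y * (x * x) * y⁻¹ := by group
            _ = 1 := by rw [hx2, mul_one, mul_inv_cancel]) with h | h | h | h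
        · rw [mul_inv_eq_one, mul_eq_left] at h
          exact absurd h hx1
        · exfalso
          obtain ⟨c, o, ho, he⟩ := Nat.exists_eq_pow_mul_and_not_dvd (orderOf_pos y).ne' 2 (by decide)
          have hwS : y ^ o ∈ (S : Subgroup G) := by
            have hwN : y ^ o ∈ normalizer ((S : Subgroup G) : Set G) :=
              pow_mem (by rw [← hTe]; exact hyN) o
            have hwp : IsPGroup 2 (zpowers (y ^ o)) := IsPGroup.of_card (n := c) (by
              rw [Nat.card_zpowers, orderOf_pow_of_dvd (by omega) ⟨2 ^ c, by rw [he]; ring⟩, he,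
                Nat.mul_div_cancel _ (by omega)])
            exact (S.3 (hwp.to_sup_of_normal_right' S.2 (zpowers_le.2 hwN)) le_sup_right) ▸
              mem_sup_left (mem_zpowers _)
          have hw : ∀ i : ℕ, y ^ (2 * i + 1) * z * (y ^ (2 * i + 1))⁻¹ = x := by
            intro i
            induction i with
            | zero => simpa using hyz
            | succ i ih =>
              calc y ^ (2 * (i + 1) + 1) * z * (y ^ (2 * (i + 1) + 1))⁻¹
                  = y * (y * (y ^ (2 * i + 1) * z * (y ^ (2 * i + 1))⁻¹) * y⁻¹) * y⁻¹ := by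
                    rw [show 2 * (i + 1) + 1 = (2 * i + 1) + 1 + 1 by ring, pow_succ', pow_succ']
                    group
                _ = x := by rw [ih, h, hyz]
          have := hw (o / 2)
          rw [show 2 * (o / 2) + 1 = o by omega, hzc _ hwS, mul_inv_cancel_right] at this
          exact hgz this.symm
        · exfalso
          have h' : y * x * y⁻¹ = y * z * y⁻¹ := h.trans hyz.symm
          exact hgz (mul_left_cancel (mul_right_cancel h'))
        · exact h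
      calc y * y * z * (y * y)⁻¹ = y * (y * z * y⁻¹) * y⁻¹ := by group
        _ = x * z := by rw [hyz, hyx]
    · obtain ⟨p, hp, hpT⟩ := SetLike.not_le_iff_exists.1 hST
      refine ⟨p * y, mul_mem ?_ hyN, ?_⟩
      · refine Coprime.mem_normalizer_of_conj_smul_eq (eq_of_le_of_card_ge ?_
          (Coprime.card_conj_smul p T).ge)
        intro q hq
        rw [Coprime.mem_conj_smul] at hq
        have hqS : q ∈ (S : Subgroup G) := by
          simpa [mul_assoc] using mul_mem (mul_mem hp (hTS hq)) (inv_mem hp)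
        refine ⟨hqS, mem_centralizer_singleton_iff.2 ?_⟩
        have h1 : p⁻¹ * q * p * x = x * (p⁻¹ * q * p) := hTx _ hq
        have h2 : q * (x * z) = x * z * q := by
          rw [← hswap p hp hpT]
          calc q * (p * x * p⁻¹) = p * (p⁻¹ * q * p * x) * p⁻¹ := by group
            _ = p * (x * (p⁻¹ * q * p)) * p⁻¹ := by rw [h1]
            _ = p * x * p⁻¹ * q := by group
        apply mul_right_cancel (b := z)
        rw [mul_assoc, h2, mul_assoc x z, ← hzc q hqS, ← mul_assoc]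
      · calc p * y * z * (p * y)⁻¹ = p * (y * z * y⁻¹) * p⁻¹ := by group
          _ = x * z := by rw [hyz, hswap p hp hpT]
  obtain ⟨k, tz, tx, hk1, htzT, htxT, -, -, hk, -, htx, ⟨e⟩⟩ := exists_homocyclic S.2 hTS hab hzT
    hxT hz2 hz1 hx1 (Ne.symm hgz) (fun v hv => hinv v (hTS hv)) htr
  by_cases hST : (S : Subgroup G) ≤ T
  · have hTe : T = (S : Subgroup G) := le_antisymm hTS hST
    have hk2 : 2 ≤ k := by
      by_contra hlt
      refine h4 ?_
      have := hk s (hST m.hs)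
      rw [show k = 1 by omega, pow_one] at this
      rw [show s ^ (2 : ℤ) = s ^ 2 from zpow_natCast s 2, this]
      exact one_mem _
    obtain ⟨hPn, -, hPi⟩ := BlockThms.HomocyclicBlock.brauer_homocyclic (Nat.card G) le_rfl S k hk2
      ((MulEquiv.subgroupCongr hTe.symm).trans e)
      fun N hN hodd => @Invol.eq_bot_of_odd G _ _ hO N hN (fun h => by have := Nat.odd_iff.1 hodd; omega)
    have := hPn
    have := S.2.isNilpotent
    refine isSolvable_ext (S : Subgroup G) inferInstance ?_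
    rw [Subgroup.index_eq_card] at hPi
    rcases hPi with h | h
    · have := (Nat.card_eq_one_iff_unique.1 h).1
      exact Group.isSolvable_of_comm fun p q => Subsingleton.elim _ _
    · have : Fact (Nat.Prime 3) := ⟨Nat.prime_three⟩
      have := isCyclic_of_prime_card h
      let := IsCyclic.commGroup (α := G ⧸ (S : Subgroup G))
      exact Group.isSolvable_of_comm fun p q => mul_comm p q
  -- a proper `T` is impossible
  exfalso
  have hk' : tx ^ (2 ^ k) = 1 := hk tx htxT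
  have hd : ∀ p ∈ (S : Subgroup G), p ∉ T → ∀ d, d = p * tx * p⁻¹ * tx⁻¹ →
      d ∈ zpowers a ∧ d ∈ T → p * p ∈ T → p * d * p⁻¹ = d⁻¹ ∧ d ^ (2 ^ (k - 1)) = z := by
    rintro p hp hpT d rfl ⟨-, hdT⟩ hppT
    have hc := hab _ hppT tx htxT
    have hq : p * tx * p⁻¹ ∈ T := by
      rw [show p * tx * p⁻¹ = p * tx * p⁻¹ * tx⁻¹ * tx by group]
      exact mul_mem hdT htxT
    refine ⟨?_, ?_⟩
    · calc p * (p * tx * p⁻¹ * tx⁻¹) * p⁻¹
          = p * p * tx * (p * p)⁻¹ * (p * tx * p⁻¹)⁻¹ := by group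
        _ = tx * (p * tx * p⁻¹)⁻¹ := by rw [hc, mul_inv_cancel_right]
        _ = _ := by group
    · rw [(show Commute (p * tx * p⁻¹) tx⁻¹ from hab _ hq _ (inv_mem htxT)).mul_pow, conj_pow,
        inv_pow, htx, hswap p hp hpT, mul_inv_eq_iff_eq_mul, ← hzc x hgS]
  have hsq : ∀ p ∈ (S : Subgroup G), p * p ∈ T := fun p hp => by
    refine ⟨mul_mem hp hp, mem_centralizer_singleton_iff.2 ?_⟩
    by_cases hpT : p ∈ T
    · exact hTx _ (mul_mem hpT hpT)
    · have h1 := hswap p hp hpT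
      have : p * p * x * (p * p)⁻¹ = x := by
        calc p * p * x * (p * p)⁻¹ = p * (p * x * p⁻¹) * p⁻¹ := by group
          _ = p * (x * z) * p⁻¹ := by rw [h1]
          _ = (p * x * p⁻¹) * (p * z * p⁻¹) := by group
          _ = x := by rw [h1, hzc p hp, mul_inv_cancel_right, mul_assoc, hz2, mul_one]
      exact mul_inv_eq_iff_eq_mul.1 this
  have hsT : ∀ p ∈ (S : Subgroup G), p ∉ T → p * tx * p⁻¹ * tx⁻¹ ∈ T := by
    intro p hp hpT
    have hpn : p * tx * p⁻¹ ∈ T := by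
      have hmem : p * tx * p⁻¹ ∈ (S : Subgroup G) := mul_mem (mul_mem hp (hTS htxT)) (inv_mem hp)
      refine ⟨hmem, mem_centralizer_singleton_iff.2 ?_⟩
      have h1 := hswap p hp hpT
      have h2 : p * tx * p⁻¹ * (x * z) = x * z * (p * tx * p⁻¹) := by
        rw [← h1]
        calc p * tx * p⁻¹ * (p * x * p⁻¹) = p * (tx * x) * p⁻¹ := by group
          _ = p * (x * tx) * p⁻¹ := by rw [hTx tx htxT]
          _ = _ := by group
      apply mul_right_cancel (b := z)
      rw [mul_assoc, h2, mul_assoc x z, ← hzc _ hmem, ← mul_assoc]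
    exact mul_mem hpn (inv_mem htxT)
  have haT : a ∈ T := by
    by_contra haT
    obtain ⟨h1, h2⟩ := hd a m.ha haT _ rfl ⟨m.comm_mem m.ha (hTS htxT), hsT a m.ha haT⟩ (hsq a m.ha)
    obtain ⟨j, hj⟩ := mem_zpowers_iff.1 (m.comm_mem m.ha (hTS htxT))
    have hcomm : a * (a * tx * a⁻¹ * tx⁻¹) * a⁻¹ = a * tx * a⁻¹ * tx⁻¹ := by
      rw [← hj, ← conj_zpow, mul_inv_cancel_right]
    have hd2 : (a * tx * a⁻¹ * tx⁻¹) ^ 2 = 1 := by
      rw [pow_two]
      nth_rewrite 1 [← hcomm]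
      rw [h1, inv_mul_cancel]
    have hk1' : k = 1 := by
      by_contra hne
      apply hz1
      rw [← h2, show k - 1 = (k - 2) + 1 by omega, pow_succ', pow_mul, hd2, one_pow]
    subst hk1'
    by_cases hsT' : s ∈ T
    · refine h4 ?_
      have := hk s hsT'
      rw [pow_one] at this
      rw [show s ^ (2 : ℤ) = s ^ 2 from zpow_natCast s 2, this]
      exact one_mem _
    · have hs2 : s * s ∈ T := hsq s m.hs
      have hv2 : s * s * (s * s) = 1 := by
        have := hk _ hs2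
        rwa [pow_one, pow_two] at this
      have hcx : s * x = x * s := by
        rcases hinv _ (hTS hs2) hv2 with h | h | h | h
        · exact absurd (by rw [zpow_two, h]; exact one_mem _) h4
        · exact absurd (by rw [zpow_two, h]; exact hzA) h4
        · rw [← h, mul_assoc]
        · apply mul_right_cancel (b := z)
          rw [mul_assoc, mul_assoc x s, hzc s m.hs, ← mul_assoc x, ← h, mul_assoc]
      exact hsT' ⟨m.hs, mem_centralizer_singleton_iff.2 hcx⟩
  have hsT' : s ∉ T := fun h => hST fun p hp => by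
    obtain ⟨i, j, rfl⟩ := m.cover p hp
    exact mul_mem (zpow_mem h i) (zpow_mem haT j)
  set d := s * tx * s⁻¹ * tx⁻¹ with hddef
  have hdA : d ∈ zpowers a := m.comm_mem m.hs (hTS htxT)
  obtain ⟨h1, h2⟩ := hd s m.hs hsT' d rfl ⟨hdA, hsT s m.hs hsT'⟩ (hsq s m.hs)
  have hoa : zpowers d = zpowers a := by
    refine eq_of_le_of_card_ge (zpowers_le.2 hdA) ?_
    rw [Nat.card_zpowers, Nat.card_zpowers,
      show orderOf d = 2 ^ (k - 1 + 1) from orderOf_eq_prime_pow (p := 2) (by rw [h2]; exact hz1)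
        (by rw [Nat.sub_add_cancel hk1]; exact hk d (hsT s m.hs hsT')), Nat.sub_add_cancel hk1]
    exact Nat.le_of_dvd (by positivity) (orderOf_dvd_of_pow_eq_one (hk a haT))
  obtain ⟨i, j, hij⟩ := m.cover tx (hTS htxT)
  obtain ⟨l, hl⟩ := mem_zpowers_iff.1 (hoa ▸ zpow_mem (mem_zpowers a) j : a ^ j ∈ zpowers d)
  have hdl : d = (d ^ (2 * l))⁻¹ := by
    calc d = s * (s ^ i * a ^ j) * s⁻¹ * (s ^ i * a ^ j)⁻¹ := by rw [← hij]
      _ = s ^ i * (s * a ^ j * s⁻¹ * (a ^ j)⁻¹) * (s ^ i)⁻¹ := by group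
      _ = (s * a ^ j * s⁻¹ * (a ^ j)⁻¹) := by
        have hcs : ∀ u ∈ zpowers a, s ^ i * u * (s ^ i)⁻¹ = u := fun u hu => by
          have hsi : s ^ i ∈ T := by
            rw [show s ^ i = tx * (a ^ j)⁻¹ by rw [hij]; group]
            exact mul_mem htxT (inv_mem (zpow_mem haT j))
          rw [hab _ hsi u (zpowers_le.2 haT hu), mul_inv_cancel_right]
        exact hcs _ (mul_mem (m.conj_mem m.hs (zpow_mem (mem_zpowers a) j))
          (inv_mem (zpow_mem (mem_zpowers a) j)))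
      _ = (d ^ (2 * l))⁻¹ := by rw [← hl, ← conj_zpow, h1]; group
  have hodd : d ^ (2 * l + 1) = 1 := by
    rw [zpow_add, zpow_one]
    nth_rewrite 2 [hdl]
    rw [mul_inv_cancel]
  obtain ⟨c, hc⟩ := orderOf_two_pow m.isP (hAS hdA)
  have := mem_of_odd_zpow (A := ⊥) hc ⟨l, rfl⟩ (mem_bot.2 hodd)
  rw [mem_bot] at this
  rw [this, one_pow] at h2
  exact hz1 h2.symm

/-- Groups with such a Sylow `2`-subgroup are solvable. -/
theorem solvable_of_meta (hFT : OddSolvable.{u}) :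
    ∀ (n : ℕ) (G : Type u) [Group G] [Finite G], Nat.card G = n → ∀ (S : Sylow 2 G) (a s : G),
      Meta (S : Subgroup G) a s → (s ^ (2 : ℤ) ∉ zpowers a ∨ a = 1) → Group.IsSolvable G := by
  intro n
  induction n using Nat.strong_induction_on with
  | _ n ih =>
    intro G _ _ hn S a s m h
    rcases Nat.even_or_odd (Nat.card G) with he | ho
    swap
    · exact hFT G ho
    have hquot : ∀ (N : Subgroup G) [N.Normal], N ≠ ⊥ → Group.IsSolvable N →
        (a = 1 ∨ N ⊓ (S : Subgroup G) ≤ zpowers a) → Group.IsSolvable G := by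
      intro N _ hne hsol hN
      obtain ⟨S', a', s', m', h'⟩ := m.map N hN h
      refine isSolvable_ext N hsol (ih (Nat.card (G ⧸ N)) ?_ _ rfl S' a' s' m' h')
      rw [← hn, ← Subgroup.index_eq_card, ← N.index_mul_card]
      exact lt_mul_of_one_lt_right (Nat.pos_of_ne_zero Subgroup.index_ne_zero_of_finite)
        (N.one_lt_card_iff_ne_bot.2 hne)
    by_cases hO : Cfsg.oddCore G = ⊥
    swap
    · refine hquot _ hO (hFT _ ?_) (Or.inr ?_)
      · have := Core.not_dvd_card_pPrimeCore (p := 2) (G := G)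
        change Odd (Nat.card (Cfsg.pPrimeCore 2 G))
        exact Nat.odd_iff.2 (by omega)
      · intro v hv
        obtain ⟨c, hc⟩ := orderOf_two_pow m.isP hv.2
        have hd : orderOf v ∣ Nat.card (Cfsg.pPrimeCore 2 G) := by
          rw [← Subgroup.orderOf_mk v hv.1]; exact orderOf_dvd_natCard _
        rcases c with _ | c
        · rw [orderOf_eq_one_iff.1 hc]; exact one_mem _
        · exact absurd ((dvd_pow_self 2 (Nat.succ_ne_zero c)).trans (hc ▸ hd))
            (Core.not_dvd_card_pPrimeCore (p := 2) (G := G))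
    -- an isolated involution of `S` is central
    have hstep : ∀ z ∈ (S : Subgroup G), orderOf z = 2 → (a = 1 ∨ z ∈ zpowers a) →
        (∀ g : G, g * z * g⁻¹ ∈ (S : Subgroup G) → g * z * g⁻¹ = z) → Group.IsSolvable G := by
      intro z _ hz hza hiso
      have hc : z ∈ center G := mem_center_iff.2 fun g => by
        have h := Invol.zstar (Invol.isolated_of_sylow S hz hiso) g
        rw [hO, mem_bot, mul_inv_eq_one, mul_inv_eq_iff_eq_mul] at h
        exact h.symm
      have : (zpowers z).Normal := ⟨fun v hv g => by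
        have hvc : v ∈ center G := zpowers_le.2 hc hv
        rw [mem_center_iff.1 hvc g, mul_inv_cancel_right]
        exact hv⟩
      refine hquot (zpowers z) (fun h => ?_) (Group.isSolvable_of_comm fun p q => Subtype.ext (by
          obtain ⟨i, hi⟩ := mem_zpowers_iff.1 p.2
          obtain ⟨j, hj⟩ := mem_zpowers_iff.1 q.2
          simp only [coe_mul, ← hi, ← hj, ((Commute.refl z).zpow_zpow i j).eq]))
        (hza.imp id fun hzA => inf_le_left.trans (zpowers_le.2 hzA))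
      rw [zpowers_eq_bot] at h
      rw [h, orderOf_one] at hz
      omega
    obtain ⟨k, hk⟩ := orderOf_two_pow m.isP m.ha
    have hS1 : (S : Subgroup G) ≠ ⊥ := S.ne_bot_of_dvd_card he.two_dvd
    obtain ⟨z₀, hz₀S, hz₀, -⟩ := exists_central_involution (S : Subgroup G) S.2 hS1
    have sq_one : ∀ v : G, orderOf v = 2 → v * v = 1 ∧ v ≠ 1 := fun v hv =>
      ⟨by rw [← pow_two, ← hv, pow_orderOf_eq_one], fun h => by rw [h, orderOf_one] at hv; omega⟩
    rcases eq_or_ne a 1 with ha1 | ha1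
    · refine hstep z₀ hz₀S hz₀ (Or.inl ha1) fun g hg => ?_
      obtain ⟨c, hc⟩ := orderOf_two_pow m.isP m.hs
      have hcyc : ∀ v ∈ (S : Subgroup G), v ∈ zpowers s := fun v hv => by
        obtain ⟨i, j, rfl⟩ := m.cover v hv
        rw [ha1, one_zpow, mul_one]
        exact zpow_mem (mem_zpowers s) i
      have hg2 := sq_one _ ((Invol.orderOf_conj g z₀).trans hz₀)
      exact involution_eq_of_zpowers hc (hcyc _ hg) (hcyc _ hz₀S) hg2.1 (sq_one z₀ hz₀).1 hg2.2
        (sq_one z₀ hz₀).2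
    · have h4 := h.resolve_right ha1
      obtain ⟨z, hzA, hz, -⟩ := exists_central_involution (zpowers a)
        (m.isP.to_le (zpowers_le.2 m.ha)) (by rwa [Ne, zpowers_eq_bot])
      obtain ⟨hz2, hz1⟩ := sq_one z hz
      have hzc : ∀ p ∈ (S : Subgroup G), p * z = z * p := fun p hp => by
        obtain ⟨hp2, hp1⟩ := sq_one _ ((Invol.orderOf_conj p z).trans hz)
        exact mul_inv_eq_iff_eq_mul.1
          (involution_eq_of_zpowers hk (m.conj_mem hp hzA) hzA hp2 hz2 hp1 hz1)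
      have hzS : z ∈ (S : Subgroup G) := zpowers_le.2 m.ha hzA
      by_cases hiso : ∀ g : G, g * z * g⁻¹ ∈ (S : Subgroup G) → g * z * g⁻¹ = z
      · exact hstep z hzS hz (Or.inr hzA) hiso
      · push Not at hiso
        obtain ⟨g, hgS, hgz⟩ := hiso
        exact solvable_of_fused m h4 hO hzA hz hzc hgS hgz

/-- The form with a cyclic normal subgroup of the Sylow subgroup and cyclic quotient. -/
theorem solvable_of_sylow (hFT : OddSolvable.{u}) (S : Sylow 2 G)
    (N : Subgroup ↥(S : Subgroup G)) [N.Normal] (hNc : IsCyclic N)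
    (hQc : IsCyclic (↥(S : Subgroup G) ⧸ N)) (hQ : 2 < Nat.card (↥(S : Subgroup G) ⧸ N)) :
    Group.IsSolvable G := by
  obtain ⟨a, ha⟩ := hNc.exists_zpow_surjective
  obtain ⟨q, hq⟩ := hQc.exists_zpow_surjective
  obtain ⟨s, rfl⟩ := QuotientGroup.mk_surjective q
  have hN : ∀ v : ↥(S : Subgroup G), v ∈ N ↔ ((v : G) ∈ zpowers ((a : ↥(S : Subgroup G)) : G)) := by
    intro v
    rw [mem_zpowers_iff]
    constructor
    · intro hv
      obtain ⟨j, hj⟩ := ha ⟨v, hv⟩
      refine ⟨j, ?_⟩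
      have := congrArg (fun u : N => ((u : ↥(S : Subgroup G)) : G)) hj
      simpa using this
    · rintro ⟨j, hj⟩
      rw [show v = (a : ↥(S : Subgroup G)) ^ j from Subtype.ext (by rw [SubgroupClass.coe_zpow, hj])]
      exact zpow_mem a.2 j
  refine solvable_of_meta hFT (Nat.card G) G rfl S ((a : ↥(S : Subgroup G)) : G) (s : G)
    ⟨S.2, (a : ↥(S : Subgroup G)).2, s.2, fun g hg => ?_, ?_⟩ (Or.inl fun h => ?_)
  · obtain ⟨i, hi⟩ := hq ((⟨g, hg⟩ : ↥(S : Subgroup G)) : _ ⧸ N)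
    have hi' : ((s ^ i : ↥(S : Subgroup G)) : ↥(S : Subgroup G) ⧸ N) = ↑(⟨g, hg⟩ : ↥(S : Subgroup G)) := by
      rw [QuotientGroup.mk_zpow]; exact hi
    obtain ⟨j, hj⟩ := mem_zpowers_iff.1 ((hN _).1 (QuotientGroup.eq.1 hi'))
    refine ⟨i, j, ?_⟩
    rw [hj]
    simp
  · exact (hN (s * a * s⁻¹)).1 (Normal.conj_mem inferInstance _ a.2 s)
  · have h2 : (s : ↥(S : Subgroup G) ⧸ N) ^ (2 : ℤ) = 1 := by
      rw [← QuotientGroup.mk_zpow, QuotientGroup.eq_one_iff, hN]
      exact h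
    have hle : Nat.card (↥(S : Subgroup G) ⧸ N) ≤ 2 := by
      rw [← orderOf_eq_card_of_forall_mem_zpowers (fun x => mem_zpowers_iff.2 (hq x))]
      exact Nat.le_of_dvd (by norm_num) (by exact_mod_cast orderOf_dvd_iff_zpow_eq_one.2 h2)
    omega

end Cfsg.Agent.FTCons
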