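import Cfsg.Agent.FTCons.AutFix
import Cfsg.Prelude.Def_KGroupFacts

/-!
Solvability of the outer automorphism group from the automorphisms of a Sylow `2`-subgroup.
-/

set_option autoImplicit false

open Subgroup
open scoped Pointwise

namespace Cfsg.Agent.FTCons

universe u

variable {G : Type u} [Group G]

/-- The automorphisms leaving a subgroup invariant. -/
def autStab (S : Subgroup G) : Subgroup (MulAut G) where
  carrier := {α | ∀ x : G, α x ∈ S ↔ x ∈ S}
  one_mem' := fun _ => Iff.rfl
  mul_mem' := fun {α β} ha hb x => (ha (β x)).trans (hb x)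
  inv_mem' := fun {α} ha x => by
    have h := ha (α⁻¹ x)
    rw [← MulAut.mul_apply, mul_inv_cancel, MulAut.one_apply] at h
    exact h.symm

/-- Restriction of an invariant automorphism to the subgroup. -/
def autRes (S : Subgroup G) : ↥(autStab S) →* MulAut ↥S where
  toFun α :=
    { toFun := fun x => ⟨(α : MulAut G) x, (α.2 x).2 x.2⟩
      invFun := fun x => ⟨((α⁻¹ : ↥(autStab S)) : MulAut G) x, ((α⁻¹).2 x).2 x.2⟩
      left_inv := fun x => Subtype.ext (by simp)
      right_inv := fun x => Subtype.ext (by simp)
      map_mul' := fun x y => Subtype.ext (map_mul (α : MulAut G) _ _) }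
  map_one' := rfl
  map_mul' _ _ := rfl

theorem autRes_apply (S : Subgroup G) (α : ↥(autStab S)) (x : ↥S) :
    ((autRes S α x : ↥S) : G) = (α : MulAut G) x := rfl

variable [Finite G]

/-- If the automorphisms induced on a Sylow `2`-subgroup form a solvable group, then so does the
outer automorphism group, for a simple group of even order. -/
theorem out_solvable_of_range (hFT : OddSolvable.{u}) [IsSimpleGroup G] (S : Sylow 2 G)
    (heven : Even (Nat.card G))
    (hY : Group.IsSolvable ↥(autRes (S : Subgroup G)).range) :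
    Group.IsSolvable (Cfsg.Out G) := by
  classical
  have : Finite (MulAut G) :=
    Finite.of_injective (fun e : MulAut G => (e : G → G)) DFunLike.coe_injective
  have hO : ∀ N : Subgroup G, N.Normal → Odd (Nat.card N) → N = ⊥ := by
    intro N hN hodd
    rcases IsSimpleGroup.eq_bot_or_eq_top_of_normal N hN with h | h
    · exact h
    · rw [h, card_top] at hodd
      exact absurd heven (Nat.not_even_iff_odd.mpr hodd)
  -- the automorphisms fixing `S` pointwise
  let C : Subgroup (MulAut G) :=
    { carrier := {φ | ∀ s : G, s ∈ S → φ s = s}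
      one_mem' := fun _ _ => rfl
      mul_mem' := fun {a b} ha hb s hs => by rw [MulAut.mul_apply, hb s hs, ha s hs]
      inv_mem' := fun {a} ha s hs => by
        conv_lhs => rw [← ha s hs, ← MulAut.mul_apply, inv_mul_cancel, MulAut.one_apply] }
  have hC : Group.IsSolvable ↥C := (fix_sylow_structure hFT hO S C fun _ => Iff.rfl).2
  have hker : Group.IsSolvable ↥(autRes (S : Subgroup G)).ker := by
    let f : ↥(autRes (S : Subgroup G)).ker →* ↥C :=
      ((autStab (S : Subgroup G)).subtype.comp (autRes (S : Subgroup G)).ker.subtype).codRestrict C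
        (fun α s hs => by
          have h := congrArg (fun e : MulAut ↥(S : Subgroup G) => ((e ⟨s, hs⟩ : ↥(S : Subgroup G)) : G))
            (MonoidHom.mem_ker.1 α.2)
          simpa [autRes_apply] using h)
    refine Group.isSolvable_of_isSolvable_injective (f := f) fun a b h => Subtype.ext (Subtype.ext ?_)
    exact congrArg (fun c : ↥C => (c : MulAut G)) h
  have hstab : Group.IsSolvable ↥(autStab (S : Subgroup G)) :=
    Group.isSolvable_of_ker_le_range (autRes (S : Subgroup G)).ker.subtype
      (autRes (S : Subgroup G)).rangeRestrict (by rw [MonoidHom.ker_rangeRestrict, range_subtype])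
  show Group.IsSolvable (MulAut G ⧸ Cfsg.Inn G)
  refine Group.isSolvable_of_surjective
    (f := (QuotientGroup.mk' _).comp (autStab (S : Subgroup G)).subtype) fun q => ?_
  obtain ⟨α, rfl⟩ := QuotientGroup.mk'_surjective _ q
  -- Frattini argument
  have hp : IsPGroup 2 ↥((S : Subgroup G).map (α : MulAut G).toMonoidHom) := S.2.map _
  obtain ⟨T, hT⟩ := hp.exists_le_sylow
  have hTe : (T : Subgroup G) = (S : Subgroup G).map (α : MulAut G).toMonoidHom := by
    refine (eq_of_le_of_card_ge hT ?_).symm
    rw [card_map_of_injective (α : MulAut G).injective, T.card_eq_multiplicity, S.card_eq_multiplicity]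
  obtain ⟨g, hg⟩ := MulAction.exists_smul_eq G S T
  have hmap : (S : Subgroup G).map (MulAut.conj g).toMonoidHom
      = (S : Subgroup G).map (α : MulAut G).toMonoidHom := by
    rw [← hTe, ← hg, Sylow.coe_subgroup_smul, Subgroup.pointwise_smul_def]
    rfl
  refine ⟨⟨(MulAut.conj g)⁻¹ * α, fun x => ?_⟩, ?_⟩
  · rw [MulAut.mul_apply]
    have h1 : α x ∈ (S : Subgroup G).map (α : MulAut G).toMonoidHom ↔ x ∈ (S : Subgroup G) :=
      mem_map_iff_mem (f := (α : MulAut G).toMonoidHom) α.injective
    have h2 : (MulAut.conj g) ((MulAut.conj g)⁻¹ (α x)) ∈ (S : Subgroup G).map (MulAut.conj g).toMonoidHom ↔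
        (MulAut.conj g)⁻¹ (α x) ∈ (S : Subgroup G) :=
      mem_map_iff_mem (f := (MulAut.conj g).toMonoidHom) (MulAut.conj g).injective
    rw [← MulAut.mul_apply, mul_inv_cancel, MulAut.one_apply, hmap] at h2
    exact h2.symm.trans h1
  · change (QuotientGroup.mk' _) ((MulAut.conj g)⁻¹ * α) = (QuotientGroup.mk' _) α
    rw [map_mul, map_inv]
    refine mul_eq_right.mpr (inv_eq_one.mpr ?_)
    exact (QuotientGroup.eq_one_iff _).mpr ⟨g, rfl⟩

/-- A simple group with a nontrivial Sylow `2`-subgroup whose automorphism group is solvable has a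
solvable outer automorphism group. -/
theorem out_solvable_of_aut (hFT : OddSolvable.{u}) [IsSimpleGroup G] (S : Sylow 2 G)
    (hS1 : (S : Subgroup G) ≠ ⊥) (hS : Group.IsSolvable (MulAut ↥S)) :
    Group.IsSolvable (Cfsg.Out G) := by
  have h2 : 2 ∣ Nat.card G := by
    by_contra h
    refine hS1 ((card_eq_one).mp ?_)
    rw [S.card_eq_multiplicity, Nat.factorization_eq_zero_of_not_dvd h, pow_zero]
  exact out_solvable_of_range hFT S (even_iff_two_dvd.mpr h2)
    (Group.isSolvable_of_isSolvable_injective (f := (autRes (S : Subgroup G)).range.subtype)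
      (autRes (S : Subgroup G)).range.subtype_injective)

end Cfsg.Agent.FTCons
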