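import Cfsg.Agent.FTCons.Basic
import Cfsg.Agent.BlockChar.PrimClass.Chief

/-!
The degree of a primitive character of a group of odd order and its class sizes.
-/

set_option autoImplicit false

namespace Cfsg.Agent.FTCons

universe u

theorem exists_class_of_primitive {G : Type u} [Group G] [Fintype G] (hFT : OddSolvable.{u})
    (hodd : Odd (Nat.card G)) (χ : Cfsg.IrrCharacter G)
    (hprim : ¬ ∃ (H : Subgroup G), H ≠ ⊤ ∧ ∃ θ : ↥H → ℂ, Cfsg.IsCharacter ↥H θ ∧
      Cfsg.indFun H θ = (χ : G → ℂ)) (p : ℕ) [Fact p.Prime] :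
    ∃ g : G, (Cfsg.charDegree (χ : G → ℂ)).factorization p
      ≤ ((Subgroup.centralizer ({g} : Set G)).index).factorization p :=
  have : Group.IsSolvable G := hFT G hodd
  PrimClass.exists_factorization_le_index χ.2 (PrimClass.qp_of_primitive χ.2 hprim) p

end Cfsg.Agent.FTCons
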