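import Cfsg.Agent.FTCons.Basic
import Cfsg.Agent.RankOne.Central
import Cfsg.Agent.S1160
import Cfsg.Agent.S1127
import Cfsg.Agent.Core.Fitting

/-!
In the rank-one set-up with 2-rank at least 2, given the solvability of groups of odd order: the
elements of the two-point stabiliser inverted by `t` form a cyclic group regular on the involutions
fixing `a`; consequences.
-/

set_option autoImplicit false
set_option linter.style.haveILetI false

open Subgroup MulAction

namespace Cfsg.Agent.FTCons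

open Cfsg.Agent.RankOne

universe u v

variable {G : Type u} {Ω : Type v} [Group G] [MulAction G Ω] {a : Ω} {t : G} {Q : Subgroup G}

/-- Centralising all involutions of `G_a` is centralising `t` and all inverted elements. -/
theorem cent_invol_iff [Finite G] (hS : Cfsg.IsRankOneSetup G Ω a t Q) {d : G}
    (hd : d ∈ twoPt G a t) :
    (∀ s ∈ Cfsg.involutionsIn (stabilizer G a : Set G), Commute d s) ↔
      (Commute t d ∧ ∀ c ∈ Cfsg.invertedBy (twoPt G a t) t, Commute c d) := by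
  have h := SetLike.ext_iff.1 (S1127.result hS).2 d
  simp only [mem_inf, mem_centralizer_iff] at h
  constructor
  · intro hc
    obtain ⟨⟨-, h1⟩, h2⟩ := h.2 ⟨hd, fun s hs => (hc s hs).eq.symm⟩
    exact ⟨h1 t rfl, fun c hc' => h2 c hc'⟩
  · intro hc s hs
    refine ((h.1 ⟨⟨hd, ?_⟩, fun c hc' => (hc.2 c hc').eq⟩).2 s hs).symm
    rintro _ rfl
    exact hc.1.eq

/-- `C_D(t) = C_D(s)` for the distinguished involution `s`. -/
theorem cent_link [Finite G] (hS : Cfsg.IsRankOneSetup G Ω a t Q) {s r : G}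
    (hs : s ∈ Cfsg.involutionsIn (stabilizer G a : Set G)) (hr : r ∈ Q)
    (he : t * s * t = r⁻¹ * t * r) {d : G} (hd : d ∈ twoPt G a t) (hdt : Commute d t) :
    Commute d s := by
  have h := SetLike.ext_iff.1 ((S1127.result hS).1 s r hs hr he) d
  simp only [mem_inf, mem_centralizer_singleton_iff] at h
  exact (h.1 ⟨hd, hdt.eq⟩).2

/-- A finite field has cyclic automorphism group. -/
theorem isCyclic_ringAut (F : Type*) [Field F] [Finite F] : IsCyclic (F ≃+* F) := by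
  obtain ⟨p, hp⟩ := CharP.exists F
  haveI : Fact p.Prime := ⟨(CharP.char_is_prime_or_zero F p).resolve_right
    (CharP.char_ne_zero_of_finite F p)⟩
  letI : Algebra (ZMod p) F := ZMod.algebra F p
  let e : Gal(F/ZMod p) →* (F ≃+* F) :=
    { toFun := fun σ => σ.toRingEquiv
      map_one' := rfl
      map_mul' := fun _ _ => rfl }
  refine isCyclic_of_surjective e fun σ => ⟨AlgEquiv.ofRingEquiv (f := σ) (fun c => ?_),
    RingEquiv.ext fun _ => rfl⟩
  exact RingHom.congr_fun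
    (RingHom.ext_zmod ((σ : F →+* F).comp (algebraMap (ZMod p) F)) (algebraMap (ZMod p) F)) c

/-- The inverted elements form a cyclic group, freely permuting the involutions fixing `a`. -/
theorem exists_generator (hFT : OddSolvable.{u}) [Finite G]
    (hS : Cfsg.IsRankOneSetup G Ω a t Q)
    (h2 : ∃ x y : G, x ≠ 1 ∧ y ≠ 1 ∧ x ≠ y ∧ x * x = 1 ∧ y * y = 1 ∧ x * y = y * x) :
    ∃ k0 : G, ((zpowers k0 : Subgroup G) : Set G) = Cfsg.invertedBy (twoPt G a t) t ∧
      (∀ d ∈ twoPt G a t, ∀ c ∈ zpowers k0, d * c * d⁻¹ ∈ zpowers k0) ∧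
      (∀ c ∈ zpowers k0, ∀ s ∈ Cfsg.involutionsIn (stabilizer G a : Set G),
        Commute c s → c = 1) := by
  classical
  haveI : Fact (Nat.Prime 2) := ⟨Nat.prime_two⟩
  set D := twoPt G a t with hDdef
  set I := Cfsg.involutionsIn (stabilizer G a : Set G) with hI
  set K := Cfsg.invertedBy D t with hK
  have htt := hS.mul_self
  have hti : t⁻¹ = t := inv_eq_self_of_invol htt
  have hDodd : Odd (Nat.card ↥D) := hS.odd_card
  have hcentral : ∀ s ∈ I, ∀ x ∈ Q, s * x = x * s := fun s hs x hx => invol_central hS h2 hs hx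
  -- free action of the inverted elements
  have hfree : ∀ c ∈ K, ∀ s ∈ I, Commute c s → c = 1 := by
    intro c hc s hs hcs
    by_contra hc1
    have h : s ∈ Q ⊓ centralizer ({c} : Set G) :=
      mem_inf.2 ⟨mem_I_Q hS hs, mem_centralizer_singleton_iff.2 hcs.eq.symm⟩
    rw [inf_centralizer_inverted hS hc hc1, mem_bot] at h
    exact hs.2.1 h
  -- the elementary abelian group `Z` of involutions fixing `a`
  let Z : Subgroup G :=
    { carrier := {x | x ∈ stabilizer G a ∧ x * x = 1}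
      one_mem' := ⟨one_mem _, one_mul _⟩
      inv_mem' := fun {x} hx => ⟨inv_mem hx.1, by rw [← mul_inv_rev, hx.2, inv_one]⟩
      mul_mem' := fun {x y} hx hy => by
        refine ⟨mul_mem hx.1 hy.1, ?_⟩
        by_cases hx1 : x = 1
        · subst hx1; simpa using hy.2
        by_cases hy1 : y = 1
        · subst hy1; simpa using hx.2
        have hc := hcentral x ⟨hx.1, hx1, hx.2⟩ y (mem_I_Q hS ⟨hy.1, hy1, hy.2⟩)
        rw [mul_assoc, ← mul_assoc y, ← hc, mul_assoc, hy.2, mul_one, hx.2] }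
  have hZmem : ∀ x : G, x ∈ Z ↔ x ∈ stabilizer G a ∧ x * x = 1 := fun _ => Iff.rfl
  have hZI : ∀ x : G, x ∈ Z → x ≠ 1 → x ∈ I := fun x hx h1 => ⟨hx.1, h1, hx.2⟩
  have hZcomm : ∀ x ∈ Z, ∀ y ∈ Z, x * y = y * x := by
    intro x hx y hy
    by_cases hx1 : x = 1
    · subst hx1; simp
    by_cases hy1 : y = 1
    · subst hy1; simp
    exact hcentral x (hZI x hx hx1) y (mem_I_Q hS (hZI y hy hy1))
  obtain ⟨⟨s0, r0⟩, ⟨hs0, hr0, e0⟩, -⟩ :=
    link_exists_right hS (one_mem_invertedBy (X := D) htt)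
  change s0 ∈ I at hs0
  change r0 ∈ Q at hr0
  simp only [one_mul] at e0
  haveI : IsMulCommutative ↥Z := ⟨⟨fun x y => Subtype.ext (hZcomm _ x.2 _ y.2)⟩⟩
  have hconjZ : ∀ d ∈ D, ∀ x ∈ Z, d * x * d⁻¹ ∈ Z := by
    intro d hd x hx
    refine ⟨mul_mem (mul_mem (twoPt_le hd) hx.1) (inv_mem (twoPt_le hd)), ?_⟩
    rw [show d * x * d⁻¹ * (d * x * d⁻¹) = d * (x * x) * d⁻¹ by group, hx.2]
    simp
  have hDN : D ≤ normalizer (Z : Set G) := Subgroup.le_normalizer_iff.mpr fun d hd x hx => hconjZ d hd x hx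
  let cj : ↥D →* MulAut ↥Z :=
    { toFun := fun d =>
        { toFun := fun x => ⟨d * x * (d : G)⁻¹, hconjZ d d.2 x x.2⟩
          invFun := fun x => ⟨(d : G)⁻¹ * x * d, by
            simpa using hconjZ _ (inv_mem d.2) x x.2⟩
          left_inv := fun x => Subtype.ext (by group)
          right_inv := fun x => Subtype.ext (by group)
          map_mul' := fun x y => Subtype.ext (by simp only [Subgroup.coe_mul]; group) }
      map_one' := MulEquiv.ext fun x => Subtype.ext (by simp)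
      map_mul' := fun c d => MulEquiv.ext fun x => Subtype.ext (by simp [mul_assoc]) }
  set ρ : ↥D →* ↥cj.range := cj.rangeRestrict with hρ
  have hρsurj : Function.Surjective ρ := cj.rangeRestrict_surjective
  have hval : ∀ (d : ↥D) (x : ↥Z), (((ρ d : MulAut ↥Z) x : ↥Z) : G) = d * x * (d : G)⁻¹ :=
    fun _ _ => rfl
  have hρ1 : ∀ d : ↥D, ρ d = 1 ↔ ∀ s ∈ I, Commute (d : G) s := by
    intro d
    constructor
    · intro h s hs
      have h1 := hval d ⟨s, hs.1, hs.2.2⟩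
      rw [h] at h1
      exact (eq_mul_inv_iff_mul_eq.1 h1).symm
    · intro h
      refine Subtype.ext (MulEquiv.ext fun x => Subtype.ext ?_)
      rw [hval]
      by_cases hx : (x : G) = 1
      · rw [hx]; simpa using hx.symm
      · rw [(h x (hZI x x.2 hx)).eq, mul_inv_cancel_right]; rfl
  haveI : Group.IsSolvable ↥D := hFT ↥D hDodd
  haveI : Group.IsSolvable ↥cj.range := Group.isSolvable_of_surjective hρsurj
  have hDbodd : Odd (Nat.card ↥cj.range) := hDodd.of_dvd_nat (card_dvd_of_surjective _ hρsurj)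
  set F := Cfsg.fittingSubgroup ↥cj.range with hFdef
  -- transitivity
  have htrans : ∀ x y : ↥Z, x ≠ 1 → y ≠ 1 → ∃ d : ↥cj.range, (d : MulAut ↥Z) x = y := by
    intro x y hx hy
    obtain ⟨c, hc, e⟩ := exists_conj_invertedBy hS (hZI x x.2 fun h => hx (Subtype.ext h))
      (hZI y y.2 fun h => hy (Subtype.ext h))
    refine ⟨ρ ⟨c⁻¹, inv_mem hc.1⟩, Subtype.ext ?_⟩
    rw [hval]
    simpa using e
  -- each Sylow subgroup of `F` is cyclic and fixed-point-free
  have hsyl : ∀ (p : ℕ) [Fact p.Prime] (P : Sylow p ↥F), p ∣ Nat.card ↥F →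
      IsCyclic ↥(P : Subgroup ↥F) ∧
        ∀ g ∈ (P : Subgroup ↥F), g ≠ 1 → ∀ x : ↥Z, ((g : ↥cj.range) : MulAut ↥Z) x = x → x = 1 := by
    intro p hp P hpF
    have hp2 : p ≠ 2 := by
      rintro rfl
      exact Nat.not_even_iff_odd.2 (hDbodd.of_dvd_nat (card_subgroup_dvd_card F))
        (even_iff_two_dvd.2 hpF)
    haveI : (P : Subgroup ↥F).Normal :=
      (Group.isNilpotent_of_finite_tfae.out 0 3 rfl rfl).mp
        Core.fittingSubgroup_isNilpotent p inferInstance P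
    haveI : (P : Subgroup ↥F).Characteristic := P.characteristic_of_normal inferInstance
    set P' := (P : Subgroup ↥F).map F.subtype with hP'
    haveI : P'.Normal := inferInstance
    have hP'p : IsPGroup p ↥P' := P.2.map _
    letI : CommGroup ↥Z :=
      { (inferInstance : Group ↥Z) with mul_comm := fun x y => IsMulCommutative.is_comm.comm x y }
    letI : DistribMulAction ↥P' (Additive ↥Z) :=
      { smul := fun g e => Additive.ofMul (((g : ↥cj.range) : MulAut ↥Z) e.toMul)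
        one_smul := fun e => rfl
        mul_smul := fun g h e => rfl
        smul_zero := fun g => congrArg Additive.ofMul (map_one (((g : ↥cj.range) : MulAut ↥Z)))
        smul_add := fun g e f => congrArg Additive.ofMul
          (map_mul (((g : ↥cj.range) : MulAut ↥Z)) e.toMul f.toMul) }
    haveI : FaithfulSMul ↥P' (Additive ↥Z) := ⟨fun {g h} hgh => Subtype.ext (Subtype.ext
      (MulEquiv.ext fun x => congrArg Additive.toMul (hgh (Additive.ofMul x))))⟩
    have hmem : ∀ (g : ↥P') (e : Additive ↥Z), g ∈ MulAction.stabilizer ↥P' e ↔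
        ((g : ↥cj.range) : MulAut ↥Z) e.toMul = e.toMul := fun g e => Iff.rfl
    have hE : ∀ e : Additive ↥Z, 2 • e = 0 := fun e => by
      rw [two_nsmul]
      exact congrArg Additive.ofMul (Subtype.ext e.toMul.2.2 : e.toMul * e.toMul = 1)
    have hconst : ∀ b c : Additive ↥Z, b ≠ 0 → c ≠ 0 →
        Nat.card (MulAction.stabilizer ↥P' b) = Nat.card (MulAction.stabilizer ↥P' c) := by
      intro b c hb hc
      obtain ⟨d, hd⟩ := htrans b.toMul c.toMul (fun h => hb (congrArg Additive.ofMul h))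
        (fun h => hc (congrArg Additive.ofMul h))
      let f : ↥P' ≃* ↥P' :=
        { toFun := fun g => ⟨d * g * d⁻¹, Subgroup.Normal.conj_mem inferInstance _ g.2 d⟩
          invFun := fun g => ⟨d⁻¹ * g * d, by
            simpa using Subgroup.Normal.conj_mem (inferInstance : P'.Normal) _ g.2 d⁻¹⟩
          left_inv := fun g => Subtype.ext (by group)
          right_inv := fun g => Subtype.ext (by group)
          map_mul' := fun g h => Subtype.ext (by simp only [Subgroup.coe_mul]; group) }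
      have hfd : ∀ g : ↥P', ((f g : ↥cj.range) : MulAut ↥Z) c.toMul =
          (d : MulAut ↥Z) (((g : ↥cj.range) : MulAut ↥Z) b.toMul) := by
        intro g
        rw [← hd]
        show ((d : MulAut ↥Z) * ((g : ↥cj.range) : MulAut ↥Z) * (d : MulAut ↥Z)⁻¹)
          ((d : MulAut ↥Z) b.toMul) = _
        simp [MulAut.mul_apply, MulAut.inv_def]
      refine Nat.card_congr (f.toEquiv.subtypeEquiv fun g => ?_)
      change g ∈ MulAction.stabilizer ↥P' b ↔ f g ∈ MulAction.stabilizer ↥P' c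
      rw [hmem, hmem, hfd, ← hd, EmbeddingLike.apply_eq_iff_eq]
    obtain ⟨hc, hf⟩ := S1160.result (P := ↥P') (E := Additive ↥Z) hp2 hP'p Nat.prime_two hE hconst
    let e := Subgroup.equivMapOfInjective (P : Subgroup ↥F) _ F.subtype_injective
    refine ⟨isCyclic_of_injective e.toMonoidHom e.injective, fun g hg hg1 x hx => ?_⟩
    refine congrArg Additive.toMul (hf ⟨(g : ↥cj.range), ⟨g, hg, rfl⟩⟩ (fun h => hg1 ?_)
      (Additive.ofMul x) (congrArg Additive.ofMul hx))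
    exact Subtype.ext (show (g : ↥cj.range) = 1 from
      congrArg (fun z : ↥P' => (z : ↥cj.range)) h)
  haveI hFc : IsCyclic ↥F := by
    haveI : IsZGroup ↥F := ⟨fun p hp P => by
      haveI := Fact.mk hp
      by_cases hpF : p ∣ Nat.card ↥F
      · exact (hsyl p P hpF).1
      · have : (P : Subgroup ↥F) = ⊥ := by
          obtain ⟨n, hn⟩ := IsPGroup.iff_card.1 P.2
          refine eq_bot_of_card_eq _ ?_
          rcases n with - | n
          · rw [hn, pow_zero]
          · exact absurd ((dvd_pow_self p n.succ_ne_zero).trans (hn ▸ card_subgroup_dvd_card _)) hpF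
        rw [this]
        infer_instance⟩
    infer_instance
  have hFfree : ∀ f ∈ F, f ≠ 1 → ∀ x : ↥Z, (f : MulAut ↥Z) x = x → x = 1 := by
    intro f hf hf1 x hx
    have hne : orderOf (⟨f, hf⟩ : ↥F) ≠ 1 := fun h =>
      hf1 (congrArg Subtype.val (orderOf_eq_one_iff.1 h))
    obtain ⟨p, hp, hdvd⟩ := Nat.exists_prime_and_dvd hne
    haveI := Fact.mk hp
    set g := (⟨f, hf⟩ : ↥F) ^ (orderOf (⟨f, hf⟩ : ↥F) / p) with hg
    have hgo : orderOf g = p := orderOf_pow_orderOf_div (orderOf_pos _).ne' hdvd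
    obtain ⟨P, hP⟩ := (IsPGroup.of_card (n := 1) (by rw [Nat.card_zpowers, hgo, pow_one]) :
      IsPGroup p ↥(zpowers g)).exists_le_sylow
    refine (hsyl p P (hgo ▸ orderOf_dvd_natCard g)).2 g (hP (mem_zpowers g))
      (fun h => hp.ne_one (by rw [← hgo, h, orderOf_one])) x ?_
    have h2' : ∀ n : ℕ, ((f : MulAut ↥Z) ^ n) x = x := by
      intro n
      induction n with
      | zero => rfl
      | succ n ih => rw [pow_succ, MulAut.mul_apply, hx, ih]
    exact h2' _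
  -- the automorphism induced by `t`
  have htD : ∀ x ∈ D, t * x * t⁻¹ ∈ D := fun x hx => by
    rw [hti]; exact t_conj_twoPt hS hx
  let tD : ↥D →* ↥D :=
    { toFun := fun d => ⟨t * d * t⁻¹, htD d d.2⟩
      map_one' := Subtype.ext (by simp)
      map_mul' := fun x y => Subtype.ext (by simp only [Subgroup.coe_mul]; group) }
  have htDtD : ∀ d, tD (tD d) = d := fun d => Subtype.ext (by
    show t * (t * d * t⁻¹) * t⁻¹ = d
    rw [show t * (t * (d : G) * t⁻¹) * t⁻¹ = (t * t) * d * (t * t)⁻¹ by group, htt]; simp)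
  have hW : ∀ d : ↥D, (∀ s ∈ I, Commute (d : G) s) ↔ (Commute t (d : G) ∧ ∀ c ∈ K, Commute c (d : G)) :=
    fun d => cent_invol_iff hS d.2
  have hker : ρ.ker ≤ (ρ.comp tD).ker := by
    intro d hd
    rw [MonoidHom.mem_ker] at hd ⊢
    have hfix : tD d = d := Subtype.ext (by
      show t * d * t⁻¹ = d
      rw [((hW d).1 ((hρ1 d).1 hd)).1.eq, mul_inv_cancel_right])
    rw [MonoidHom.comp_apply, hfix, hd]
  let τ0 : ↥cj.range →* ↥cj.range := ρ.liftOfSurjective hρsurj ⟨ρ.comp tD, hker⟩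
  have hτ0 : ∀ d, τ0 (ρ d) = ρ (tD d) := fun d =>
    MonoidHom.liftOfRightInverse_comp_apply _ _ _ _ d
  have hττ : ∀ g, τ0 (τ0 g) = g := by
    intro g
    obtain ⟨d, rfl⟩ := hρsurj g
    rw [hτ0, hτ0, htDtD]
  let τ : ↥cj.range ≃* ↥cj.range :=
    { toFun := τ0, invFun := τ0, left_inv := hττ, right_inv := hττ, map_mul' := map_mul τ0 }
  have hτF : ∀ f ∈ F, τ0 f ∈ F := fun f hf => by
    have h := Core.map_fittingSubgroup τ
    rw [hFdef, ← h]
    exact ⟨f, hf, rfl⟩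
  have hρk : ∀ k : ↥D, (k : G) ∈ K → τ0 (ρ k) = (ρ k)⁻¹ := fun k hk => by
    rw [hτ0, ← map_inv]
    exact congrArg ρ (Subtype.ext hk.2)
  have hsq : ∀ k : ↥D, (ρ k) * (ρ k) ∈ F → ρ k ∈ F := by
    intro k hk
    have ho : Odd (orderOf (ρ k)) := hDbodd.of_dvd_nat (orderOf_dvd_natCard _)
    obtain ⟨m, hm⟩ := ho
    have : ρ k = ((ρ k) * (ρ k)) ^ (m + 1) := by
      rw [← pow_two, ← pow_mul, show 2 * (m + 1) = orderOf (ρ k) + 1 by omega, pow_succ,
        pow_orderOf_eq_one, one_mul]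
    rw [this]
    exact pow_mem hk _
  -- `F` consists of images of inverted elements
  have hFinv : ∀ f ∈ F, ∃ k : ↥D, (k : G) ∈ K ∧ ρ k = f := by
    intro f hf
    obtain ⟨d, rfl⟩ := hρsurj f
    obtain ⟨v, k, hv, hvt, hk, e⟩ := exists_decomp htt hDodd htD d.2
    have hde : d = (⟨v, hv⟩ : ↥D) * ⟨k, hk.1⟩ := Subtype.ext e
    refine ⟨⟨k, hk.1⟩, hk, ?_⟩
    suffices hv1 : ρ ⟨v, hv⟩ = 1 by rw [hde, map_mul, hv1, one_mul]
    have hfixv : τ0 (ρ ⟨v, hv⟩) = ρ ⟨v, hv⟩ := by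
      rw [hτ0]
      refine congrArg ρ (Subtype.ext ?_)
      show t * v * t⁻¹ = v
      rw [hvt.eq, mul_inv_cancel_right]
    have h1 := mul_mem (inv_mem (hτF _ hf)) hf
    rw [hde, map_mul, map_mul, hfixv, hρk _ hk] at h1
    rw [mul_inv_rev, inv_inv, mul_assoc, inv_mul_cancel_left] at h1
    have hkF := hsq _ h1
    have hvF : ρ ⟨v, hv⟩ ∈ F := by
      rw [hde, map_mul] at hf
      simpa using mul_mem hf (inv_mem hkF)
    by_contra hv1
    have h3 := hFfree _ hvF hv1 ⟨s0, hs0.1, hs0.2.2⟩ (Subtype.ext (by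
      rw [hval]
      have := cent_link hS hs0 hr0 e0 hv hvt.symm
      rw [this.eq, mul_inv_cancel_right]))
    exact hs0.2.1 (congrArg Subtype.val h3)
  have hKF : ∀ k : ↥D, (k : G) ∈ K → ρ k ∈ F := by
    intro k hk
    refine hsq k (Core.centralizer_fittingSubgroup_le (mem_centralizer_iff.2 fun f hf => ?_))
    have hinv : ∀ f ∈ F, τ0 f = f⁻¹ := by
      intro f hf
      obtain ⟨j, hj, rfl⟩ := hFinv f hf
      exact hρk j hj
    have hcon : ρ k * f * (ρ k)⁻¹ ∈ F := Subgroup.Normal.conj_mem inferInstance f hf _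
    have h := hinv _ hcon
    rw [map_mul, map_mul, map_inv, hρk k hk, hinv f hf] at h
    simp only [mul_inv_rev, inv_inv] at h
    have h' : (ρ k)⁻¹ * f * ρ k = ρ k * f * (ρ k)⁻¹ := by
      have := congrArg (fun z => z⁻¹) h
      simpa [mul_assoc] using this
    calc f * (ρ k * ρ k) = ρ k * ((ρ k)⁻¹ * f * ρ k) * ρ k := by group
      _ = ρ k * (ρ k * f * (ρ k)⁻¹) * ρ k := by rw [h']
      _ = ρ k * ρ k * f := by group
  have hKinj : ∀ j k : ↥D, (j : G) ∈ K → (k : G) ∈ K → ρ j = ρ k → j = k := by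
    intro j k hj hk hjk
    set w := k * j⁻¹ with hw
    have hw1 : ρ w = 1 := by rw [hw, map_mul, map_inv, hjk, mul_inv_cancel]
    obtain ⟨hwt, -⟩ := (hW w).1 ((hρ1 w).1 hw1)
    have e : (1 : G) * k = (w : G) * j := by
      rw [one_mul, hw, Subgroup.coe_mul, Subgroup.coe_inv, inv_mul_cancel_right]
    have h3 := (decomp_unique htt hDodd (Commute.one_right t) hwt hk hj e).1
    have hweq : w = 1 := Subtype.ext h3.symm
    rw [hw, mul_inv_eq_one] at hweq
    exact hweq.symm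
  obtain ⟨⟨g0, hg0⟩, hgen⟩ := IsCyclic.exists_generator (α := ↥F)
  obtain ⟨k0, hk0, rfl⟩ := hFinv g0 hg0
  have hKpow : ∀ n : ℕ, ((k0 : G)) ^ n ∈ K := fun n => pow_mem_invertedBy htt hk0 n
  have hset : ((zpowers (k0 : G) : Subgroup G) : Set G) = K := by
    ext x
    constructor
    · intro hx
      obtain ⟨n, rfl⟩ := Submonoid.mem_powers_iff _ _ |>.1 (mem_powers_iff_mem_zpowers.2 hx)
      exact hKpow n
    · intro hx
      obtain ⟨n, hn⟩ := Submonoid.mem_powers_iff _ _ |>.1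
        (mem_powers_iff_mem_zpowers.2 (hgen ⟨_, hKF ⟨x, hx.1⟩ hx⟩))
      have := hKinj (k0 ^ n) ⟨x, hx.1⟩ (by rw [Subgroup.coe_pow]; exact hKpow n) hx
        (by rw [map_pow]; exact congrArg Subtype.val hn)
      rw [show x = (k0 : G) ^ n from (congrArg Subtype.val this).symm]
      exact pow_mem (mem_zpowers _) n
  refine ⟨(k0 : G), hset, ?_, fun c hc s hs hcs => hfree c (hset ▸ hc) s hs hcs⟩
  intro d hd c hc
  obtain ⟨v, k, hv, hvt, hk, rfl⟩ := exists_decomp htt hDodd htD hd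
  have hk' : k ∈ zpowers (k0 : G) := by rw [← SetLike.mem_coe, hset]; exact hk
  have hc' : k * c * k⁻¹ ∈ zpowers (k0 : G) := mul_mem (mul_mem hk' hc) (inv_mem hk')
  rw [show v * k * c * (v * k)⁻¹ = v * (k * c * k⁻¹) * v⁻¹ by group]
  have hcK : k * c * k⁻¹ ∈ K := hset ▸ hc'
  rw [← SetLike.mem_coe, hset]
  refine ⟨mul_mem (mul_mem hv hcK.1) (inv_mem hv), ?_⟩
  have e1 : t * v * t⁻¹ = v := by rw [hvt.eq, mul_inv_cancel_right]
  calc t * (v * (k * c * k⁻¹) * v⁻¹) * t⁻¹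
      = (t * v * t⁻¹) * (t * (k * c * k⁻¹) * t⁻¹) * (t * v * t⁻¹)⁻¹ := by group
    _ = (v * (k * c * k⁻¹) * v⁻¹)⁻¹ := by rw [e1, hcK.2]; group

theorem inverted_cyclic (hFT : OddSolvable.{u}) [Finite G]
    (hS : Cfsg.IsRankOneSetup G Ω a t Q)
    (h2 : ∃ x y : G, x ≠ 1 ∧ y ≠ 1 ∧ x ≠ y ∧ x * x = 1 ∧ y * y = 1 ∧ x * y = y * x) :
    ∃ C : Subgroup G, (C : Set G) = Cfsg.invertedBy (twoPt G a t) t ∧ IsCyclic C ∧
      ∀ d ∈ twoPt G a t, ∀ c ∈ C, d * c * d⁻¹ ∈ C := by
  obtain ⟨k0, h1, h3, -⟩ := exists_generator hFT hS h2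
  exact ⟨zpowers k0, h1, inferInstance, h3⟩

/-- A Sylow 2-subgroup of `Q` is abelian or a Suzuki 2-group. -/
theorem sylow_abelian_or_suzuki (hFT : OddSolvable.{u}) [Finite G]
    (hS : Cfsg.IsRankOneSetup G Ω a t Q)
    (h2 : ∃ x y : G, x ≠ 1 ∧ y ≠ 1 ∧ x ≠ y ∧ x * x = 1 ∧ y * y = 1 ∧ x * y = y * x)
    (S : Sylow 2 ↥Q) :
    IsMulCommutative (S : Subgroup ↥Q) ∨ Cfsg.IsSuzukiTwoGroup ↥(S : Subgroup ↥Q) := by
  classical
  haveI : Fact (Nat.Prime 2) := ⟨Nat.prime_two⟩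
  refine or_iff_not_imp_left.2 fun hnc => ?_
  obtain ⟨k0, hset, -, hfree⟩ := exists_generator hFT hS h2
  set C := zpowers k0 with hC
  haveI : Group.IsNilpotent ↥Q := nilpotent_Q hS h2
  haveI : (S : Subgroup ↥Q).Normal :=
    (Group.isNilpotent_of_finite_tfae.out 0 3 rfl rfl).mp inferInstance 2 inferInstance S
  haveI := Sylow.unique_of_normal S inferInstance
  have hmemS : ∀ (y : ↥Q) (n : ℕ), y ^ 2 ^ n = 1 → y ∈ (S : Subgroup ↥Q) := by
    intro y n hy
    obtain ⟨j, -, hj⟩ := (Nat.dvd_prime_pow Nat.prime_two).1 (orderOf_dvd_of_pow_eq_one hy)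
    obtain ⟨P, hP⟩ := (IsPGroup.of_card (n := j) (by rw [Nat.card_zpowers, hj]) :
      IsPGroup 2 ↥(zpowers y)).exists_le_sylow
    exact Subsingleton.elim P S ▸ hP (mem_zpowers y)
  have hCD : ∀ c ∈ C, c ∈ twoPt G a t := fun c hc => by
    have : c ∈ Cfsg.invertedBy (twoPt G a t) t := hset ▸ hc
    exact this.1
  have hconj : ∀ (c : G) (hc : c ∈ C) (x : ↥Q), x ∈ (S : Subgroup ↥Q) →
      (⟨c * x * c⁻¹, hS.conj_mem c (twoPt_le (hCD c hc)) x x.2⟩ : ↥Q) ∈ (S : Subgroup ↥Q) := by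
    intro c hc x hx
    obtain ⟨n, hn⟩ := S.2 ⟨x, hx⟩
    refine hmemS _ n (Subtype.ext ?_)
    have hn' : (x : G) ^ 2 ^ n = 1 :=
      congrArg (fun z : ↥(S : Subgroup ↥Q) => ((z : ↥Q) : G)) hn
    show (c * x * c⁻¹) ^ 2 ^ n = 1
    rw [conj_pow, hn', mul_one, mul_inv_cancel]
  let cj : ↥C →* MulAut ↥(S : Subgroup ↥Q) :=
    { toFun := fun c =>
        { toFun := fun x => ⟨_, hconj c c.2 x x.2⟩
          invFun := fun x => ⟨_, hconj _ (inv_mem c.2) x x.2⟩
          left_inv := fun x => Subtype.ext (Subtype.ext (by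
            show (c : G)⁻¹ * ((c : G) * _ * (c : G)⁻¹) * ((c : G)⁻¹)⁻¹ = _
            group))
          right_inv := fun x => Subtype.ext (Subtype.ext (by
            show (c : G) * ((c : G)⁻¹ * _ * ((c : G)⁻¹)⁻¹) * (c : G)⁻¹ = _
            group))
          map_mul' := fun x y => Subtype.ext (Subtype.ext (by
            show (c : G) * (((x : ↥Q) : G) * ((y : ↥Q) : G)) * (c : G)⁻¹ =
              ((c : G) * _ * (c : G)⁻¹) * ((c : G) * _ * (c : G)⁻¹)
            group)) }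
      map_one' := MulEquiv.ext fun x => Subtype.ext (Subtype.ext (by simp))
      map_mul' := fun c d => MulEquiv.ext fun x => Subtype.ext (Subtype.ext (by simp [mul_assoc])) }
  have hcj : ∀ (c : ↥C) (x : ↥(S : Subgroup ↥Q)),
      (((cj c x : ↥(S : Subgroup ↥Q)) : ↥Q) : G) = c * ((x : ↥Q) : G) * (c : G)⁻¹ := fun _ _ => rfl
  have hI : ∀ x : ↥(S : Subgroup ↥Q), x ≠ 1 → x * x = 1 →
      ((x : ↥Q) : G) ∈ Cfsg.involutionsIn (stabilizer G a : Set G) := fun x h1 h =>
    ⟨hS.le (x : ↥Q).2, fun e => h1 (Subtype.ext (Subtype.ext e)),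
      congrArg (fun z : ↥(S : Subgroup ↥Q) => ((z : ↥Q) : G)) h⟩
  refine ⟨inferInstance, S.2, ?_, ?_, cj.range,
    isCyclic_of_surjective cj.rangeRestrict cj.rangeRestrict_surjective, ?_⟩
  · by_contra h
    push Not at h
    exact hnc ⟨⟨h⟩⟩
  · obtain ⟨s, hs, s', hs', hne, -⟩ := exists_two_invol hS h2
    have hinS : ∀ s ∈ Cfsg.involutionsIn (stabilizer G a : Set G),
        ∀ h : s ∈ Q, (⟨s, h⟩ : ↥Q) ∈ (S : Subgroup ↥Q) := fun s hs h => hmemS _ 1
      (Subtype.ext (by rw [pow_one, Subgroup.coe_pow, pow_two]; exact hs.2.2))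
    refine ⟨⟨_, hinS s hs (mem_I_Q hS hs)⟩, ⟨_, hinS s' hs' (mem_I_Q hS hs')⟩,
      fun e => hne (congrArg (fun z : ↥(S : Subgroup ↥Q) => ((z : ↥Q) : G)) e),
      fun e => hs.2.1 (congrArg (fun z : ↥(S : Subgroup ↥Q) => ((z : ↥Q) : G)) e),
      Subtype.ext (Subtype.ext hs.2.2),
      fun e => hs'.2.1 (congrArg (fun z : ↥(S : Subgroup ↥Q) => ((z : ↥Q) : G)) e),
      Subtype.ext (Subtype.ext hs'.2.2)⟩
  intro x y hx1 hx hy1 hy
  obtain ⟨c, hc, e⟩ := exists_conj_invertedBy hS (hI x hx1 hx) (hI y hy1 hy)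
  rw [← hset] at hc
  refine ⟨⟨cj ⟨c⁻¹, inv_mem hc⟩, ⟨_, rfl⟩⟩, Subtype.ext (Subtype.ext ?_), ?_⟩
  · show c⁻¹ * ((x : ↥Q) : G) * c⁻¹⁻¹ = _
    rw [inv_inv]
    exact e
  rintro ⟨_, d, rfl⟩ hd
  refine Subtype.ext ?_
  have hd' : (d : G) * ((x : ↥Q) : G) * (d : G)⁻¹ = c⁻¹ * ((x : ↥Q) : G) * c := by
    rw [e, ← hcj]
    exact congrArg (fun z : ↥(S : Subgroup ↥Q) => ((z : ↥Q) : G)) hd
  have h1 : Commute (c * d) ((x : ↥Q) : G) := by
    calc c * d * ((x : ↥Q) : G) = c * ((d : G) * ((x : ↥Q) : G) * (d : G)⁻¹) * d := by group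
      _ = c * (c⁻¹ * ((x : ↥Q) : G) * c) * d := by rw [hd']
      _ = ((x : ↥Q) : G) * (c * d) := by group
  have h2 := hfree _ (mul_mem hc d.2) _ (hI x hx1 hx) h1
  have h3 : d = (⟨c⁻¹, inv_mem hc⟩ : ↥C) := Subtype.ext (eq_inv_of_mul_eq_one_right h2)
  show cj d = cj _
  rw [h3]

set_option maxHeartbeats 400000 in
/-- `V / W` is cyclic. -/
theorem cent_mod_kernel_cyclic (hFT : OddSolvable.{u}) [Finite G]
    (hS : Cfsg.IsRankOneSetup G Ω a t Q)
    (h2 : ∃ x y : G, x ≠ 1 ∧ y ≠ 1 ∧ x ≠ y ∧ x * x = 1 ∧ y * y = 1 ∧ x * y = y * x) :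
    ∃ v ∈ twoPt G a t ⊓ centralizer {t},
      (twoPt G a t ⊓ centralizer {t} ⊓ centralizer (Cfsg.invertedBy (twoPt G a t) t)) ⊔
        closure {v} = twoPt G a t ⊓ centralizer {t} := by
  classical
  obtain ⟨k0, hset, hnorm, hfree⟩ := exists_generator hFT hS h2
  set D := twoPt G a t with hD
  have hk0 : k0 ∈ Cfsg.invertedBy D t := hset ▸ mem_zpowers k0
  let Z : Subgroup G :=
    { carrier := {x | x ∈ stabilizer G a ∧ x * x = 1}
      one_mem' := ⟨one_mem _, one_mul _⟩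
      inv_mem' := fun {x} hx => ⟨inv_mem hx.1, by rw [← mul_inv_rev, hx.2, inv_one]⟩
      mul_mem' := fun {x y} hx hy => by
        refine ⟨mul_mem hx.1 hy.1, ?_⟩
        by_cases hx1 : x = 1
        · subst hx1; simpa using hy.2
        by_cases hy1 : y = 1
        · subst hy1; simpa using hx.2
        have hc := invol_central hS h2 (s := x) ⟨hx.1, hx1, hx.2⟩ (mem_I_Q hS ⟨hy.1, hy1, hy.2⟩)
        rw [mul_assoc, ← mul_assoc y, ← hc, mul_assoc, hy.2, mul_one, hx.2] }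
  have hZsq : ∀ x : ↥Z, x * x = 1 := fun x => Subtype.ext x.2.2
  letI : CommGroup ↥Z :=
    { (inferInstance : Group ↥Z) with
      mul_comm := fun x y => by
        calc x * y = (x * y)⁻¹ := eq_inv_of_mul_eq_one_left (hZsq _)
          _ = y * x := by rw [mul_inv_rev, inv_eq_of_mul_eq_one_right (hZsq x),
              inv_eq_of_mul_eq_one_right (hZsq y)] }
  have hconjZ : ∀ d ∈ D, ∀ x ∈ Z, d * x * d⁻¹ ∈ Z := by
    intro d hd x hx
    refine ⟨mul_mem (mul_mem (twoPt_le hd) hx.1) (inv_mem (twoPt_le hd)), ?_⟩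
    rw [show d * x * d⁻¹ * (d * x * d⁻¹) = d * (x * x) * d⁻¹ by group, hx.2]
    simp
  letI : DistribMulAction ↥D (Additive ↥Z) :=
    { smul := fun d e => Additive.ofMul ⟨d * e.toMul * (d : G)⁻¹, hconjZ d d.2 _ e.toMul.2⟩
      one_smul := fun e => congrArg Additive.ofMul (Subtype.ext (show
        (1 : G) * e.toMul * (1 : G)⁻¹ = e.toMul by simp))
      mul_smul := fun c d e => congrArg Additive.ofMul (Subtype.ext (show
        (c : G) * d * e.toMul * ((c : G) * d)⁻¹ = c * (d * e.toMul * (d : G)⁻¹) * (c : G)⁻¹ by group))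
      smul_zero := fun d => congrArg Additive.ofMul (Subtype.ext (show
        (d : G) * 1 * (d : G)⁻¹ = 1 by simp))
      smul_add := fun d e f => congrArg Additive.ofMul (Subtype.ext (show
        (d : G) * ((e.toMul : G) * f.toMul) * (d : G)⁻¹ =
          (d * e.toMul * (d : G)⁻¹) * (d * f.toMul * (d : G)⁻¹) by group)) }
  have hsmul : ∀ (d : ↥D) (e : Additive ↥Z),
      (((d • e).toMul : ↥Z) : G) = d * e.toMul * (d : G)⁻¹ := fun _ _ => rfl
  have hzero : ∀ e : Additive ↥Z, e ≠ 0 → (e.toMul : G) ∈ Cfsg.involutionsIn (stabilizer G a : Set G) :=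
    fun e he => ⟨e.toMul.2.1, fun h => he (congrArg Additive.ofMul (Subtype.ext h : e.toMul = 1)),
      e.toMul.2.2⟩
  let T : ↥D →* AddMonoid.End (Additive ↥Z) := DistribMulAction.toAddMonoidEnd ↥D (Additive ↥Z)
  have hT : ∀ (d : ↥D) (e : Additive ↥Z), T d e = d • e := fun _ _ => rfl
  set k : ↥D := ⟨k0, hk0.1⟩ with hk
  let R : Subring (AddMonoid.End (Additive ↥Z)) := Subring.centralizer {T k}
  haveI : Finite (AddMonoid.End (Additive ↥Z)) :=
    Finite.of_injective (fun φ : AddMonoid.End (Additive ↥Z) => (φ : Additive ↥Z → Additive ↥Z))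
      DFunLike.coe_injective
  have hRk : ∀ φ ∈ R, ∀ (n : ℕ) (e : Additive ↥Z), φ (k ^ n • e) = k ^ n • φ e := by
    intro φ hφ n e
    have hc : Commute (T k) φ := Subring.mem_centralizer_iff.mp hφ _ rfl
    have h1 := (hc.pow_left n).eq
    rw [← map_pow] at h1
    exact (DFunLike.congr_fun h1 e).symm
  have horbit : ∀ x y : Additive ↥Z, x ≠ 0 → y ≠ 0 → ∃ n : ℕ, k ^ n • x = y := by
    intro x y hx hy
    obtain ⟨c, hc, e⟩ := exists_conj_invertedBy hS (hzero x hx) (hzero y hy)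
    rw [← hset] at hc
    obtain ⟨n, hn⟩ := Submonoid.mem_powers_iff _ _ |>.1
      (mem_powers_iff_mem_zpowers.2 (inv_mem hc))
    refine ⟨n, Additive.toMul.injective (Subtype.ext ?_)⟩
    rw [hsmul, Subgroup.coe_pow]
    show k0 ^ n * _ * (k0 ^ n)⁻¹ = _
    rw [hn, inv_inv]
    exact e
  obtain ⟨s, hs, -, -, -, -⟩ := exists_two_invol hS h2
  set e0 : Additive ↥Z := Additive.ofMul ⟨s, hs.1, hs.2.2⟩ with he0
  have he00 : e0 ≠ 0 := fun h => hs.2.1 (congrArg Subtype.val (congrArg Additive.toMul h))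
  haveI : Nontrivial ↥R := ⟨⟨0, 1, fun h => he00 (DFunLike.congr_fun (congrArg Subtype.val h) e0).symm⟩⟩
  haveI : NoZeroDivisors ↥R := ⟨fun {φ ψ} h => by
    by_contra hne
    push Not at hne
    obtain ⟨hφ, hψ⟩ := hne
    obtain ⟨x, hx⟩ : ∃ x, (ψ : AddMonoid.End (Additive ↥Z)) x ≠ 0 := by
      by_contra hall
      push Not at hall
      exact hψ (Subtype.ext (DFunLike.ext _ _ hall))
    have h0 : (φ : AddMonoid.End (Additive ↥Z)) ((ψ : AddMonoid.End (Additive ↥Z)) x) = 0 :=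
      DFunLike.congr_fun (congrArg Subtype.val h) x
    refine hφ (Subtype.ext (DFunLike.ext _ _ fun y => ?_))
    by_cases hy : y = 0
    · rw [hy, map_zero, map_zero]
    obtain ⟨n, rfl⟩ := horbit _ y hx hy
    rw [hRk _ φ.2, h0, smul_zero]
    rfl⟩
  haveI : IsDomain ↥R := NoZeroDivisors.to_isDomain _
  letI : Field ↥R := (Finite.isDomain_to_isField ↥R).toField
  have hVconj : ∀ v : ↥D, ∀ φ ∈ R, T v * φ * T v⁻¹ ∈ R := by
    intro v φ hφ
    rw [Subring.mem_centralizer_iff]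
    rintro _ rfl
    obtain ⟨n, hn⟩ := Submonoid.mem_powers_iff _ _ |>.1 (mem_powers_iff_mem_zpowers.2
      (hnorm (v : G)⁻¹ (inv_mem v.2) k0 (mem_zpowers k0)))
    have hm : v⁻¹ * k * v = k ^ n := Subtype.ext (by
      rw [Subgroup.coe_pow]; show _ = k0 ^ n
      rw [hn, inv_inv]; rfl)
    have h1 : T k * T v = T v * T k ^ n := by
      rw [← map_pow, ← map_mul, ← map_mul, ← hm]
      exact congrArg T (by group)
    have h2' : T v⁻¹ * T k = T k ^ n * T v⁻¹ := by
      rw [← map_pow, ← map_mul, ← map_mul, ← hm]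
      exact congrArg T (by group)
    have hc : Commute (T k ^ n) φ :=
      Commute.pow_left (Subring.mem_centralizer_iff.mp hφ _ rfl) n
    calc T k * (T v * φ * T v⁻¹) = (T k * T v) * φ * T v⁻¹ := by simp only [mul_assoc]
      _ = T v * (T k ^ n * φ) * T v⁻¹ := by rw [h1]; simp only [mul_assoc]
      _ = T v * φ * (T k ^ n * T v⁻¹) := by rw [hc.eq]; simp only [mul_assoc]
      _ = T v * φ * T v⁻¹ * T k := by rw [← h2']; simp only [mul_assoc]
  have hTT : ∀ v : ↥D, T v⁻¹ * T v = 1 := fun v => by rw [← map_mul, inv_mul_cancel, map_one]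
  let θ : ↥((D ⊓ centralizer ({t} : Set G)).subgroupOf D) →* (↥R ≃+* ↥R) :=
    { toFun := fun v =>
        { toFun := fun φ => ⟨_, hVconj v φ φ.2⟩
          invFun := fun φ => ⟨_, hVconj (v : ↥D)⁻¹ φ φ.2⟩
          left_inv := fun φ => Subtype.ext (by
            show T (v : ↥D)⁻¹ * (T (v : ↥D) * φ * T (v : ↥D)⁻¹) * T ((v : ↥D)⁻¹)⁻¹ = _
            rw [inv_inv]
            simp only [← mul_assoc, hTT, one_mul]
            rw [mul_assoc, hTT, mul_one])
          right_inv := fun φ => Subtype.ext (by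
            show T (v : ↥D) * (T (v : ↥D)⁻¹ * φ * T ((v : ↥D)⁻¹)⁻¹) * T (v : ↥D)⁻¹ = _
            have h := hTT (v : ↥D)⁻¹
            rw [inv_inv] at h ⊢
            simp only [← mul_assoc, h, one_mul]
            rw [mul_assoc, h, mul_one])
          map_mul' := fun φ ψ => Subtype.ext (by
            show T (v : ↥D) * (φ * ψ : AddMonoid.End (Additive ↥Z)) * T (v : ↥D)⁻¹ =
              (T (v : ↥D) * φ * T (v : ↥D)⁻¹) * (T (v : ↥D) * ψ * T (v : ↥D)⁻¹)
            simp only [mul_assoc]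
            rw [← mul_assoc (T (v : ↥D)⁻¹), hTT, one_mul])
          map_add' := fun φ ψ => Subtype.ext (by
            show T (v : ↥D) * (φ + ψ : AddMonoid.End (Additive ↥Z)) * T (v : ↥D)⁻¹ =
              (T (v : ↥D) * φ * T (v : ↥D)⁻¹) + (T (v : ↥D) * ψ * T (v : ↥D)⁻¹)
            rw [mul_add, add_mul]) }
      map_one' := RingEquiv.ext fun φ => Subtype.ext (by
        show T 1 * _ * T 1⁻¹ = _
        rw [inv_one, map_one, one_mul, mul_one]; rfl)
      map_mul' := fun v w => RingEquiv.ext fun φ => Subtype.ext (by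
        show T ((v : ↥D) * w) * _ * T ((v : ↥D) * w)⁻¹ =
          T (v : ↥D) * (T (w : ↥D) * _ * T (w : ↥D)⁻¹) * T (v : ↥D)⁻¹
        rw [mul_inv_rev, map_mul, map_mul]
        simp only [mul_assoc]) }
  have hker : ∀ v : ↥((D ⊓ centralizer ({t} : Set G)).subgroupOf D), θ v = 1 →
      ((v : ↥D) : G) ∈ centralizer (Cfsg.invertedBy D t) := by
    intro v hv
    have hkR : T k ∈ R := Subring.mem_centralizer_iff.mpr fun g hg => by
      rw [Set.mem_singleton_iff.mp hg]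
    have h1 : T (v : ↥D) * T k * T (v : ↥D)⁻¹ = T k :=
      congrArg Subtype.val (RingEquiv.congr_fun hv ⟨T k, hkR⟩)
    rw [← map_mul, ← map_mul] at h1
    set c := (v : ↥D) * k * (v : ↥D)⁻¹ with hc
    have hcz : k0⁻¹ * (c : G) ∈ zpowers k0 :=
      mul_mem (inv_mem (mem_zpowers k0)) (hnorm _ (v : ↥D).2 k0 (mem_zpowers k0))
    have h2' := hfree _ hcz s hs (by
      have h3 := congrArg (fun e : Additive ↥Z => ((e.toMul : ↥Z) : G)) (DFunLike.congr_fun h1 e0)
      simp only [hT, hsmul] at h3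
      show k0⁻¹ * (c : G) * s = s * (k0⁻¹ * (c : G))
      calc k0⁻¹ * (c : G) * s = k0⁻¹ * ((c : G) * s * (c : G)⁻¹) * c := by group
        _ = k0⁻¹ * (k0 * s * k0⁻¹) * c := congrArg (fun z => k0⁻¹ * z * (c : G)) h3
        _ = s * (k0⁻¹ * (c : G)) := by group)
    rw [inv_mul_eq_one] at h2'
    refine mem_centralizer_iff.2 fun x hx => ?_
    rw [← hset] at hx
    obtain ⟨n, rfl⟩ := mem_zpowers_iff.1 hx
    have h4 : Commute ((v : ↥D) : G) k0 := mul_inv_eq_iff_eq_mul.1 h2'.symm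
    exact (h4.zpow_right n).eq.symm
  haveI : IsCyclic (↥R ≃+* ↥R) := isCyclic_ringAut ↥R
  haveI : IsCyclic ↥θ.range := inferInstance
  obtain ⟨⟨g, v, rfl⟩, hgen⟩ := IsCyclic.exists_generator (α := ↥θ.range)
  have hvV : ((v : ↥D) : G) ∈ D ⊓ centralizer {t} := v.2
  refine ⟨(v : ↥D), hvV, le_antisymm (sup_le inf_le_left ((closure_le _).2 fun x hx => ?_)) fun x hx => ?_⟩
  · rw [Set.mem_singleton_iff.1 hx]
    exact hvV
  obtain ⟨n, hn⟩ := mem_zpowers_iff.1 (hgen ⟨θ ⟨⟨x, hx.1⟩, hx⟩, ⟨_, rfl⟩⟩)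
  have hn' : θ (v ^ n) = θ ⟨⟨x, hx.1⟩, hx⟩ := by
    rw [map_zpow]
    exact congrArg Subtype.val hn
  have h1 := hker (⟨⟨x, hx.1⟩, hx⟩ * (v ^ n)⁻¹) (by rw [map_mul, map_inv, hn', mul_inv_cancel])
  have h1' : x * (((v : ↥D) : G) ^ n)⁻¹ ∈ centralizer (Cfsg.invertedBy D t) := by
    simpa only [Subgroup.coe_mul, Subgroup.coe_inv, Subgroup.coe_zpow] using h1
  have e : x = x * (((v : ↥D) : G) ^ n)⁻¹ * ((v : ↥D) : G) ^ n := (inv_mul_cancel_right _ _).symm
  have hx1 : x * (((v : ↥D) : G) ^ n)⁻¹ ∈ D ⊓ centralizer ({t} : Set G) :=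
    Subgroup.mul_mem _ hx (Subgroup.inv_mem _ (Subgroup.zpow_mem _ hvV n))
  have hx2 : x * (((v : ↥D) : G) ^ n)⁻¹ ∈
      D ⊓ centralizer ({t} : Set G) ⊓ centralizer (Cfsg.invertedBy D t) := mem_inf.2 ⟨hx1, h1'⟩
  have hx3 : ((v : ↥D) : G) ^ n ∈ closure ({((v : ↥D) : G)} : Set G) :=
    Subgroup.zpow_mem _ (Subgroup.subset_closure (Set.mem_singleton ((v : ↥D) : G))) n
  rw [e]
  exact Subgroup.mul_mem _ (Subgroup.mem_sup_left hx2) (Subgroup.mem_sup_right hx3)

end Cfsg.Agent.FTCons
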