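import Cfsg.Agent.FTCons.MetaSol

/-!
The `Z*`-theorem for `2`-elements of any order, and the solvability of `[N, Q]` for a split
extension by a nonabelian `2`-group `Q` with a derived central element having the fixed points
of `Q`.
-/

set_option autoImplicit false

open Subgroup
open scoped Pointwise

namespace Cfsg.Agent.FTCons

universe u

variable {G : Type u} [Group G] [Finite G]

/-- An element of a `2`-subgroup inside the core is trivial. -/
theorem eq_one_of_mem_core {P : Subgroup G} (hP : IsPGroup 2 P) {v : G} (hv : v ∈ P)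
    (hO : v ∈ Cfsg.oddCore G) : v = 1 := by
  obtain ⟨c, hc⟩ := orderOf_two_pow hP hv
  rcases c with _ | c
  · exact orderOf_eq_one_iff.1 hc
  have hd : orderOf v ∣ Nat.card (Cfsg.pPrimeCore 2 G) := by
    rw [← Subgroup.orderOf_mk v hO]; exact orderOf_dvd_natCard _
  exact absurd ((dvd_pow_self 2 (Nat.succ_ne_zero c)).trans (hc ▸ hd))
    (Core.not_dvd_card_pPrimeCore (p := 2) (G := G))

/-- If `x` is a conjugate of `u` commuting with `t`, some conjugating element puts `t` and `x` in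
the same Sylow subgroup. -/
theorem exists_conj_le {u x : G} (P : Sylow 2 G) (hu : ∀ p ∈ (P : Subgroup G), p * u = u * p)
    (hx : IsConj u x) {K : Subgroup G} (hK : IsPGroup 2 K) (hKx : ∀ k ∈ K, k * x = x * k) :
    ∃ g : G, g * u * g⁻¹ = x ∧ K ≤ MulAut.conj g • (P : Subgroup G) := by
  obtain ⟨g, hg⟩ := isConj_iff.1 hx
  set C := centralizer ({x} : Set G) with hC
  have hR : ((g • P : Sylow 2 G) : Subgroup G) ≤ C := by
    intro p hp
    rw [Sylow.coe_subgroup_smul, Coprime.mem_conj_smul] at hp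
    refine mem_centralizer_singleton_iff.2 ?_
    rw [← hg]
    calc p * (g * u * g⁻¹) = g * (g⁻¹ * p * g * u) * g⁻¹ := by group
      _ = g * (u * (g⁻¹ * p * g)) * g⁻¹ := by rw [hu _ hp]
      _ = g * u * g⁻¹ * p := by group
  obtain ⟨R', hR'⟩ := (hK.comap_subtype (K := C)).exists_le_sylow
  obtain ⟨c, hc⟩ := MulAction.exists_smul_eq C ((g • P).subtype hR) R'
  refine ⟨(c : G) * g, ?_, fun p hp => ?_⟩
  · have hcx : (c : G) * x = x * c := mem_centralizer_singleton_iff.1 c.2
    calc (c : G) * g * u * ((c : G) * g)⁻¹ = (c : G) * (g * u * g⁻¹) * (c : G)⁻¹ := by group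
      _ = x := by rw [hg, hcx, mul_inv_cancel_right]
  · have hpC : p ∈ C := mem_centralizer_singleton_iff.2 (hKx p hp)
    have hpP : (⟨p, hpC⟩ : C) ∈ (R' : Subgroup C) := hR' hp
    rw [← hc, Sylow.coe_subgroup_smul, Subgroup.mem_pointwise_smul_iff_inv_smul_mem] at hpP
    change (((MulAut.conj c)⁻¹ (⟨p, hpC⟩ : C)) : G) ∈ ((g • P : Sylow 2 G) : Subgroup G) at hpP
    rw [Sylow.coe_subgroup_smul, Coprime.mem_conj_smul] at hpP
    rw [Coprime.mem_conj_smul]
    have e : ((c : G) * g)⁻¹ * p * ((c : G) * g)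
        = g⁻¹ * (((MulAut.conj c)⁻¹ (⟨p, hpC⟩ : C)) : G) * g := by
      simp [mul_assoc]
    rw [e]
    exact hpP

/-- Glauberman's theorem for a `2`-element conjugate to no other element of a Sylow subgroup. -/
theorem zstar_elt : ∀ (n : ℕ) (G : Type u) [Group G] [Finite G], Nat.card G = n →
    ∀ (P : Sylow 2 G) (t : G), t ∈ (P : Subgroup G) →
      (∀ g : G, g * t * g⁻¹ ∈ (P : Subgroup G) → g * t * g⁻¹ = t) →
      ∀ g : G, t * g * t⁻¹ * g⁻¹ ∈ Cfsg.oddCore G := by
  intro n
  induction n using Nat.strong_induction_on with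
  | _ n ih =>
    intro G _ _ hn P t htP hw g
    rcases eq_or_ne t 1 with rfl | ht1
    · simp
    have hcP : ∀ p ∈ (P : Subgroup G), p * t = t * p := fun p hp =>
      mul_inv_eq_iff_eq_mul.1 (hw p (mul_mem (mul_mem hp htP) (inv_mem hp)))
    have hlt : ∀ (N : Subgroup G) [N.Normal], N ≠ ⊥ → Nat.card (G ⧸ N) < n := fun N _ hne => by
      rw [← hn, ← Subgroup.index_eq_card, ← N.index_mul_card]
      exact lt_mul_of_one_lt_right (Nat.pos_of_ne_zero Subgroup.index_ne_zero_of_finite)
        (N.one_lt_card_iff_ne_bot.2 hne)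
    by_cases hO : Cfsg.oddCore G = ⊥
    · -- the involution in `⟨t⟩` is isolated, hence central
      obtain ⟨u, hut, hu, -⟩ := exists_central_involution (zpowers t)
        (P.2.to_le (zpowers_le.2 htP)) (by rwa [Ne, zpowers_eq_bot])
      obtain ⟨k, hk⟩ := mem_zpowers_iff.1 hut
      have huc : ∀ p ∈ (P : Subgroup G), p * u = u * p := fun p hp => by
        rw [← hk]
        exact ((show Commute p t from hcP p hp).zpow_right k).eq
      have hiso : ∀ h : G, h * u * h⁻¹ ∈ (P : Subgroup G) → h * u * h⁻¹ = u := by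
        intro h hh
        have htx : t * (h * u * h⁻¹) = h * u * h⁻¹ * t := (hcP _ hh).symm
        obtain ⟨c, hc, hle⟩ := exists_conj_le P huc (isConj_iff.2 ⟨h, rfl⟩)
          (P.2.to_le (zpowers_le.2 htP)) (fun v hv => by
            obtain ⟨i, rfl⟩ := mem_zpowers_iff.1 hv
            exact ((show Commute t _ from htx).zpow_left i).eq)
        have h1 := Coprime.mem_conj_smul.1 (hle (mem_zpowers t))
        have h2 : c⁻¹ * t * c⁻¹⁻¹ = t := hw c⁻¹ (by rwa [inv_inv])
        have hct : c * t * c⁻¹ = t := by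
          conv_rhs => rw [← mul_one t, ← one_mul t]
          conv_lhs => rw [← h2]
          group
        rw [← hc, ← hk, ← conj_zpow, hct]
      have hcen : u ∈ center G := mem_center_iff.2 fun g => by
        have h := Invol.zstar (Invol.isolated_of_sylow P hu hiso) g
        rw [hO, mem_bot, mul_inv_eq_one, mul_inv_eq_iff_eq_mul] at h
        exact h.symm
      have hU1 : u ≠ 1 := fun h => by rw [h, orderOf_one] at hu; omega
      have : (zpowers u).Normal := ⟨fun v hv g => by
        rw [mem_center_iff.1 (zpowers_le.2 hcen hv) g, mul_inv_cancel_right]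
        exact hv⟩
      set U := zpowers u
      have hUP : U ≤ (P : Subgroup G) := zpowers_le.2 (zpowers_le.2 htP hut)
      set f := QuotientGroup.mk' U
      have hsurj : Function.Surjective f := QuotientGroup.mk'_surjective U
      have hpre : ∀ v : G, f v ∈ ((P.mapSurjective hsurj : Sylow 2 (G ⧸ U)) : Subgroup (G ⧸ U)) →
          v ∈ (P : Subgroup G) := by
        rintro v ⟨p, hp, hpv⟩
        have := hUP (QuotientGroup.eq.1 hpv)
        rw [show v = p * (p⁻¹ * v) by group]
        exact mul_mem hp this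
      have hind := ih (Nat.card (G ⧸ U)) (hlt U (by rwa [Ne, zpowers_eq_bot])) _ rfl
        (P.mapSurjective hsurj) (f t) (mem_map_of_mem f htP) (fun q hq => by
          obtain ⟨v, rfl⟩ := hsurj q
          rw [← map_inv, ← map_mul, ← map_mul] at hq ⊢
          rw [hw v (hpre _ hq)]) (f g)
      -- the core of the quotient by a central subgroup of order two is trivial
      have hbot : Cfsg.oddCore (G ⧸ U) = ⊥ := by
        set O' := Cfsg.oddCore (G ⧸ U)
        set L := O'.comap f
        have hUL : U ≤ L := (QuotientGroup.ker_mk' U).ge.trans (f.ker_le_comap O')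
        have hodd' : ¬ 2 ∣ Nat.card O' := Core.not_dvd_card_pPrimeCore (p := 2) (G := G ⧸ U)
        have hidx : (U.subgroupOf L).index = Nat.card O' := by
          change U.relIndex L = _
          conv_rhs => rw [← Subgroup.map_comap_eq_self_of_surjective hsurj O', ← relIndex_bot_left,
            ← Subgroup.map_bot f, relIndex_map_map, QuotientGroup.ker_mk', bot_sup_eq,
            sup_eq_left.2 hUL]
        have hcardU : Nat.card U = 2 := by rw [Nat.card_zpowers, hu]
        have hcop : (Nat.card (U.subgroupOf L)).Coprime (U.subgroupOf L).index := by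
          rw [Nat.card_congr (subgroupOfEquivOfLe hUL).toEquiv, hcardU, hidx]
          exact Nat.prime_two.coprime_iff_not_dvd.2 hodd'
        obtain ⟨C, hC⟩ := exists_right_complement'_of_coprime hcop
        have hcardC : Nat.card C = Nat.card O' := by
          rw [Coprime.card_eq_index_of_isComplement' hC, hidx]
        -- the complement is the set of elements of odd order
        set V := C.map L.subtype with hV
        have hVn : V.Normal := by
          refine ⟨?_⟩
          rintro _ ⟨c, hc, rfl⟩ h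
          have hmem : h * (c : G) * h⁻¹ ∈ L := (inferInstance : L.Normal).conj_mem _ c.2 h
          refine ⟨⟨_, hmem⟩, ?_, rfl⟩
          obtain ⟨o, ho⟩ : ∃ o : ℕ, c ^ (2 * o + 1) = 1 := by
            refine ⟨Nat.card C / 2, ?_⟩
            rw [show 2 * (Nat.card C / 2) + 1 = Nat.card C by rw [hcardC] at *; omega]
            exact congrArg Subtype.val (pow_card_eq_one' (x := (⟨c, hc⟩ : C)))
          have hd : (⟨_, hmem⟩ : L) ^ (2 * o + 1) = 1 := Subtype.ext (by
            rw [SubmonoidClass.coe_pow, OneMemClass.coe_one, conj_pow, ← SubmonoidClass.coe_pow, ho,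
              OneMemClass.coe_one, mul_one, mul_inv_cancel])
          have hmul := mem_top (⟨_, hmem⟩ : L)
          rw [← hC.sup_eq_top, ← SetLike.mem_coe, normal_mul] at hmul
          obtain ⟨w, hw', c', hc', hwc⟩ := hmul
          change w * c' = _ at hwc
          have hwcen : Commute w c' := Subtype.ext ((mem_center_iff.1
            (zpowers_le.2 hcen (mem_subgroupOf.1 hw')) (c' : G)).symm)
          rw [← hwc, hwcen.mul_pow] at hd
          have hwm : w ^ (2 * o + 1) ∈ U.subgroupOf L ⊓ C := mem_inf.2 ⟨pow_mem hw' _, by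
            rw [eq_inv_of_mul_eq_one_left hd]; exact inv_mem (pow_mem hc' _)⟩
          rw [disjoint_iff.1 hC.disjoint, mem_bot] at hwm
          have hw2 : w ^ 2 = 1 := Subtype.ext (by
            obtain ⟨i, hi⟩ := mem_zpowers_iff.1 (mem_subgroupOf.1 hw')
            have hu2 : u * u = 1 := by rw [← pow_two, ← hu, pow_orderOf_eq_one]
            rw [SubmonoidClass.coe_pow, OneMemClass.coe_one, ← hi, pow_two,
              ← (Commute.refl u).mul_zpow, hu2, one_zpow])
          rw [pow_succ, pow_mul, hw2, one_pow, one_mul] at hwm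
          rw [← hwc, hwm, one_mul]
          exact hc'
        have hV1 : V = ⊥ := Invol.eq_bot_of_odd hO V (by
          rw [hV, card_map_of_injective L.subtype_injective, hcardC]; exact hodd')
        rw [hV, Subgroup.map_eq_bot_iff_of_injective _ L.subtype_injective] at hV1
        rw [hV1, card_bot] at hcardC
        exact Subgroup.eq_bot_of_card_eq _ hcardC.symm
      rw [hbot, mem_bot, ← map_inv, ← map_inv, ← map_mul, ← map_mul, ← map_mul,
        QuotientGroup.mk'_apply, QuotientGroup.eq_one_iff] at hind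
      have hgt : g * t⁻¹ * g⁻¹ ∈ (P : Subgroup G) := by
        have := mul_mem (inv_mem htP) (hUP hind)
        simpa [mul_assoc] using this
      have := hw g (by simpa [mul_assoc] using inv_mem hgt)
      rw [hO, mem_bot]
      calc t * g * t⁻¹ * g⁻¹ = t * (g * t * g⁻¹)⁻¹ := by group
        _ = 1 := by rw [this, mul_inv_cancel]
    · set O := Cfsg.oddCore G with hOdef
      set f := QuotientGroup.mk' O
      have hsurj : Function.Surjective f := QuotientGroup.mk'_surjective O
      have hind := ih (Nat.card (G ⧸ O)) (hlt O hO) _ rfl (P.mapSurjective hsurj) (f t)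
        (mem_map_of_mem f htP) (fun q hq => by
          obtain ⟨v, rfl⟩ := hsurj q
          rw [← map_inv, ← map_mul, ← map_mul] at hq ⊢
          obtain ⟨p, hp, hpv⟩ := hq
          set x := v * t * v⁻¹ with hx
          set M := (P : Subgroup G) ⊔ O
          have hxM : x ∈ M := by
            rw [show x = p * (p⁻¹ * x) by group]
            exact mul_mem (mem_sup_left hp) (mem_sup_right (QuotientGroup.eq.1 hpv))
          have hxp : IsPGroup 2 (zpowers x) := by
            obtain ⟨c, hc⟩ := orderOf_two_pow P.2 htP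
            refine IsPGroup.of_card (n := c) ?_
            rw [Nat.card_zpowers, hx, Invol.orderOf_conj, hc]
          obtain ⟨R, hR⟩ := (hxp.comap_subtype (K := M)).exists_le_sylow
          obtain ⟨w, hw'⟩ := MulAction.exists_smul_eq M R (P.subtype le_sup_left)
          have hwx : (w : G) * x * (w : G)⁻¹ ∈ (P : Subgroup G) := by
            have h1 : w * ⟨x, hxM⟩ * w⁻¹ ∈ ((P.subtype le_sup_left : Sylow 2 M) : Subgroup M) := by
              rw [← hw', Sylow.coe_subgroup_smul]
              exact Coprime.conj_mem_conj_smul (hR (mem_zpowers x))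
            exact h1
          have hfix : (w : G) * x * (w : G)⁻¹ = t := by
            have := hw ((w : G) * v) (by simpa [hx, mul_assoc] using hwx)
            simpa [hx, mul_assoc] using this
          obtain ⟨p', hp', o, ho, hpo⟩ : ∃ p' ∈ (P : Subgroup G), ∃ o ∈ O, p' * o = (w : G) := by
            have h := w.2
            rw [← SetLike.mem_coe, mul_normal] at h
            obtain ⟨p', hp', o, ho, hpo⟩ := h
            exact ⟨p', hp', o, ho, hpo⟩
          have hox : o * x * o⁻¹ = t := by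
            rw [← hpo] at hfix
            calc o * x * o⁻¹ = p'⁻¹ * (p' * o * x * (p' * o)⁻¹) * p' := by group
              _ = t := by
                rw [hfix, mul_assoc, ← hcP p' hp', inv_mul_cancel_left]
          conv_rhs => rw [← hox]
          have hfo : f o = 1 := (QuotientGroup.eq_one_iff o).2 ho
          simp only [hx, map_mul, map_inv, hfo, one_mul, inv_one, mul_one]) (f g)
      rw [show Cfsg.oddCore (G ⧸ O) = ⊥ from Core.pPrimeCore_quotient_eq_bot, mem_bot, ← map_inv,
        ← map_inv, ← map_mul, ← map_mul, ← map_mul, QuotientGroup.mk'_apply,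
        QuotientGroup.eq_one_iff] at hind
      exact hind

omit [Finite G] in
/-- A map reversing products with commuting values kills commutators. -/
theorem eq_one_of_mem_commutator {Q : Subgroup G} {f : G → G}
    (hmul : ∀ p ∈ Q, ∀ q ∈ Q, f (p * q) = f q * f p)
    (hcomm : ∀ p ∈ Q, ∀ q ∈ Q, f p * f q = f q * f p) {t : G} (ht : t ∈ ⁅Q, Q⁆) : f t = 1 := by
  have h1 : f 1 = 1 := by
    have := hmul 1 Q.one_mem 1 Q.one_mem
    rwa [one_mul, left_eq_mul] at this
  let K : Subgroup G :=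
    { carrier := {g | g ∈ Q ∧ f g = 1}
      one_mem' := ⟨Q.one_mem, h1⟩
      mul_mem' := fun {a b} ha hb => ⟨mul_mem ha.1 hb.1, by rw [hmul a ha.1 b hb.1, ha.2, hb.2, one_mul]⟩
      inv_mem' := fun {a} ha => ⟨inv_mem ha.1, by
        have := hmul a ha.1 a⁻¹ (inv_mem ha.1)
        rwa [mul_inv_cancel, h1, ha.2, mul_one, eq_comm] at this⟩ }
  have hle : ⁅Q, Q⁆ ≤ K := commutator_le.2 fun p hp q hq => by
    rw [commutatorElement_def]
    refine ⟨mul_mem (mul_mem (mul_mem hp hq) (inv_mem hp)) (inv_mem hq), ?_⟩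
    rw [hmul _ (mul_mem (mul_mem hp hq) (inv_mem hp)) _ (inv_mem hq),
      hmul _ (mul_mem hp hq) _ (inv_mem hp), hmul p hp q hq]
    calc f q⁻¹ * (f p⁻¹ * (f q * f p)) = f q⁻¹ * (f q * f p⁻¹ * f p) := by
          rw [← mul_assoc (f p⁻¹), hcomm _ (inv_mem hp) q hq]
      _ = f (q * q⁻¹) * f (p * p⁻¹) := by
          rw [hmul q hq _ (inv_mem hq), hmul p hp _ (inv_mem hp)]; group
      _ = 1 := by rw [mul_inv_cancel, mul_inv_cancel, h1, one_mul]
  exact (hle ht).2

/-- The split extension with a derived central element having the fixed points of `Q`. -/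
theorem commutator_solvable (hFT : OddSolvable.{u}) (N Q : Subgroup G) [N.Normal] (hG : Q ⊔ N = ⊤)
    (hQ : IsPGroup 2 ↥Q) (hdisj : Q ⊓ N = ⊥) (t : G)
    (htZ : t ∈ Q ⊓ centralizer (Q : Set G)) (htQ : t ∈ ⁅Q, Q⁆)
    (hC : N ⊓ centralizer (Q : Set G) = N ⊓ centralizer ({t} : Set G)) :
    Group.IsSolvable ↥⁅N, Q⁆ ∧ Odd (Nat.card ↥⁅N, Q⁆) := by
  have hcQ : ∀ n ∈ N, n * t = t * n → ∀ q ∈ Q, q * n = n * q := fun n hn hnt q hq => by
    have : n ∈ N ⊓ centralizer (Q : Set G) := hC.ge ⟨hn, mem_centralizer_singleton_iff.2 hnt⟩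
    exact mem_centralizer_iff.1 this.2 q hq
  have htc : ∀ q ∈ Q, q * t = t * q := fun q hq => mem_centralizer_iff.1 htZ.2 q hq
  have hdec : ∀ g : G, ∃ q ∈ Q, ∃ n ∈ N, q * n = g := fun g => by
    have := mem_top g
    rw [← hG, ← SetLike.mem_coe, mul_normal] at this
    obtain ⟨q, hq, n, hn, h⟩ := this
    exact ⟨q, hq, n, hn, h⟩
  have hdecP : ∀ {P : Subgroup G}, Q ≤ P → ∀ p ∈ P, ∃ q ∈ Q, ∃ n ∈ P ⊓ N, q * n = p := by
    intro P hQP p hp
    obtain ⟨q, hq, n, hn, rfl⟩ := hdec p
    exact ⟨q, hq, n, ⟨by simpa using mul_mem (inv_mem (hQP hq)) hp, hn⟩, rfl⟩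
  obtain ⟨P, hQP⟩ := hQ.exists_le_sylow
  set R := (P : Subgroup G) ⊓ N with hR
  -- `Q` centralises `R`
  have hRQ : ∀ r ∈ R, ∀ q ∈ Q, q * r = r * q := by
    set C := R ⊓ centralizer ({t} : Set G) with hCdef
    have hCq : ∀ c ∈ C, ∀ q ∈ Q, q * c = c * q := fun c hc =>
      hcQ c hc.1.2 (mem_centralizer_singleton_iff.1 hc.2)
    suffices hle : R ≤ C from fun r hr => hCq r (hle hr)
    by_contra hne
    obtain ⟨r₀, hr₀, hr₀C⟩ := SetLike.not_le_iff_exists.1 hne
    set E := C ⊔ Q with hE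
    have hEP : E ≤ (P : Subgroup G) := sup_le (inf_le_left.trans inf_le_left) hQP
    have hQn : Q ≤ normalizer (C : Set G) := fun q hq => by
      rw [mem_normalizer_iff]
      intro v
      constructor
      · intro hv; rwa [hCq v hv q hq, mul_inv_cancel_right]
      · intro hv
        have := hCq _ hv q⁻¹ (inv_mem hq)
        have e : v = q⁻¹ * (q * v * q⁻¹) * q := by group
        rw [e, this, mul_assoc _ q⁻¹, inv_mul_cancel, mul_one]
        exact hv
    have hEN : ∀ v ∈ E, v ∈ N → v ∈ C := fun v hv hvN => by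
      rw [hE, Coprime.mem_sup_of_le_normalizer hQn] at hv
      obtain ⟨c, hc, q, hq, rfl⟩ := hv
      have hq1 : q = 1 := by
        rw [← mem_bot, ← hdisj]
        exact mem_inf.2 ⟨hq, by simpa using mul_mem (N.inv_mem hc.1.2) hvN⟩
      rwa [hq1, mul_one]
    have hnil : Group.IsNilpotent (P : Subgroup G) := P.2.isNilpotent
    have hlt : E.subgroupOf (P : Subgroup G) < ⊤ := by
      rw [lt_top_iff_ne_top, Ne, subgroupOf_eq_top]
      exact fun h => hr₀C (hEN r₀ (h hr₀.1) hr₀.2)
    obtain ⟨p, hpN, hpE⟩ := SetLike.exists_of_lt (normalizerCondition_of_isNilpotent _ hlt)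
    obtain ⟨q₀, hq₀, y, hy, hyp⟩ := hdecP hQP (p : G) p.2
    have hnE : ∀ v ∈ E, (p : G) * v * (p : G)⁻¹ ∈ E := fun v hv =>
      ((mem_normalizer_iff.1 hpN ⟨v, hEP hv⟩).1 hv)
    have hynE : ∀ v ∈ E, y * v * y⁻¹ ∈ E := fun v hv => by
      have := hnE v hv
      rw [← hyp] at this
      have hq0E : q₀ ∈ E := mem_sup_right hq₀
      simpa [mul_assoc] using mul_mem (mul_mem (inv_mem hq0E) this) hq0E
    have hyC : ∀ v ∈ C, y * v * y⁻¹ ∈ C := fun v hv =>
      hEN _ (hynE v (mem_sup_left hv)) ((inferInstance : N.Normal).conj_mem v hv.1.2 y)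
    have hymap : MulAut.conj y • C = C := eq_of_le_of_card_ge (fun v hv => by
      rw [Coprime.mem_conj_smul] at hv
      simpa [mul_assoc] using hyC _ hv) (Coprime.card_conj_smul y C).ge
    have hψ : ∀ q ∈ Q, q * y * q⁻¹ * y⁻¹ ∈ C := fun q hq => by
      refine hEN _ ?_ (mul_mem ((inferInstance : N.Normal).conj_mem y hy.2 q) (inv_mem hy.2))
      rw [show q * y * q⁻¹ * y⁻¹ = q * (y * q⁻¹ * y⁻¹) by group]
      exact mul_mem (mem_sup_right hq) (hynE _ (inv_mem (mem_sup_right hq)))
    have hψc : ∀ q ∈ Q, ∀ c ∈ C, Commute (q * y * q⁻¹ * y⁻¹) c := fun q hq c hc => by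
      have h1 : y⁻¹ * c * y ∈ C := by
        rw [← Coprime.mem_conj_smul, hymap]; exact hc
      have h2 : Commute (y * q⁻¹ * y⁻¹) c := by
        change y * q⁻¹ * y⁻¹ * c = c * (y * q⁻¹ * y⁻¹)
        calc y * q⁻¹ * y⁻¹ * c = y * (q⁻¹ * (y⁻¹ * c * y)) * y⁻¹ := by group
          _ = y * (y⁻¹ * c * y * q⁻¹) * y⁻¹ := by rw [hCq _ h1 _ (inv_mem hq)]
          _ = c * (y * q⁻¹ * y⁻¹) := by group
      rw [show q * y * q⁻¹ * y⁻¹ = q * (y * q⁻¹ * y⁻¹) by group]
      exact (show Commute q c from hCq c hc q hq).mul_left h2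
    have hkill := eq_one_of_mem_commutator (Q := Q) (f := fun q => q * y * q⁻¹ * y⁻¹)
      (fun a ha b hb => by
        calc a * b * y * (a * b)⁻¹ * y⁻¹
            = a * (b * y * b⁻¹ * y⁻¹) * a⁻¹ * (a * y * a⁻¹ * y⁻¹) := by group
          _ = (b * y * b⁻¹ * y⁻¹) * (a * y * a⁻¹ * y⁻¹) := by
            rw [hCq _ (hψ b hb) a ha, mul_inv_cancel_right])
      (fun a ha b hb => hψc a ha _ (hψ b hb)) htQ
    refine hpE ?_
    rw [mem_subgroupOf, ← hyp]
    refine mul_mem (mem_sup_right hq₀) (mem_sup_left ⟨hy, mem_centralizer_singleton_iff.2 ?_⟩)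
    exact (mul_inv_eq_iff_eq_mul.1 (mul_inv_eq_one.1 hkill)).symm
  have htP : t ∈ (P : Subgroup G) := hQP htZ.1
  have hcP : ∀ p ∈ (P : Subgroup G), p * t = t * p := fun p hp => by
    obtain ⟨q, hq, r, hr, rfl⟩ := hdecP hQP p hp
    rw [mul_assoc, ← hRQ r hr t htZ.1, ← mul_assoc, htc q hq, mul_assoc]
  -- `t` is weakly closed in `P`
  have hw : ∀ g : G, g * t * g⁻¹ ∈ (P : Subgroup G) → g * t * g⁻¹ = t := by
    intro g hg
    obtain ⟨x, hx⟩ : ∃ x, x = g * t * g⁻¹ := ⟨_, rfl⟩
    rw [← hx] at hg ⊢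
    have hr : t⁻¹ * x ∈ R := by
      refine mem_inf.2 ⟨mul_mem (inv_mem htP) hg, ?_⟩
      obtain ⟨q, hq, n, hn, rfl⟩ := hdec g
      have e : t⁻¹ * x = q * ((t⁻¹ * n * t) * n⁻¹) * q⁻¹ := by
        rw [hx]
        have h := htc q hq
        calc t⁻¹ * (q * n * t * (q * n)⁻¹) = (t⁻¹ * q) * n * t * n⁻¹ * q⁻¹ := by group
          _ = (q * t⁻¹) * n * t * n⁻¹ * q⁻¹ := by
            rw [((show Commute q t from h).inv_right.eq).symm]
          _ = _ := by group
      rw [e]
      refine (inferInstance : N.Normal).conj_mem _ (mul_mem ?_ (inv_mem hn)) q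
      simpa using (inferInstance : N.Normal).conj_mem n hn t⁻¹
    have hQx : ∀ q ∈ Q, q * x = x * q := fun q hq => by
      have h1 : Commute q (t⁻¹ * x) := hRQ _ hr q hq
      simpa using ((show Commute q t from htc q hq).mul_right h1).eq
    obtain ⟨h, hh, hQh⟩ := exists_conj_le P hcP (isConj_iff.2 ⟨g, hx.symm⟩) hQ hQx
    obtain ⟨q₀, hq₀, n₀, hn₀, hqn⟩ := hdec h⁻¹
    set n := n₀⁻¹ with hn'
    have hnt : n * t * n⁻¹ = x := by
      rw [← hh, show h = n * q₀⁻¹ by rw [hn', ← inv_inv h, ← hqn]; group]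
      have := htc q₀ hq₀
      calc n * t * n⁻¹ = n * q₀⁻¹ * (q₀ * t) * n⁻¹ := by group
        _ = n * q₀⁻¹ * (t * q₀) * n⁻¹ := by rw [this]
        _ = _ := by group
    have hnN : n ∈ N := inv_mem hn₀
    have hQn : ∀ q ∈ Q, n⁻¹ * q * n ∈ (P : Subgroup G) := fun q hq => by
      have := Coprime.mem_conj_smul.1 (hQh hq)
      rw [show h = n * q₀⁻¹ by rw [hn', ← inv_inv h, ← hqn]; group] at this
      simpa [mul_assoc] using mul_mem (mul_mem (inv_mem (hQP hq₀)) this) (hQP hq₀)
    set f := fun q => (n * q * n⁻¹)⁻¹ * q with hf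
    have hfR : ∀ q ∈ Q, n⁻¹ * f q * n ∈ R := fun q hq => by
      refine mem_inf.2 ⟨?_, ?_⟩
      · rw [show n⁻¹ * f q * n = q⁻¹ * (n⁻¹ * q * n) by simp only [hf]; group]
        exact mul_mem (inv_mem (hQP hq)) (hQn q hq)
      · rw [show n⁻¹ * f q * n = (q⁻¹ * n⁻¹ * q⁻¹⁻¹) * n by simp only [hf]; group]
        exact mul_mem ((inferInstance : N.Normal).conj_mem _ (inv_mem hnN) q⁻¹) hnN
    have hcross : ∀ p ∈ Q, ∀ q ∈ Q, Commute (n * p * n⁻¹) (f q) := fun p hp q hq => by
      change n * p * n⁻¹ * f q = f q * (n * p * n⁻¹)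
      calc n * p * n⁻¹ * f q = n * (p * (n⁻¹ * f q * n)) * n⁻¹ := by group
        _ = n * (n⁻¹ * f q * n * p) * n⁻¹ := by rw [hRQ _ (hfR q hq) p hp]
        _ = _ := by group
    have ht' : t = x * f t := by simp only [hf]; rw [hnt]; group
    have hfC : ∀ q ∈ Q, ∀ p ∈ Q, Commute p (f q) := fun q hq p hp => by
      have hfN : f q ∈ N := by
        simp only [hf]
        rw [show (n * q * n⁻¹)⁻¹ * q = n * (q⁻¹ * n⁻¹ * q⁻¹⁻¹) by group]
        exact mul_mem hnN ((inferInstance : N.Normal).conj_mem _ (inv_mem hnN) q⁻¹)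
      refine hcQ _ hfN ?_ p hp
      have h1 : Commute (n * q * n⁻¹) x := by
        rw [← hnt]
        change n * q * n⁻¹ * (n * t * n⁻¹) = n * t * n⁻¹ * (n * q * n⁻¹)
        calc n * q * n⁻¹ * (n * t * n⁻¹) = n * (q * t) * n⁻¹ := by group
          _ = n * (t * q) * n⁻¹ := by rw [htc q hq]
          _ = _ := by group
      have h2 : Commute (n * q * n⁻¹) t := ht'.symm ▸ h1.mul_right (hcross q hq t htZ.1)
      exact ((h2.inv_left.mul_left (show Commute q t from htc q hq))).eq
    have hmul : ∀ a ∈ Q, ∀ b ∈ Q, f (a * b) = f a * f b := fun a ha b hb => by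
      calc f (a * b) = (n * b * n⁻¹)⁻¹ * f a * b := by simp only [hf]; group
        _ = f a * (n * b * n⁻¹)⁻¹ * b := by rw [((hcross b hb a ha).inv_left).eq]
        _ = _ := by simp only [hf]; group
    have hcm : ∀ a ∈ Q, ∀ b ∈ Q, Commute (f a) (f b) := fun a ha b hb =>
      ((hcross a ha b hb).inv_left).mul_left (hfC b hb a ha)
    have hkill := eq_one_of_mem_commutator (Q := Q) (f := f)
      (fun a ha b hb => by rw [hmul a ha b hb, (hcm a ha b hb).eq])
      (fun a ha b hb => (hcm a ha b hb).eq) htQ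
    rw [hkill, mul_one] at ht'
    exact ht'.symm
  -- so `N = (N ⊓ O(G)) C_N(Q)`
  set D := N ⊓ Cfsg.oddCore G with hD
  have hdec2 : ∀ n ∈ N, ∃ d ∈ D, d⁻¹ * n ∈ N ∧ ∀ q ∈ Q, q * (d⁻¹ * n) = d⁻¹ * n * q := by
    intro n hn
    have hz := zstar_elt (Nat.card G) G rfl P t htP hw n
    set x := n * t * n⁻¹ with hx
    have hxO : t * x⁻¹ ∈ Cfsg.oddCore G := by
      rw [show t * x⁻¹ = t * n * t⁻¹ * n⁻¹ by rw [hx]; group]; exact hz
    have hxD : t * x⁻¹ ∈ D := mem_inf.2 ⟨by
      rw [show t * x⁻¹ = t * n * t⁻¹ * n⁻¹ by rw [hx]; group]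
      exact mul_mem ((inferInstance : N.Normal).conj_mem n hn t) (inv_mem hn), hxO⟩
    set M := (P : Subgroup G) ⊔ D
    have hxM : x ∈ M := by
      rw [show x = (t * x⁻¹)⁻¹ * t by group]
      exact mul_mem (inv_mem (mem_sup_right hxD)) (mem_sup_left htP)
    have hxp : IsPGroup 2 (zpowers x) := by
      obtain ⟨c, hc⟩ := orderOf_two_pow P.2 htP
      refine IsPGroup.of_card (n := c) ?_
      rw [Nat.card_zpowers, hx, Invol.orderOf_conj, hc]
    obtain ⟨R', hR'⟩ := (hxp.comap_subtype (K := M)).exists_le_sylow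
    obtain ⟨w, hw'⟩ := MulAction.exists_smul_eq M R' (P.subtype le_sup_left)
    have hwx : (w : G) * x * (w : G)⁻¹ ∈ (P : Subgroup G) := by
      have h1 : w * ⟨x, hxM⟩ * w⁻¹ ∈ ((P.subtype le_sup_left : Sylow 2 M) : Subgroup M) := by
        rw [← hw', Sylow.coe_subgroup_smul]
        exact Coprime.conj_mem_conj_smul (hR' (mem_zpowers x))
      exact h1
    have hfix : (w : G) * x * (w : G)⁻¹ = t := by
      have := hw ((w : G) * n) (by simpa [hx, mul_assoc] using hwx)
      simpa [hx, mul_assoc] using this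
    have h := w.2
    rw [← SetLike.mem_coe, mul_normal] at h
    obtain ⟨p', hp', d, hd, hpd⟩ := h
    simp only at hpd
    refine ⟨d⁻¹, inv_mem hd, mul_mem (inv_mem (inv_mem hd.1)) hn, ?_⟩
    refine hcQ _ (mul_mem (inv_mem (inv_mem hd.1)) hn) ?_
    have hdx : d * x * d⁻¹ = t := by
      rw [← hpd] at hfix
      calc d * x * d⁻¹ = p'⁻¹ * (p' * d * x * (p' * d)⁻¹) * p' := by group
        _ = t := by rw [hfix, mul_assoc, ← hcP p' hp', inv_mul_cancel_left]
    calc d⁻¹⁻¹ * n * t = d * x * d⁻¹ * (d⁻¹⁻¹ * n) := by rw [hx]; group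
      _ = _ := by rw [hdx]
  have hle : ⁅N, Q⁆ ≤ D := commutator_le.2 fun n hn q hq => by
    obtain ⟨d, hd, -, hc⟩ := hdec2 n hn
    have h1 : n * q * n⁻¹ = d * q * d⁻¹ := by
      calc n * q * n⁻¹ = d * (d⁻¹ * n * q) * (d⁻¹ * n)⁻¹ * d⁻¹ := by group
        _ = d * (q * (d⁻¹ * n)) * (d⁻¹ * n)⁻¹ * d⁻¹ := by rw [hc q hq]
        _ = _ := by group
    rw [commutatorElement_def, h1, show d * q * d⁻¹ * q⁻¹ = d * (q * d⁻¹ * q⁻¹) by group]
    exact mul_mem hd ((inferInstance : D.Normal).conj_mem _ (inv_mem hd) q)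
  have hodd : Odd (Nat.card D) := by
    rw [← Nat.not_even_iff_odd, even_iff_two_dvd]
    exact fun h => Core.not_dvd_card_pPrimeCore (p := 2) (G := G)
      (h.trans (card_dvd_of_le (inf_le_right : D ≤ Cfsg.oddCore G)))
  have hodd' : Odd (Nat.card ↥⁅N, Q⁆) := hodd.of_dvd_nat (card_dvd_of_le hle)
  exact ⟨hFT _ hodd', hodd'⟩

end Cfsg.Agent.FTCons
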